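import Cfsg.Agent.SB.Mon.F24.Defs
import Cfsg.Agent.SB.Master
import Cfsg.Agent.SB.Mon.Odd
import Cfsg.Agent.SB.Spor.Crit
import Cfsg.Agent.DS.Sp.F24A
import Cfsg.Agent.DS.Sp.F24SB
import Cfsg.Agent.H841.SylFiveD
import Cfsg.Agent.S1698

/-!
# S5765, the row `Fi24'`: the primes `p ≥ 5` (helper64)

`as24`; `cent_le` : the centralizers of the elements of prime order; `card_le` : the order of `S`; `boxFive`.
-/

set_option autoImplicit false
set_option maxRecDepth 100000

namespace Cfsg.Agent.SB.F24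

open Subgroup Cfsg Cfsg.Agent.H786.FC
open Cfsg.Spor (Fi24)
open Cfsg.Agent.R08.FiTwentyFour (L finite_Fi24 index_commutator card_commutator)
open Cfsg.Agent.Fischer.Fi24Rep
open Cfsg.Agent.H842.ThreeCl (X)
open Cfsg.Agent.H49.Four.TEight (fgroup24)
open Cfsg.Agent.H840.Lk (zc c2 Clk Cc gen_mem not_comm_lk zc_mem c2_mem nc_zc2 card_conj)
open Cfsg.Agent.H840.NormX (fd mem_cent_pair cent_mul)
open Cfsg.Agent.DS.Sp.F24S
open Cfsg.Agent.H187.FiOdd (card_cent_conj cent_eq_of_zpowers card_cent_five card_cent_seven card_cent_big exists_conj_y7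
  card_cent_le)

theorem as24 : AS (commutator Fi24) := by
  have := finite_Fi24
  have hs : IsSimpleGroup (commutator Fi24) := S1698.result.1
  have hc : ¬ IsMulCommutative (commutator Fi24) := fun h => by
    have h1 : (Nat.card (commutator Fi24)).Prime :=
      @IsSimpleGroup.prime_card _ { (inferInstance : Group (commutator Fi24)) with mul_comm := h.1.1 } hs
    rw [card_commutator] at h1
    exact absurd (h1.eq_one_or_self_of_dvd 2 (by norm_num)) (by norm_num)
  refine ⟨inferInstance, hs, hc, eq_bot_iff.2 fun g hg => mem_bot.2 ?_⟩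
  by_cases h : g ∈ commutator Fi24
  · rcases hs.eq_bot_or_eq_top_of_normal (center (commutator Fi24)) inferInstance with h1 | h1
    · have h2 : (⟨g, h⟩ : commutator Fi24) ∈ center _ := mem_center_iff.2 fun x => Subtype.ext (hg x x.2)
      rw [h1, mem_bot] at h2
      exact congrArg Subtype.val h2
    · exact absurd ⟨⟨fun a b => mem_center_iff.1 (h1.ge (mem_top b)) a⟩⟩ hc
  · refine KFacts.FiTF.Pts.eq_one_of_comm_L fun d _ => ?_
    by_cases hd : d ∈ commutator Fi24
    · exact (hg d hd).symm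
    · have h1 := hg _ ((mul_mem_iff_of_index_two index_commutator).2 (iff_of_false h hd))
      rw [mul_assoc] at h1
      exact (mul_left_cancel h1).symm

/-! ### centralizers -/

theorem cent_two {c : Fi24} (hc : c ∈ commutator Fi24) (ho : orderOf c = 2) :
    Nat.card ↥(commutator Fi24 ⊓ centralizer {c}) ≤ 258247006617600 := by
  classical
  have := finite_Fi24
  rcases CTwoTab.FiTF.classes ⟨c, hc⟩ (by rw [Subgroup.orderOf_mk]; exact ho) with ⟨a, b, P, h⟩ | ⟨g, h⟩
  · obtain rfl : c = a * b := h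
    have h1 : ({x | ∃ y ∈ commutator Fi24 ⊓ centralizer {a * b}, y * a * y⁻¹ = x} : Set Fi24).ncard ≤ 2 := by
      refine (Set.ncard_le_ncard (t := {a, b}) ?_ (Set.toFinite _)).trans (by
        rw [Set.ncard_pair P.ne])
      rintro _ ⟨y, hy, rfl⟩
      exact (OddHalf.D4.Spor.FiTF.pair_fix P.ha P.hb P.ab P.ne
        (mul_inv_eq_iff_eq_mul.2 (mem_centralizer_singleton_iff.1 hy.2))).imp And.left And.left
    have h2 : commutator Fi24 ⊓ centralizer {a * b} ⊓ centralizer {a} ≤ R08.FiTwentyFour.Cab a b := fun x hx => by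
      have h3 := mem_centralizer_singleton_iff.1 hx.1.2
      have h4 := mem_centralizer_singleton_iff.1 hx.2
      refine R08.FiTwentyFour.mem_Cab.2 ⟨R08.FiTwentyFour.mem_commutator_iff.1 hx.1.1, h4, ?_⟩
      rw [← mul_assoc, h4, mul_assoc, mul_assoc] at h3
      exact mul_left_cancel h3
    have h3 := card_le_of_le h2
    rw [OddHalf.D4.Spor.FiTF.card_Cab P] at h3
    rw [card_conj _ a]
    exact (Nat.mul_le_mul h1 h3).trans (by norm_num)
  · obtain rfl : c = g * KFacts.FiTF.Defs.z * (g : Fi24)⁻¹ := congrArg Subtype.val h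
    refine (card_le_of_le inf_le_right).trans ?_
    rw [card_cent_conj, KFacts.FiTF.Order.card]
    norm_num

theorem cent_cl {i : Fin 5} {y : Fi24} (h : Cl i y) :
    Nat.card (centralizer ({y} : Set Fi24)) = Nat.card (centralizer ({X i} : Set Fi24)) := by
  obtain ⟨g, hg | hg⟩ := h
  · rw [← hg, card_cent_conj]
  · rw [← card_cent_conj g, hg, cent_eq_of_zpowers zpowers_inv]

open Cfsg.Agent.H48.WFour in
theorem cent_w : Nat.card (centralizer ({w} : Set Fi24)) ≤ 6 * (3 * 4245696) := by
  classical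
  have := finite_Fi24
  have h1 := H840.Lk.card_conj (centralizer ({w} : Set Fi24)) (gen .l)
  set n := ({x | ∃ y ∈ centralizer ({w} : Set Fi24), y * gen .l * y⁻¹ = x} : Set Fi24).ncard with hn
  have h2 : n ≤ 6 := by
    let S : Finset Fi24 := {gen .l, gen .k, gen .l * gen .k * gen .l, zc, c2, zc * c2 * zc}
    have hS : S.card ≤ 6 := Finset.card_le_six
    rw [← Set.ncard_coe_finset] at hS
    refine (Set.ncard_le_ncard ?_ S.finite_toSet).trans hS
    rintro _ ⟨y, hy, rfl⟩
    obtain ⟨k1, k2⟩ := six_of_comm (h := y) (mem_centralizer_singleton_iff.1 hy)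
    simp only [S, Finset.coe_insert, Finset.coe_singleton, Set.mem_insert_iff, Set.mem_singleton_iff]
    rcases k2 with k2 | k2
    · rcases H840.NormX.inv_three fg (gen_mem .l) (gen_mem .k) k1 not_comm_lk k2 with h3 | h3 | h3
      · exact Or.inl h3
      · exact Or.inr (Or.inl h3)
      · exact Or.inr (Or.inr (Or.inl h3))
    · rcases H840.NormX.inv_three fg zc_mem c2_mem k1 nc_zc2 k2 with h3 | h3 | h3
      · exact Or.inr (Or.inr (Or.inr (Or.inl h3)))
      · exact Or.inr (Or.inr (Or.inr (Or.inr (Or.inl h3))))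
      · exact Or.inr (Or.inr (Or.inr (Or.inr (Or.inr h3))))
  have h3 : centralizer ({w} : Set Fi24) ⊓ centralizer ({gen .l} : Set Fi24) ≤ zpowers (zc * c2) ⊔ Cc := by
    rintro g ⟨hg1, hg2⟩
    have gw : Commute g w := mem_centralizer_singleton_iff.1 hg1
    have gl : Commute g (gen .l) := mem_centralizer_singleton_iff.1 hg2
    have gk : Commute g (gen .k) := by
      rw [← w_l]
      exact (gw.mul_right gl).mul_right gw.inv_right
    have gz : Commute g (zc * c2) := by
      have h4 := (gl.mul_right gk).inv_right.mul_right gw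
      rwa [w_eq, inv_mul_cancel_left] at h4
    obtain ⟨x, ⟨m, rfl⟩, u, hu, rfl⟩ := cent_mul fgroup24 zc_mem c2_mem nc_zc2 gz
    rw [mem_cent_pair] at hu
    refine mul_mem (mem_sup_left (zpow_mem_zpowers _ m)) (mem_sup_right ?_)
    rw [← H840.M500.cent_lkzc, mem_cent4]
    refine ⟨?_, ?_, hu.1, hu.2⟩
    · have h4 := ((lz.mul_right lc).zpow_right m).inv_right.mul_right gl.symm
      rwa [inv_mul_cancel_left] at h4
    · have h4 := ((kz.mul_right kc).zpow_right m).inv_right.mul_right gk.symm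
      rwa [inv_mul_cancel_left] at h4
  have h4 : zpowers (zc * c2) ≤ normalizer (Cc : Set Fi24) := by
    refine zp_le_norm fun a ha => ?_
    rw [← H840.M500.cent_lkzc, mem_cent4] at ha
    exact ha.2.2.1.mul_left ha.2.2.2
  have h5 := (card_dvd_of_le h3).trans (card_sup_dvd h4)
  rw [Nat.card_zpowers, H840.NormX.orderOf_mul (fd fgroup24) zc_mem c2_mem nc_zc2, H840.Lk.card_Cc] at h5
  rw [h1]
  exact Nat.mul_le_mul h2 (Nat.le_of_dvd (by norm_num) h5)

theorem cent_three {y : Fi24} (ho : orderOf y = 3) : Nat.card (centralizer ({y} : Set Fi24)) ≤ 258247006617600 := by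
  have := finite_Fi24
  have h3 : y ^ 3 = 1 := ho ▸ pow_orderOf_eq_one y
  have h1 : y ≠ 1 := fun e => by
    rw [e, orderOf_one] at ho
    exact absurd ho (by norm_num)
  have h2 := card_le_of_le (cent_le_norm y)
  obtain ⟨i, h⟩ := cl_all h3 h1
  fin_cases i
  · have h4 : centralizer ({gen .l * gen .k} : Set Fi24) ≤ zpowers (gen .l * gen .k) ⊔ Clk := fun g hg => by
      obtain ⟨x, hx, u, hu, rfl⟩ := cent_mul fgroup24 (gen_mem .l) (gen_mem .k) not_comm_lk
        (mem_centralizer_singleton_iff.1 hg)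
      exact mul_mem (mem_sup_left hx) (mem_sup_right hu)
    have h5 := (card_dvd_of_le h4).trans (card_sup_dvd (zp_le_norm fun a ha =>
      (mem_cent_pair.1 ha).1.mul_left (mem_cent_pair.1 ha).2))
    rw [Nat.card_zpowers, H840.NormX.orderOf_mul (fd fgroup24) (gen_mem .l) (gen_mem .k) not_comm_lk,
      H840.Lk.card_Clk] at h5
    exact (cent_cl h).trans_le ((Nat.le_of_dvd (by norm_num) h5).trans (by norm_num))
  · obtain ⟨A, -, a1, -, a2⟩ := cl1 h3 h1 h
    have h4 := card_eq_mul (inf_le_right : A ⊓ normalizer ((zpowers y : Subgroup Fi24) : Set Fi24) ≤ _)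
    rw [inf_relIndex_right, a2] at h4
    have h5 := card_le_of_le (inf_le_left : A ⊓ normalizer ((zpowers y : Subgroup Fi24) : Set Fi24) ≤ _)
    omega
  · obtain ⟨φ, a1, a2, -⟩ := cl2 h
    rw [← a2, ← Nat.card_congr (MonoidHom.ofInjective a1).toEquiv, H841.Tri.card_NX] at h2
    exact h2.trans (by norm_num)
  · exact h2.trans ((cl3 h3 h1 h).1.trans_le (by norm_num))
  · exact ((cent_cl h).trans (cent_cl (i := 4) H48.WFour.w_X).symm).trans_le (cent_w.trans (by norm_num))

/-- **The centralizers of the elements of prime order.** -/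
theorem cent_le {c : Fi24} (hc : c ∈ commutator Fi24) (ho : (orderOf c).Prime) :
    Nat.card ↥(commutator Fi24 ⊓ centralizer {c}) ≤ 258247006617600 := by
  have := finite_Fi24
  by_cases h2 : orderOf c = 2
  · exact cent_two hc h2
  refine (card_le_of_le inf_le_right).trans ?_
  by_cases h3 : orderOf c = 3
  · exact cent_three h3
  · exact (card_cent_le ho (ho.five_le_of_ne_two_of_ne_three h2 h3) rfl).trans (by norm_num)

theorem le_cls {c : Fi24} (hc : c ∈ commutator Fi24) (ho : (orderOf c).Prime) : 4860485028 ≤ cls (commutator Fi24) c := by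
  have := finite_Fi24
  have h1 := cls_mul_card (commutator Fi24) c
  have h2 := Nat.mul_le_mul_right (cls (commutator Fi24) c) (cent_le hc ho)
  rw [h1, card_commutator] at h2
  omega

/-! ### the order of `S` -/

theorem card_norm {E : Subgroup Fi24} (h : Nat.card E = 25) : Nat.card (normalizer (E : Set Fi24)) ≤ 57600 := by
  have := finite_Fi24
  have : Fact (Nat.Prime 5) := ⟨Nat.prime_five⟩
  obtain ⟨-, -, ⟨e⟩, -, -, -, -, -, h1, h2⟩ := H841.Five.main (MulEquiv.refl Fi24) (D := L) (Set.image_id _)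
    (Sylow.ofCard E (by rw [h, H841.Five.fac]; norm_num))
  rw [Sylow.coe_ofCard] at e h1 h2
  rw [← h1, sup_comm]
  refine Nat.le_of_dvd (by norm_num) ((card_sup_dvd (inf_le_right.trans (centralizer_le_normalizer _))).trans ?_)
  rw [h2, Nat.card_congr e.toEquiv, Nat.card_perm, Nat.card_fin]
  norm_num

theorem card_le {S E : Subgroup Fi24} {p : ℕ} (hp : p.Prime) (h5 : 5 ≤ p) (hE : IsPGroup p E) (h0 : E ≠ ⊥)
    (hS : ∀ s ∈ S, ∀ x ∈ E, s * x * s⁻¹ ∈ E) : Nat.card S ≤ 15039864 := by
  have := finite_Fi24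
  have := Fact.mk hp
  have key : ∀ y ∈ E, ∀ a b : ℕ, Nat.card E ≤ a → Nat.card (centralizer ({y} : Set Fi24)) ≤ b → a * b ≤ 15039864 →
      Nat.card S ≤ 15039864 := fun y hy a b h1 h2 h3 =>
    ((Mon.card_le_of_conj fun s hs => hS s hs y hy).trans
      (Nat.mul_le_mul h1 ((card_le_of_le inf_le_right).trans h2))).trans h3
  have hd : p ∣ Nat.card E := (hE.card_eq_or_dvd).resolve_left fun h => h0 (card_eq_one.1 h)
  obtain ⟨y, hy⟩ := exists_prime_orderOf_dvd_card' p hd
  rw [← Subgroup.orderOf_coe] at hy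
  have pw : ∀ {r k : ℕ}, r.Prime → Nat.card E = r ^ k → orderOf (y : Fi24) = r := fun hr h =>
    hy.trans ((Nat.prime_dvd_prime_iff_eq hp hr).1 (hp.dvd_of_dvd_pow (h ▸ hd)))
  have seven : orderOf (y : Fi24) = 7 → Nat.card (centralizer ({(y : Fi24)} : Set Fi24)) ≤ 306936 := fun h =>
    (card_cent_seven h).elim (fun h => h.2.trans (by norm_num)) And.right
  obtain ⟨h, -⟩ | ⟨h, -⟩ | ⟨-, h⟩ := DS.Sp.F24.card_cases hp hE h0
  · omega
  · omega
  simp only [List.mem_cons, List.not_mem_nil, or_false] at h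
  rcases h with h | h | h | h | h | h | h | h | h | h
  · exact key y y.2 _ _ h.le (card_cent_five (pw (k := 1) Nat.prime_five h)) (by norm_num)
  · exact (card_le_of_le (le_normalizer_of_conj hS)).trans ((card_norm h).trans (by norm_num))
  · exact key y y.2 _ _ h.le (seven (pw (k := 1) Nat.prime_seven h)) (by norm_num)
  · exact key y y.2 _ _ h.le (seven (pw (k := 2) Nat.prime_seven h)) (by norm_num)
  · obtain ⟨z, h1, h2, h3⟩ := exists_conj_y7 h
    exact key z h1 _ _ h.le ((card_cent_seven h2).resolve_right fun h => h.1 h3).2 (by norm_num)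
  all_goals
    have h1 := pw (k := 1) (by norm_num) (h.trans (pow_one _).symm)
    exact key y y.2 _ _ h.le (card_cent_big (by norm_num) h1) (by norm_num)

/-- **The primes `p ≥ 5`.** -/
theorem boxFive : BoxFive := by
  intro S _ _ p hp h5 hn
  have := finite_Fi24
  simp only [NPar, not_forall] at hn
  obtain ⟨E, -, h1, h2, h3⟩ := hn
  have h4 : Nat.card ↥(S ⊓ commutator Fi24) ≤ 15039864 := (card_le_of_le inf_le_left).trans (card_le hp h5 h1 h3 h2)
  refine Spor.seven_of_inner as24 (fun a _ b _ ha hb => (mul_mem_iff_of_index_two index_commutator).2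
    (iff_of_false ha fun h => hb (inv_mem_iff.1 h))) (four_of_card 4860485028 ((Nat.pow_le_pow_left h4 4).trans (by norm_num))
      fun c hc => le_cls hc.2) (fun u hu hu1 => ?_) (by rw [card_commutator]; omega)
  have h6 := fp_le_iff.1 (fp_le_of_prime (T := commutator Fi24) (S := S ⊓ commutator Fi24) (e := 1 / 2) (by norm_num)
    (fun c _ hc ho => (fp_le_div ((meet_le_card _ _ c).trans h4) (le_cls hc ho) (by norm_num)).trans (by norm_num)) u hu hu1)
  have h7 : (2 : ℚ) * hits (commutator Fi24) (S ⊓ commutator Fi24) u ≤ Nat.card (commutator Fi24) := by linarith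
  exact_mod_cast h7

end Cfsg.Agent.SB.F24
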