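import Cfsg.Agent.SB.Mon.F24.Defs
import Cfsg.Agent.DS.Sp.F24ATools

/-!
# S5765, the row `Fi24'`: the abstract 3-local geometry (helper56)

`boxGeo : BoxGeo`; the proof is the one of `notes/SB/fi24n.md`.
-/

set_option autoImplicit false
set_option linter.unusedSectionVars false

namespace Cfsg.Agent.SB.F24

open Subgroup Cfsg

namespace Geo

variable {G : Type} [Group G]

theorem zp {p x : G} (hp : p ^ 3 = 1) (hx : x ∈ zpowers p) : x = 1 ∨ x = p ∨ x = p⁻¹ := by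
  obtain ⟨k, rfl⟩ := hx
  have h1 : p ^ k = p ^ (k % 3) := zpow_eq_zpow_emod' k hp
  have h2 : k % 3 = 0 ∨ k % 3 = 1 ∨ k % 3 = 2 := by omega
  show p ^ k = 1 ∨ p ^ k = p ∨ p ^ k = p⁻¹
  rw [h1]
  rcases h2 with h | h | h <;> rw [h]
  · exact Or.inl (zpow_zero p)
  · exact Or.inr (Or.inl (zpow_one p))
  · refine Or.inr (Or.inr (eq_inv_of_mul_eq_one_left ?_))
    rw [← hp, zpow_two, pow_three, mul_assoc]

/-- a subgroup which contains a non-trivial power of `p` contains `p` -/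
theorem mem_of_zp {p x : G} (hp : p ^ 3 = 1) (hx : x ∈ zpowers p) (h1 : x ≠ 1) {K : Subgroup G} (h : x ∈ K) : p ∈ K := by
  rcases zp hp hx with rfl | rfl | rfl
  · exact absurd rfl h1
  · exact h
  · exact inv_mem_iff.1 h

theorem comm_zp {p x z : G} (h : Commute x p) (hz : z ∈ zpowers p) : Commute x z := by
  obtain ⟨k, rfl⟩ := hz
  exact h.zpow_right k

theorem conj_comm {a b : G} (h : Commute a b) (g : G) : Commute (g * a * g⁻¹) (g * b * g⁻¹) := h.map (MulAut.conj g)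

theorem comm_of_eq_one {a b : G} (h : a * b * a⁻¹ * b⁻¹ = 1) : Commute a b :=
  mul_inv_eq_iff_eq_mul.1 (mul_inv_eq_one.1 h)

theorem conj_of_comm {a b : G} (h : Commute a b) : a * b * a⁻¹ = b := by rw [h.eq, mul_inv_cancel_right]

theorem mem_cen {a b : G} : a ∈ centralizer ({b} : Set G) ↔ Commute a b := mem_centralizer_singleton_iff

theorem closure_comm {X : Set G} (h : ∀ a ∈ X, ∀ b ∈ X, Commute a b) {x y : G} (hx : x ∈ closure X)
    (hy : y ∈ closure X) : Commute x y := by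
  have h1 : ∀ a ∈ X, Commute y a := fun a ha =>
    mem_cen.1 ((closure_le (centralizer {a})).2 (fun b hb => mem_cen.2 (h b hb a ha)) hy)
  exact mem_cen.1 ((closure_le (centralizer {y})).2 (fun a ha => mem_cen.2 (h1 a ha).symm) hx)

theorem closure_pg {X : Set G} (h : ∀ a ∈ X, ∀ b ∈ X, Commute a b) (h3 : ∀ a ∈ X, a ^ 3 = 1) :
    IsPGroup 3 (closure X) := by
  have key : ∀ x ∈ closure X, x ^ 3 = 1 := fun x hx => by
    induction hx using closure_induction with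
    | mem a ha => exact h3 a ha
    | one => exact one_pow 3
    | mul a b ha hb iha ihb => rw [(closure_comm h ha hb).mul_pow, iha, ihb, one_mul]
    | inv a _ iha => rw [inv_pow, iha, inv_one]
  exact fun x => ⟨1, Subtype.ext (by rw [pow_one]; exact key x x.2)⟩

theorem conj_closure {X : Set G} {K : Subgroup G} {g : G} (h : ∀ a ∈ X, g * a * g⁻¹ ∈ K) {y : G} (hy : y ∈ closure X) :
    g * y * g⁻¹ ∈ K :=
  (closure_le (K.comap (MulAut.conj g).toMonoidHom)).2 h hy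

theorem le_norm {A Y : Subgroup G} (h : ∀ g ∈ A, ∀ y ∈ Y, g * y * g⁻¹ ∈ Y) : A ≤ normalizer (Y : Set G) :=
  fun g hg => mem_normalizer_iff.2 fun y => ⟨h g hg y, fun hy => by
    have h1 := h g⁻¹ (inv_mem hg) _ hy
    rwa [show g⁻¹ * (g * y * g⁻¹) * g⁻¹⁻¹ = y by group] at h1⟩

theorem solv_mono {A B : Subgroup G} (h : A ≤ B) (hB : Group.IsSolvable B) : Group.IsSolvable A :=
  Group.isSolvable_of_isSolvable_injective (f := inclusion h) (inclusion_injective h)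

theorem card_le_mul [Finite G] (B Z : Subgroup G) (x : G) (h : ∀ b ∈ B, b * x * b⁻¹ * x⁻¹ ∈ Z) :
    Nat.card B ≤ Nat.card Z * Nat.card ↥(B ⊓ centralizer {x}) := by
  let f : B → Z := fun b => ⟨_, h b b.2⟩
  have hf : ∀ b : B, ((Function.invFun f (f b) : B) : G)⁻¹ * b ∈ B ⊓ centralizer {x} := fun b => by
    refine ⟨B.mul_mem (B.inv_mem (Function.invFun f (f b)).2) b.2, mem_centralizer_singleton_iff.2 ?_⟩
    have h1 : f (Function.invFun f (f b)) = f b := Function.invFun_eq ⟨b, rfl⟩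
    generalize Function.invFun f (f b) = c at h1
    have h2 : (c : G) * x * (c : G)⁻¹ = b * x * (b : G)⁻¹ := mul_right_cancel (congrArg Subtype.val h1)
    calc (c : G)⁻¹ * b * x = (c : G)⁻¹ * (b * x * (b : G)⁻¹) * b := by group
      _ = _ := by rw [← h2]; group
  rw [← Nat.card_prod]
  refine Nat.card_le_card_of_injective (fun b => (f b, ⟨_, hf b⟩)) fun b b' e => ?_
  have h1 : f b = f b' := congrArg Prod.fst e
  have h2 : ((Function.invFun f (f b) : B) : G)⁻¹ * b = ((Function.invFun f (f b') : B) : G)⁻¹ * b' :=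
    congrArg (fun y : Z × ↥(B ⊓ centralizer {x}) => (y.2 : G)) e
  rw [h1] at h2
  exact Subtype.ext (mul_left_cancel h2)

theorem conj_inv_shift {y a u : G} (h : y * a * y⁻¹ = a * u) (hu : Commute y u) : y⁻¹ * a * y⁻¹⁻¹ = a * u⁻¹ := by
  calc y⁻¹ * a * y⁻¹⁻¹ = y⁻¹ * (a * u) * (u⁻¹ * y) := by group
    _ = a * (y⁻¹ * (u⁻¹ * y)) := by rw [← h]; group
    _ = _ := by rw [← hu.inv_right.eq, inv_mul_cancel_left]

/-- the elementary transformations -/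
def El (a b c x : G) : Prop := x * b * x⁻¹ = b * a ∧ Commute x a ∧ Commute x c

theorem El.comm {a b c x y : G} (hac : Commute a c) (hx : El a c b x) (hy : El c b a y) :
    El a b c (x * y * x⁻¹ * y⁻¹) := by
  have h1 := conj_inv_shift hx.1 hx.2.1
  have h2 := conj_inv_shift hy.1 hy.2.1
  refine ⟨?_, (((hx.2.1.mul_left hy.2.2)).mul_left hx.2.1.inv_left).mul_left hy.2.2.inv_left, ?_⟩
  · calc x * y * x⁻¹ * y⁻¹ * b * (x * y * x⁻¹ * y⁻¹)⁻¹ = x * y * x⁻¹ * (y⁻¹ * b * y⁻¹⁻¹) * (x * y * x⁻¹)⁻¹ := by group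
      _ = x * y * ((x⁻¹ * b * x⁻¹⁻¹) * (x⁻¹ * c * x⁻¹⁻¹)⁻¹) * (x * y)⁻¹ := by rw [h2]; group
      _ = x * ((y * b * y⁻¹) * (y * a * y⁻¹) * (y * c * y⁻¹)⁻¹) * x⁻¹ := by
        rw [h1, conj_of_comm hx.2.2.inv_left]
        group
      _ = (x * b * x⁻¹) * (x * a * x⁻¹) := by
        rw [hy.1, conj_of_comm hy.2.2, conj_of_comm hy.2.1, mul_assoc b c a, ← hac.eq]
        group
      _ = b * a := by rw [conj_of_comm hx.2.2, conj_of_comm hx.2.1]
  · refine mul_inv_eq_iff_eq_mul.1 ?_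
    calc x * y * x⁻¹ * y⁻¹ * c * (x * y * x⁻¹ * y⁻¹)⁻¹ = x * y * x⁻¹ * (y⁻¹ * c * y⁻¹⁻¹) * (x * y * x⁻¹)⁻¹ := by group
      _ = x * y * (x⁻¹ * c * x⁻¹⁻¹) * (x * y)⁻¹ := by rw [conj_of_comm hy.2.1.inv_left]; group
      _ = x * ((y * c * y⁻¹) * (y * a * y⁻¹)⁻¹) * x⁻¹ := by rw [h1]; group
      _ = (x * c * x⁻¹) * (x * a * x⁻¹)⁻¹ := by rw [conj_of_comm hy.2.1, conj_of_comm hy.2.2]; group
      _ = c := by rw [hx.1, conj_of_comm hx.2.1, mul_inv_cancel_right]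

variable {T : Subgroup G} {Pt : G → Prop} {Q : G → Subgroup G} (H : Geo T Pt Q) {p q w : G}

include H

theorem self (hp : Pt p) : p ∈ Q p := (H.es hp).le (mem_zpowers p)

theorem comm (hp : Pt p) {x : G} (hx : x ∈ Q p) : Commute x p := ((H.es hp).cen p (mem_zpowers p) x hx).symm

theorem card_zp (hp : Pt p) : Nat.card (zpowers p) = 3 := by
  rw [Nat.card_zpowers, orderOf_eq_prime (H.cube hp) (H.ne hp)]

theorem norm (hp : Pt p) {g x : G} (hg : Commute g p) (hx : x ∈ Q p) : g * x * g⁻¹ ∈ Q p := by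
  have h1 := H.Q_conj hp g x hx
  rwa [conj_of_comm hg] at h1

theorem shift' (hp : Pt p) {x a : G} (hx : x ∈ Q p) (ha : a ∈ Q p) (h : ¬ Commute x a) :
    ∃ y, (y = x ∨ y = x⁻¹) ∧ y * a * y⁻¹ = a * p := by
  have h1 := (H.es hp).com x hx a ha
  have e : x * a * x⁻¹ = a * (x * a * x⁻¹ * a⁻¹) := by
    rw [(comm_zp (H.comm hp ha) h1).eq, inv_mul_cancel_right]
  rcases zp (H.cube hp) h1 with h2 | h2 | h2
  · exact absurd (comm_of_eq_one h2) h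
  · exact ⟨x, Or.inl rfl, by rwa [h2] at e⟩
  · rw [h2] at e
    have h3 := conj_inv_shift e (H.comm hp hx).inv_right
    exact ⟨x⁻¹, Or.inr rfl, by rwa [inv_inv p] at h3⟩

theorem shift (hp : Pt p) {a : G} (ha : a ∈ Q p) (h : a ∉ zpowers p) : ∃ y ∈ Q p, y * a * y⁻¹ = a * p := by
  obtain ⟨x, hx, h1⟩ : ∃ x ∈ Q p, ¬ Commute x a := by
    by_contra h2
    push Not at h2
    exact h ((H.es hp).nd a ha fun x hx => (h2 x hx).symm)
  obtain ⟨y, rfl | rfl, h2⟩ := H.shift' hp hx ha h1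
  · exact ⟨_, hx, h2⟩
  · exact ⟨_, inv_mem hx, h2⟩

theorem pt_mul (hp : Pt p) (hq : Pt q) (h : q ∈ Q p) (hn : q ∉ zpowers p) {z : G} (hz : z ∈ zpowers p) : Pt (q * z) := by
  obtain ⟨y, hy, e⟩ := H.shift hp h hn
  rcases zp (H.cube hp) hz with rfl | rfl | rfl
  · rwa [mul_one]
  · exact e ▸ H.conj hq y
  · exact conj_inv_shift e (H.comm hp hy) ▸ H.conj hq y⁻¹

theorem symm (hp : Pt p) (hq : Pt q) (h : q ∈ Q p) : p ∈ Q q := by
  by_cases hn : q ∈ zpowers p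
  · exact mem_of_zp (H.cube hp) hn (H.ne hq) (H.self hq)
  · have hc := H.comm hp h
    refine H.pure hq hp hc ?_ ?_
    · rw [← hc.eq]
      exact H.pt_mul hp hq h hn (mem_zpowers p)
    · have h1 := H.inv (H.pt_mul hp hq h hn (inv_mem (mem_zpowers p)))
      rwa [mul_inv_rev, inv_inv] at h1

theorem zp_le (hp : Pt p) (hq : Pt q) (h : q ∈ Q p) {z : G} (hz : z ∈ zpowers p) : z ∈ Q q :=
  zpowers_le.2 (H.symm hp hq h) hz

theorem inf_zp (_hp : Pt p) (hw : Pt w) (hn : w ∉ zpowers p) {z : G} (h1 : z ∈ zpowers p) (h2 : z ∈ zpowers w) : z = 1 := by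
  by_contra h
  exact hn (mem_of_zp (H.cube hw) h2 h h1)

theorem comm_inf (hp : Pt p) (hw : Pt w) (hn : w ∉ zpowers p) {x y : G} (hx : x ∈ Q p) (hx' : x ∈ Q w) (hy : y ∈ Q p)
    (hy' : y ∈ Q w) : Commute x y :=
  comm_of_eq_one (H.inf_zp hp hw hn ((H.es hp).com x hx y hy) ((H.es hw).com x hx' y hy'))

theorem meet' (hp : Pt p) (hw : Pt w) (hc : Commute p w) (hn : w ∉ Q p) (hq : Pt q) (h : q ∈ Q p) (hc' : Commute q w) :
    ∃ z ∈ zpowers p, q * z ∈ Q w := by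
  by_cases h1 : q ∈ zpowers p
  · exact ⟨q⁻¹, inv_mem h1, by rw [mul_inv_cancel]; exact one_mem _⟩
  rcases H.meet hw hq hp (H.pt_mul hp hq h h1 (mem_zpowers p)) (H.pt_mul hp hq h h1 (inv_mem (mem_zpowers p)))
    hc'.symm hc.symm (H.comm hp h) with h2 | h2 | h2 | h2
  · exact ⟨1, one_mem _, by rwa [mul_one]⟩
  · exact absurd (H.symm hw hp h2) hn
  · exact ⟨p, mem_zpowers p, h2⟩
  · exact ⟨p⁻¹, inv_mem (mem_zpowers p), h2⟩

theorem comm_pts (hp : Pt p) (hw : Pt w) (hc : Commute p w) (hn : w ∉ Q p) {a b : G} (ha : Pt a) (ha' : a ∈ Q p)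
    (ha'' : Commute a w) (hb : Pt b) (hb' : b ∈ Q p) (hb'' : Commute b w) : Commute a b := by
  obtain ⟨z, hz, h1⟩ := H.meet' hp hw hc hn ha ha' ha''
  obtain ⟨z', hz', h2⟩ := H.meet' hp hw hc hn hb hb' hb''
  have h3 := H.comm_inf hp hw (fun h => hn ((H.es hp).le h)) (mul_mem ha' ((H.es hp).le hz)) h1
    (mul_mem hb' ((H.es hp).le hz')) h2
  have h4 : Commute (a * z) b := by
    have h5 := h3.mul_right (comm_zp (H.comm hp (mul_mem ha' ((H.es hp).le hz))) hz').inv_right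
    rwa [mul_inv_cancel_right] at h5
  have h5 := h4.mul_left (comm_zp (H.comm hp hb') hz).inv_right.symm
  rwa [mul_inv_cancel_right] at h5

theorem dep (hp : Pt p) {a b : G} (ha : a ∈ Q p) (hb : b ∈ Q p) (h : ∀ x ∈ Q p, Commute x a → Commute x b) :
    ∃ z ∈ zpowers a, b * z ∈ zpowers p := by
  by_cases h1 : a ∈ zpowers p
  · exact ⟨1, one_mem _, by
      rw [mul_one]
      exact (H.es hp).nd b hb fun x hx => (h x hx (comm_zp (H.comm hp hx) h1)).symm⟩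
  obtain ⟨y, hy, e⟩ := H.shift hp ha h1
  obtain ⟨z, hz, h2⟩ : ∃ z ∈ zpowers a, Commute y (b * z) := by
    by_cases h3 : Commute y b
    · exact ⟨1, one_mem _, by rwa [mul_one]⟩
    obtain ⟨y', rfl | rfl, e'⟩ := H.shift' hp hy hb h3
    · refine ⟨a⁻¹, inv_mem (mem_zpowers a), mul_inv_eq_iff_eq_mul.1 ?_⟩
      calc y' * (b * a⁻¹) * y'⁻¹ = (y' * b * y'⁻¹) * (y' * a * y'⁻¹)⁻¹ := by group
        _ = _ := by rw [e, e']; group
    · refine ⟨a, mem_zpowers a, (Commute.inv_left_iff.1 (mul_inv_eq_iff_eq_mul.1 ?_))⟩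
      calc y⁻¹ * (b * a) * y⁻¹⁻¹ = (y⁻¹ * b * y⁻¹⁻¹) * (y⁻¹ * a * y⁻¹⁻¹) := by group
        _ = b * (p * a) * p⁻¹ := by rw [e', conj_inv_shift e (H.comm hp hy)]; group
        _ = _ := by rw [← (H.comm hp ha).eq]; group
  refine ⟨z, hz, (H.es hp).nd _ (mul_mem hb (zpowers_le.2 ha hz)) fun x hx => Commute.symm ?_⟩
  have key : ∀ x ∈ Q p, Commute x a → Commute x (b * z) := fun x hx h3 => (h x hx h3).mul_right (comm_zp h3 hz)
  have key' : ∀ x ∈ Q p, x * a * x⁻¹ = a * p → Commute x (b * z) := fun x hx h3 => by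
    have h4 := key (y⁻¹ * x) (mul_mem (inv_mem hy) hx) (mul_inv_eq_iff_eq_mul.1 (by
      calc y⁻¹ * x * a * (y⁻¹ * x)⁻¹ = y⁻¹ * (x * a * x⁻¹) * y := by group
        _ = a := by rw [h3, ← e]; group))
    have h5 := h2.mul_left h4
    rwa [mul_inv_cancel_left] at h5
  by_cases h3 : Commute x a
  · exact key x hx h3
  obtain ⟨x', rfl | rfl, e'⟩ := H.shift' hp hx ha h3
  · exact key' _ hx e'
  · exact Commute.inv_left_iff.1 (key' _ (inv_mem hx) e')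

variable [Finite G]

theorem card_ab (hp : Pt p) {A : Subgroup G} (hA : A ≤ Q p) (h : ∀ x ∈ A, ∀ y ∈ A, Commute x y) :
    Nat.card A ≤ 3 ^ 6 := by
  have h1 := DS.Sp.F24.card_sq_le Nat.prime_three (H.card_zp hp) (H.es hp).com
    (fun x hx a ha => ((H.es hp).cen a ha x hx).symm) hA h
  have h2 : Nat.card ↥(A ⊓ centralizer (Q p : Set G)) ≤ 3 := by
    rw [← H.card_zp hp]
    exact card_le_of_le fun x hx => (H.es hp).nd x (hA hx.1) fun y hy => (mem_centralizer_iff.1 hx.2 y hy).symm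
  rw [H.card hp] at h1
  have h3 : Nat.card A * Nat.card A ≤ 3 ^ 6 * 3 ^ 6 := h1.trans (by omega)
  exact Nat.mul_self_le_mul_self_iff.1 h3

theorem not_solv (hp : Pt p) (hq : Pt q) (h : q ∈ Q p) (hn : q ∉ zpowers p) :
    ¬ Group.IsSolvable ↥(T ⊓ centralizer {p} ⊓ centralizer {q}) := by
  have hpq := H.symm hp hq h
  have h1 := card_le_mul (Q q) (zpowers q) p fun b hb => (H.es hq).com b hb p hpq
  rw [H.card hq, H.card_zp hq] at h1
  obtain ⟨q1, a1, a2, a3, a4, a5⟩ := H.line hp (Q q ⊓ centralizer {p}) ((H.es hq).isPGroup.to_le inf_le_left)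
    fun b hb => (mem_cen.1 hb.2).symm
  have hc : Commute q1 q := by
    by_contra hc
    have h2 : q1 * q * q1⁻¹ ∉ zpowers q := fun h2 =>
      hc (comm_of_eq_one (H.inf_zp hp hq hn ((H.es hp).com q1 a2 q h) (mul_mem h2 (inv_mem (mem_zpowers q)))))
    have h3 : ∀ b ∈ Q q ⊓ centralizer {p}, b ∈ Q (q1 * q * q1⁻¹) := fun b hb => by
      have h4 := H.Q_conj hq q1 _ (mul_mem (H.zp_le hp hq h (a4 b hb)) hb.1)
      rw [← mul_assoc, (comm_zp (H.comm hp a2) (a4 b hb)).eq] at h4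
      rwa [show b * q1 * b⁻¹ * q1⁻¹ * q1 * b * q1⁻¹ = b by group] at h4
    have h4 := H.card_ab hq (A := Q q ⊓ centralizer {p}) inf_le_left fun x hx y hy =>
      H.comm_inf hq (H.conj hq q1) h2 hx.1 (h3 x hx) hy.1 (h3 y hy)
    omega
  have h2 := card_le_mul (Q q ⊓ centralizer {p}) (zpowers p) q1 a4
  rw [H.card_zp hp] at h2
  have h3 : q1 ∈ Q q := by
    by_contra h3
    have h4 := H.small hq a1 hc.symm h3
    have h5 : Nat.card ↥(Q q ⊓ centralizer {p} ⊓ centralizer {q1}) ≤ Nat.card ↥(Q q ⊓ centralizer {q1}) :=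
      card_le_of_le (inf_le_inf_right _ inf_le_left)
    omega
  obtain ⟨z, hz, h4⟩ := H.dep hq hpq h3 fun x hx hx' =>
    comm_of_eq_one (H.inf_zp hp hq hn (a4 x ⟨hx, mem_cen.2 hx'⟩) ((H.es hq).com x hx q1 h3))
  refine fun hs => a5 (solv_mono (le_inf inf_le_left fun g hg => mem_cen.2 ?_) hs)
  refine (mem_cen.1 (mem_of_zp (H.cube hq) h4 (fun e => a3 ?_) (K := centralizer {g}) (mem_cen.2 (Commute.symm ?_)))).symm
  · rw [eq_inv_of_mul_eq_one_left e]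
    exact inv_mem hz
  · exact (mem_cen.1 hg.2).mul_right (comm_zp (mem_cen.1 hg.1.2) hz)

variable {S : Subgroup G} (hS : ∀ Y : Subgroup G, Y ≤ T → Y ≠ ⊥ → IsPGroup 3 Y → (∀ s ∈ S, ∀ y ∈ Y, s * y * s⁻¹ ∈ Y) →
  Group.IsSolvable ↥(T ⊓ normalizer (Y : Set G)))

include hS

/-- no invariant singular set -/
theorem sing {I : Set G} (hp : p ∈ I) (hI : ∀ a ∈ I, Pt a) (hc : ∀ a ∈ I, ∀ b ∈ I, b ∈ Q a)
    (hinv : ∀ s ∈ S, ∀ a ∈ I, s * a * s⁻¹ ∈ I) : False := by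
  have hle : ∀ a ∈ I, closure I ≤ Q a := fun a ha => (closure_le _).2 (hc a ha)
  have hcm : ∀ a ∈ I, ∀ b ∈ I, Commute a b := fun a ha b hb => H.comm (hI b hb) (hc b hb a ha)
  have hs := hS (closure I) ((hle p hp).trans (H.Q_le (hI p hp)))
    (fun e => H.ne (hI p hp) (mem_bot.1 (e ▸ subset_closure hp))) (closure_pg hcm fun a ha => H.cube (hI a ha))
    fun s hs y hy => conj_closure (fun a ha => subset_closure (hinv s hs a ha)) hy
  have hcen : ∀ A : Subgroup G, A ≤ T → (∀ g ∈ A, ∀ a ∈ I, Commute g a) → Group.IsSolvable A := fun A h1 h2 =>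
    solv_mono (le_inf h1 (le_norm fun g hg y hy => conj_closure (fun a ha => by
      rw [conj_of_comm (h2 g hg a ha)]
      exact subset_closure ha) hy)) hs
  by_cases h1 : ∀ a ∈ I, a ∈ zpowers p
  · obtain ⟨q, -, -, -, -, h2⟩ := H.line (hI p hp) ⊥ IsPGroup.of_bot fun b hb => by
      rw [mem_bot.1 hb]
      exact Commute.one_right p
    exact h2 (hcen _ (inf_le_left.trans inf_le_left) fun g hg a ha => comm_zp (mem_cen.1 hg.1.2) (h1 a ha))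
  push Not at h1
  obtain ⟨q, hq, h1⟩ := h1
  by_cases h2 : ∀ a ∈ I, ∃ z ∈ zpowers q, a * z ∈ zpowers p
  · refine H.not_solv (hI p hp) (hI q hq) (hc p hp q hq) h1 (hcen _ (inf_le_left.trans inf_le_left) fun g hg a ha => ?_)
    obtain ⟨z, hz, h3⟩ := h2 a ha
    have h4 := (comm_zp (mem_cen.1 hg.1.2) h3).mul_right (comm_zp (mem_cen.1 hg.2) hz).inv_right
    rwa [mul_inv_cancel_right] at h4
  push Not at h2
  obtain ⟨r, hr, h2⟩ := h2
  let Ind : G → G → G → Prop := fun a b c => a ∈ I ∧ b ∈ I ∧ c ∈ I ∧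
    ∀ x ∈ zpowers a, ∀ y ∈ zpowers b, ∀ z ∈ zpowers c, x * y * z = 1 → x = 1 ∧ y = 1 ∧ z = 1
  have hz : ∀ {a b x y : G}, a ∈ I → b ∈ I → x ∈ zpowers a → y ∈ zpowers b → x * y = y * x := fun ha hb hx hy =>
    (comm_zp (comm_zp (hcm _ hb _ ha) hx).symm hy).eq
  have s1 : ∀ a b c, Ind a b c → Ind a c b := fun a b c h => ⟨h.1, h.2.2.1, h.2.1, fun x hx y hy z hz' e => by
    rw [mul_assoc, hz h.2.2.1 h.2.1 hy hz', ← mul_assoc] at e
    have h3 := h.2.2.2 x hx z hz' y hy e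
    exact ⟨h3.1, h3.2.2, h3.2.1⟩⟩
  have s2 : ∀ a b c, Ind a b c → Ind b a c := fun a b c h => ⟨h.2.1, h.1, h.2.2.1, fun x hx y hy z hz' e => by
    rw [hz h.2.1 h.1 hx hy] at e
    have h3 := h.2.2.2 y hy x hx z hz' e
    exact ⟨h3.2.1, h3.1, h3.2.2⟩⟩
  have key : ∀ n, ∀ a b c, Ind a b c → ∃ x : ↥(T ⊓ normalizer (closure I : Set G)),
      x ∈ derivedSeries _ n ∧ El a b c x := by
    intro n
    induction n with
    | zero =>
      intro a b c h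
      have ha := hI a h.1
      obtain ⟨x, hx, h3, h4⟩ : ∃ x ∈ Q a, Commute x c ∧ ¬ Commute x b := by
        by_contra h3
        push Not at h3
        obtain ⟨z, hz', h4⟩ := H.dep ha (hc a h.1 c h.2.2.1) (hc a h.1 b h.2.1) h3
        exact H.ne (hI b h.2.1) (h.2.2.2 _ (inv_mem h4) b (mem_zpowers b) z hz' (by group)).2.1
      have h5 : Q a ≤ T ⊓ normalizer (closure I : Set G) := le_inf (H.Q_le ha) (le_norm fun g hg y hy => by
        have h6 := mul_mem (zpowers_le.2 (subset_closure h.1) ((H.es ha).com g hg y (hle a h.1 hy))) hy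
        rwa [inv_mul_cancel_right] at h6)
      obtain ⟨y, rfl | rfl, e⟩ := H.shift' ha hx (hc a h.1 b h.2.1) h4
      · exact ⟨⟨y, h5 hx⟩, mem_top _, e, H.comm ha hx, h3⟩
      · exact ⟨⟨x⁻¹, h5 (inv_mem hx)⟩, mem_top _, e, H.comm ha (inv_mem hx), h3.inv_left⟩
    | succ n ih =>
      intro a b c h
      obtain ⟨x, hx, h3⟩ := ih a c b (s1 _ _ _ h)
      obtain ⟨y, hy, h4⟩ := ih c b a (s1 _ _ _ (s2 _ _ _ (s1 _ _ _ h)))
      exact ⟨x * y * x⁻¹ * y⁻¹, commutator_mem_commutator hx hy, h3.comm (hcm a h.1 c h.2.2.1) h4⟩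
  obtain ⟨n, hn⟩ := hs.solvable
  obtain ⟨x, hx, h3, -⟩ := key n p q r ⟨hp, hq, hr, fun x hx y hy z hz' e => by
    have h3 : z = 1 := by
      by_contra h3
      have h4 : z = (x * y)⁻¹ := eq_inv_of_mul_eq_one_right e
      rcases zp (H.cube (hI r hr)) hz' with h5 | h5 | h5
      · exact h3 h5
      · refine h2 y hy ?_
        rw [← h5, h4, hz hp hq hx hy, mul_inv_rev, inv_mul_cancel_right]
        exact inv_mem hx
      · refine h2 y⁻¹ (inv_mem hy) ?_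
        rw [← inv_inv r, ← h5, h4, inv_inv, mul_inv_cancel_right]
        exact hx
    rw [h3, mul_one] at e
    have h4 : y = 1 := H.inf_zp (hI p hp) (hI q hq) h1 (by
      rw [eq_inv_of_mul_eq_one_right e]
      exact inv_mem hx) hy
    rw [h4, mul_one] at e
    exact ⟨e, h4, h3⟩⟩
  rw [hn, mem_bot] at hx
  rw [hx, OneMemClass.coe_one, one_mul, inv_one, mul_one, left_eq_mul] at h3
  exact H.ne (hI p hp) h3

end Geo

/-- the orbit of commuting points -/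
structure Orb {G : Type} [Group G] (S : Subgroup G) (Pt : G → Prop) (Q : G → Subgroup G) (P : Set G) : Prop where
  pt : ∀ p ∈ P, Pt p
  comm : ∀ p ∈ P, ∀ w ∈ P, Commute p w
  inv : ∀ s ∈ S, ∀ p ∈ P, s * p * s⁻¹ ∈ P
  trans : ∀ p ∈ P, ∀ w ∈ P, ∃ s ∈ S, s * p * s⁻¹ = w
  far : ∀ p ∈ P, ∃ w ∈ P, w ∉ Q p

namespace Geo

variable {G : Type} [Group G] {T S : Subgroup G} {Pt : G → Prop} {Q : G → Subgroup G} {P : Set G} {p q w : G}

variable (Pt Q P) in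
/-- the points of `Q p` which commute with the orbit -/
def Lam (p : G) : Set G := {q | Pt q ∧ q ∈ Q p ∧ ∀ w ∈ P, Commute q w}

variable (H : Geo T Pt Q) (O : Orb S Pt Q P)

include H O

theorem mem_Lam (_hp : p ∈ P) (hw : w ∈ P) (h : w ∈ Q p) : w ∈ Lam Pt Q P p := ⟨O.pt w hw, h, O.comm w hw⟩

theorem Lam_conj (hp : Pt p) {s : G} (hs : s ∈ S) (h : q ∈ Lam Pt Q P p) :
    s * q * s⁻¹ ∈ Lam Pt Q P (s * p * s⁻¹) := by
  refine ⟨H.conj h.1 s, H.Q_conj hp s q h.2.1, fun w hw => ?_⟩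
  have h1 := conj_comm (h.2.2 _ (O.inv s⁻¹ (inv_mem hs) w hw)) s
  rwa [show s * (s⁻¹ * w * s⁻¹⁻¹) * s⁻¹ = w by group] at h1

theorem comm_P (hp : p ∈ P) {z : G} (hz : z ∈ zpowers p) (hw : w ∈ P) : Commute z w :=
  (comm_zp (O.comm w hw p hp) hz).symm

theorem Lam_mul (hw : w ∈ P) (hq : q ∈ Lam Pt Q P w) (hn : q ∉ zpowers w) {z : G} (hz : z ∈ zpowers w)
    (h : q * z ∈ Q p) : q * z ∈ Lam Pt Q P p :=
  ⟨H.pt_mul (O.pt w hw) hq.1 hq.2.1 hn hz, h, fun u hu => (hq.2.2 u hu).mul_left (H.comm_P O hw hz hu)⟩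

theorem Lam_comm (hp : p ∈ P) {a b : G} (ha : a ∈ Lam Pt Q P p) (hb : b ∈ Lam Pt Q P p) : Commute a b := by
  obtain ⟨w, hw, hn⟩ := O.far p hp
  exact H.comm_pts (O.pt p hp) (O.pt w hw) (O.comm p hp w hw) hn ha.1 ha.2.1 (ha.2.2 w hw) hb.1 hb.2.1 (hb.2.2 w hw)

theorem Lam_meet (hp : p ∈ P) (hw : w ∈ P) (hn : w ∉ Q p) (hq : q ∈ Lam Pt Q P p) : ∃ z ∈ zpowers p, q * z ∈ Q w :=
  H.meet' (O.pt p hp) (O.pt w hw) (O.comm p hp w hw) hn hq.1 hq.2.1 (hq.2.2 w hw)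

theorem not_symm (hp : p ∈ P) (hw : w ∈ P) (hn : w ∉ Q p) : p ∉ Q w := fun h => hn (H.symm (O.pt w hw) (O.pt p hp) h)

theorem exists_Lam (hp : p ∈ P) : ∃ q ∈ Lam Pt Q P p, q ∉ zpowers p := by
  have hp' := O.pt p hp
  obtain ⟨q, a1, a2, a3, a4, -⟩ := H.line hp' (closure P) (closure_pg O.comm fun a ha => H.cube (O.pt a ha))
    fun b hb => closure_comm O.comm (subset_closure hp) hb
  have key : ∀ w ∈ P, w ∉ Q p → Commute q w := fun w hw hn => by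
    have h1 := a4 w (subset_closure hw)
    have h2 := comm_zp (H.comm hp' a2) h1
    have h3 := H.comm_P O hp h1 hw
    generalize e : w * q * w⁻¹ * q⁻¹ = z at h1 h2 h3
    have h4 : Pt (w * z) := by
      have h5 := H.conj (O.pt w hw) q⁻¹
      rwa [show q⁻¹ * w * q⁻¹⁻¹ = q⁻¹ * (w * q * w⁻¹ * q⁻¹) * q * w by group, e, mul_assoc q⁻¹, ← h2.eq,
        inv_mul_cancel_left, h3.eq] at h5
    have h5 : Pt (w * z⁻¹) := by
      have h5 := H.conj (O.pt w hw) q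
      rwa [show q * w * q⁻¹ = (w * q * w⁻¹ * q⁻¹)⁻¹ * w by group, e, h3.inv_left.eq] at h5
    rcases zp (H.cube hp') h1 with rfl | rfl | rfl
    · exact (comm_of_eq_one e).symm
    · exact absurd (H.pure hp' (O.pt w hw) (O.comm _ hp w hw) h4 h5) hn
    · rw [inv_inv] at h5
      exact absurd (H.pure hp' (O.pt w hw) (O.comm _ hp w hw) h5 h4) hn
  refine ⟨q, ⟨a1, a2, fun u hu => ?_⟩, a3⟩
  by_cases h : u ∈ Q p
  · obtain ⟨w, hw, hn⟩ := O.far p hp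
    exact H.comm_pts hp' (O.pt w hw) (O.comm p hp w hw) hn a1 a2 (key w hw hn) (O.pt u hu) h (O.comm u hu w hw)
  · exact key u hu h

section Two

variable (h2 : ∀ p ∈ P, ∃ q ∈ Lam Pt Q P p, ∃ q' ∈ Lam Pt Q P p, q' ∉ Q q)

include h2

theorem pairW (hp : p ∈ P) (hw : w ∈ P) (hn : w ∉ Q p) :
    ∃ q ∈ Lam Pt Q P p, ∃ q' ∈ Lam Pt Q P p, q ∈ Q w ∧ q' ∈ Q w ∧ q' ∉ Q q := by
  have hp' := O.pt p hp
  obtain ⟨q, hq, q', hq', h⟩ := h2 p hp
  have h' : q ∉ Q q' := fun e => h (H.symm hq'.1 hq.1 e)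
  have n1 : q ∉ zpowers p := fun e => h' (H.zp_le hp' hq'.1 hq'.2.1 e)
  have n2 : q' ∉ zpowers p := fun e => h (H.zp_le hp' hq.1 hq.2.1 e)
  obtain ⟨z, hz, a1⟩ := H.Lam_meet O hp hw hn hq
  obtain ⟨z', hz', a2⟩ := H.Lam_meet O hp hw hn hq'
  have b1 := H.Lam_mul O hp hq n1 hz (mul_mem hq.2.1 ((H.es hp').le hz))
  refine ⟨_, b1, _, H.Lam_mul O hp hq' n2 hz' (mul_mem hq'.2.1 ((H.es hp').le hz')), a1, a2, fun e => h' ?_⟩
  have b2 := H.symm b1.1 hq'.1 (((Q _).mul_mem_cancel_right (H.zp_le hp' b1.1 b1.2.1 hz')).1 e)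
  exact ((Q _).mul_mem_cancel_right (H.zp_le hp' hq'.1 hq'.2.1 hz)).1 b2

theorem kind1 (hp : p ∈ P) (hw : w ∈ P) (hn : w ∉ Q p) :
    Q p ⊓ centralizer {w} ≤ closure {q | Pt q ∧ q ∈ Q p ∧ Commute q w} ∧
      ¬ Group.IsSolvable ↥(T ⊓ centralizer {p} ⊓ centralizer {w}) := by
  have hp' := O.pt p hp
  refine (H.kind hp' (O.pt w hw) (O.comm p hp w hw) hn).resolve_right fun h => ?_
  obtain ⟨q, hq, q', hq', -, -, h1⟩ := H.pairW O h2 hp hw hn
  have key : ∀ b, Pt b → b ∈ Q p → Commute b w → b ∉ Q q → Pt (q * b) := fun b b1 b2 b3 b4 =>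
    (h q b hq.1 b1 hq.2.1 b2 (hq.2.2 w hw) b3).resolve_left fun e =>
      b4 (((Q q).mul_mem_cancel_left (H.self hq.1)).1 (H.zp_le hp' hq.1 hq.2.1 e))
  exact h1 (H.symm hq'.1 hq.1 (H.pure hq'.1 hq.1 (H.Lam_comm O hp hq' hq)
    (key q' hq'.1 hq'.2.1 (hq'.2.2 w hw) h1)
    (key q'⁻¹ (H.inv hq'.1) (inv_mem hq'.2.1) (hq'.2.2 w hw).inv_left fun e => h1 (inv_mem_iff.1 e))))

theorem near (hp : p ∈ P) (hw : w ∈ P) (hn : w ∉ Q p) {u : G} (hu : u ∈ P) : ∃ v ∈ zpowers w, u * v ∈ Q p := by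
  have hp' := O.pt p hp
  have hw' := O.pt w hw
  have hu' := O.pt u hu
  by_cases h1 : u ∈ Q p
  · exact ⟨1, one_mem _, by rwa [mul_one]⟩
  by_cases h3 : u ∈ Q w
  · exact H.Lam_meet O hw hp (H.not_symm O hp hw hn) (H.mem_Lam O hw hu h3)
  obtain ⟨q, hq, q', hq', a1, -, a2⟩ := H.pairW O h2 hp hw hn
  obtain ⟨z, hz, a3⟩ := H.Lam_meet O hp hu h1 hq'
  have hy := H.Lam_mul O hp hq' (fun e => a2 (H.zp_le hp' hq.1 hq.2.1 e)) hz (mul_mem hq'.2.1 ((H.es hp').le hz))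
  have a4 : q' * z ∉ Q q := fun e => a2 (((Q q).mul_mem_cancel_right (H.zp_le hp' hq.1 hq.2.1 hz)).1 e)
  generalize q' * z = y at a3 hy a4
  have a5 : w ∉ zpowers q := fun e => hn (zpowers_le.2 hq.2.1 e)
  have a6 := H.symm hw' hq.1 a1
  obtain ⟨v, hv, a7⟩ : ∃ v ∈ zpowers q, w * v ∉ Q y := by
    by_contra a7
    push Not at a7
    have a8 := a7 1 (one_mem _)
    rw [mul_one] at a8
    exact a4 (H.symm hy.1 hq.1 (((Q y).mul_mem_cancel_left a8).1 (a7 q (mem_zpowers q))))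
  have hc := H.pt_mul hq.1 hw' a6 a5 hv
  have hv' : v ∈ Q p := zpowers_le.2 hq.2.1 hv
  have cv : ∀ x ∈ P, Commute x v := fun x hx => comm_zp (hq.2.2 x hx).symm hv
  have a8 : u ∉ zpowers y := fun e => h1 (zpowers_le.2 hy.2.1 e)
  have a9 := H.symm hu' hy.1 a3
  obtain ⟨v1, hv1, b1⟩ := H.meet' hy.1 hc ((hy.2.2 w hw).mul_right (comm_zp (H.Lam_comm O hp hy hq) hv)) a7 hu' a9
    ((O.comm u hu w hw).mul_right (cv u hu))
  have hv1' : v1 ∈ Q p := zpowers_le.2 hy.2.1 hv1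
  obtain ⟨v2, ⟨k, rfl⟩, b2⟩ := H.meet' hc hp' ((O.comm w hw p hp).mul_left (cv p hp).symm)
    (fun e => hn (((Q p).mul_mem_cancel_right hv').1 (H.symm hc hp' e))) (H.pt_mul hy.1 hu' a9 a8 hv1) b1
    ((O.comm u hu p hp).mul_left (H.comm hp' hv1'))
  refine ⟨w ^ k, zpow_mem_zpowers w k, ?_⟩
  have b3 : u * v1 * (w * v) ^ k = u * w ^ k * (v1 * v ^ k) := by
    rw [(cv w hw).mul_zpow, mul_assoc u, ← mul_assoc v1, ((comm_zp (hy.2.2 w hw).symm hv1).symm.zpow_right k).eq]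
    group
  change u * v1 * (w * v) ^ k ∈ Q p at b2
  rw [b3] at b2
  exact ((Q p).mul_mem_cancel_right (mul_mem hv1' (zpow_mem hv' k))).1 b2

theorem D_le (hp : p ∈ P) (hw : w ∈ P) (hn : w ∉ Q p) : Q p ⊓ centralizer {w} ≤ closure (Lam Pt Q P p) := by
  have h1 := (H.kind1 O h2 hp hw hn).1
  refine h1.trans (closure_mono fun q hq => ⟨hq.1, hq.2.1, fun u hu => ?_⟩)
  obtain ⟨v, hv, h3⟩ := H.near O h2 hp hw hn hu
  have h4 := closure_comm (fun a ha b hb => H.comm_pts (O.pt p hp) (O.pt w hw) (O.comm p hp w hw) hn ha.1 ha.2.1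
    ha.2.2 hb.1 hb.2.1 hb.2.2) (subset_closure hq)
    (h1 ⟨h3, mem_cen.2 ((O.comm u hu w hw).mul_left (H.comm_P O hw hv hw))⟩)
  have h5 := h4.mul_right (comm_zp hq.2.2 hv).inv_right
  rwa [mul_inv_cancel_right] at h5

omit H O h2 in
theorem zp_mem (hw : w ∈ P) {z : G} (hz : z ∈ zpowers w) (X : Set G) : z ∈ closure (X ∪ P) :=
  zpowers_le.2 (Subgroup.subset_closure (Set.mem_union_right X hw)) hz

theorem D_mem (hp : p ∈ P) (hw : w ∈ P) (hn : w ∉ Q p) {x : G} (hx : x ∈ Q p) (hc : Commute x w) :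
    x ∈ closure (Lam Pt Q P p ∪ P) :=
  closure_mono Set.subset_union_left (H.D_le O h2 hp hw hn ⟨hx, mem_cen.2 hc⟩)

theorem A_far (hp : p ∈ P) (hw : w ∈ P) (hn : w ∉ Q p) :
    closure (Lam Pt Q P p ∪ P) ≤ closure (Lam Pt Q P w ∪ P) := by
  refine (closure_le _).2 ?_
  rintro q (hq | hq)
  · obtain ⟨z, hz, h1⟩ := H.Lam_meet O hp hw hn hq
    exact (Subgroup.mul_mem_cancel_right _ (zp_mem hp hz _)).1 (H.D_mem O h2 hw hp (H.not_symm O hp hw hn) h1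
      ((hq.2.2 p hp).mul_left (H.comm_P O hp hz hp)))
  · exact subset_closure (Or.inr hq)

theorem A_le (hp : p ∈ P) {p' : G} (hp' : p' ∈ P) : closure (Lam Pt Q P p ∪ P) ≤ closure (Lam Pt Q P p' ∪ P) := by
  by_cases h0 : p' ∈ Q p
  swap
  · exact H.A_far O h2 hp hp' h0
  obtain ⟨w, hw, hn⟩ := O.far p hp
  obtain ⟨w', hw', hn'⟩ := O.far p' hp'
  by_cases h1 : w ∈ Q p'
  swap
  · exact (H.A_far O h2 hp hw hn).trans (H.A_far O h2 hw hp' (H.not_symm O hp' hw h1))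
  by_cases h3 : w' ∈ Q p
  swap
  · exact (H.A_far O h2 hp hw' h3).trans (H.A_far O h2 hw' hp' (H.not_symm O hp' hw' hn'))
  by_cases h4 : w' ∈ Q w
  swap
  · exact ((H.A_far O h2 hp hw hn).trans (H.A_far O h2 hw hw' h4)).trans
      (H.A_far O h2 hw' hp' (H.not_symm O hp' hw' hn'))
  have a0 := O.pt p hp
  have a1 := H.symm a0 (O.pt p' hp') h0
  refine (closure_le _).2 ?_
  rintro q (hq | hq)
  swap
  · exact subset_closure (Or.inr hq)
  by_cases h5 : q ∈ zpowers p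
  · exact zp_mem hp h5 _
  obtain ⟨z, hz, h6⟩ := H.Lam_meet O hp hw hn hq
  refine (Subgroup.mul_mem_cancel_right _ (zp_mem hp hz _)).1 ?_
  have hy := H.Lam_mul O hp hq h5 hz (mul_mem hq.2.1 ((H.es a0).le hz))
  generalize q * z = y at h6 hy
  have h7 : y ∉ zpowers w := fun e => hn (mem_of_zp (H.cube (O.pt w hw)) e (H.ne hy.1) hy.2.1)
  have hc := H.pt_mul a0 (O.pt w' hw') h3 (fun e => hn' (zpowers_le.2 a1 e)) (mem_zpowers p)
  have cc : ∀ x ∈ P, Commute x (w' * p) := fun x hx => (O.comm x hx w' hw').mul_right (O.comm x hx p hp)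
  obtain ⟨v, hv, b1⟩ := H.meet' (O.pt w hw) hc (cc w hw)
    (fun e => H.not_symm O hp hw hn (((Q w).mul_mem_cancel_left h4).1 e)) hy.1 h6
    ((hy.2.2 w' hw').mul_right (hy.2.2 p hp))
  have b2 := H.Lam_mul O hw ⟨hy.1, h6, hy.2.2⟩ h7 hv b1
  obtain ⟨v2, hv2, b3⟩ := H.meet' hc (O.pt p' hp') (cc p' hp').symm
    (fun e => hn' (((Q p').mul_mem_cancel_right a1).1 (H.symm hc (O.pt p' hp') e))) b2.1 b1 (b2.2.2 p' hp')
  have b4 := H.D_mem O h2 hp' hw' hn' b3 ((b2.2.2 w' hw').mul_left (comm_zp (cc w' hw') hv2).symm)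
  have b5 : v2 ∈ closure (Lam Pt Q P p' ∪ P) :=
    zpowers_le.2 (mul_mem (zp_mem hw' (mem_zpowers w') _) (zp_mem hp (mem_zpowers p) _)) hv2
  exact (Subgroup.mul_mem_cancel_right _ (zp_mem hw hv _)).1 ((Subgroup.mul_mem_cancel_right _ b5).1 b4)

end Two

variable [Finite G] (hS : ∀ Y : Subgroup G, Y ≤ T → Y ≠ ⊥ → IsPGroup 3 Y → (∀ s ∈ S, ∀ y ∈ Y, s * y * s⁻¹ ∈ Y) →
  Group.IsSolvable ↥(T ⊓ normalizer (Y : Set G)))

include hS

theorem case1 (hp : p ∈ P) (h1 : ∀ p ∈ P, ∀ a ∈ Lam Pt Q P p, ∀ b ∈ Lam Pt Q P p, b ∈ Q a) : False := by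
  have hsub : ∀ p ∈ P, ∀ p' ∈ P, p' ∈ Q p → ∀ q ∈ Lam Pt Q P p, q ∈ Lam Pt Q P p' := fun p hp p' hp' h q hq =>
    ⟨hq.1, h1 p hp p' (H.mem_Lam O hp hp' h) q hq, hq.2.2⟩
  have a0 := O.pt p hp
  obtain ⟨w, hw, hn⟩ := O.far p hp
  obtain ⟨q, hq, h2⟩ := H.exists_Lam O hp
  obtain ⟨z, hz, h3⟩ := H.Lam_meet O hp hw hn hq
  have hy := H.Lam_mul O hp hq h2 hz (mul_mem hq.2.1 ((H.es a0).le hz))
  have h4 : q * z ∉ zpowers p := fun e => h2 ((Subgroup.mul_mem_cancel_right _ hz).1 e)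
  generalize q * z = y at h3 hy h4
  have hy' : y ∈ Lam Pt Q P w := ⟨hy.1, h3, hy.2.2⟩
  have h5 : y ∉ zpowers w := fun e => hn (mem_of_zp (H.cube (O.pt w hw)) e (H.ne hy.1) hy.2.1)
  refine H.sing hS (I := {a | ∀ u ∈ P, a ∈ Lam Pt Q P u}) (p := y) (fun u hu => ⟨hy.1, ?_, hy.2.2⟩)
    (fun a ha => (ha p hp).1) (fun a ha b hb => h1 p hp a (ha p hp) b (hb p hp)) fun s hs a ha u hu => ?_
  · by_contra h6
    obtain ⟨z1, hz1, b1⟩ := H.Lam_meet O hp hu (fun e => h6 (hsub p hp u hu e y hy).2.1) hy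
    obtain ⟨z2, hz2, b2⟩ := H.Lam_meet O hw hu (fun e => h6 (hsub w hw u hu e y hy').2.1) hy'
    have c1 := H.Lam_mul O hp hy h4 hz1 b1
    have c2 := h1 u hu _ c1 _ (H.Lam_mul O hw hy' h5 hz2 b2)
    have c3 := h1 p hp _ (H.Lam_mul O hp hy h4 hz1 (mul_mem hy.2.1 ((H.es a0).le hz1))) y hy
    have c4 := mem_of_zp (H.cube (O.pt w hw)) hz2 (fun e => h6 (by rwa [e, mul_one] at b2))
      (((Q _).mul_mem_cancel_left c3).1 c2)
    exact H.not_symm O hp hw hn (mem_of_zp (H.cube a0) hz1 (fun e => h6 (by rwa [e, mul_one] at b1))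
      (((Q w).mul_mem_cancel_left h3).1 (H.symm c1.1 (O.pt w hw) c4)))
  · have h6 := O.inv s⁻¹ (inv_mem hs) u hu
    have h7 := H.Lam_conj O (O.pt _ h6) hs (ha _ h6)
    rwa [show s * (s⁻¹ * u * s⁻¹⁻¹) * s⁻¹ = u by group] at h7

theorem case2 (hp : p ∈ P) (h2 : ∀ p ∈ P, ∃ q ∈ Lam Pt Q P p, ∃ q' ∈ Lam Pt Q P p, q' ∉ Q q) : False := by
  have a0 := O.pt p hp
  obtain ⟨w, hw, hn⟩ := O.far p hp
  refine (H.kind1 O h2 hp hw hn).2 (solv_mono (le_inf (inf_le_left.trans inf_le_left) (le_norm fun g hg y hy => ?_))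
    (hS (closure (Lam Pt Q P p ∪ P)) ((closure_le _).2 ?_)
      (fun e => H.ne a0 (mem_bot.1 (e ▸ subset_closure (Or.inr hp)))) (closure_pg ?_ ?_) fun s hs y hy => ?_))
  · have key : ∀ x ∈ Q p, Commute x w → g * x * g⁻¹ ∈ closure (Lam Pt Q P p ∪ P) := fun x hx hc =>
      H.D_mem O h2 hp hw hn (H.norm a0 (mem_cen.1 hg.1.2) hx)
        (((mem_cen.1 hg.2).mul_left hc).mul_left (mem_cen.1 hg.2).inv_left)
    refine conj_closure ?_ hy
    rintro a (ha | ha)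
    · exact key a ha.2.1 (ha.2.2 w hw)
    · obtain ⟨v, hv, h3⟩ := H.near O h2 hp hw hn ha
      have h4 := key _ h3 ((O.comm a ha w hw).mul_left (H.comm_P O hw hv hw))
      rw [show g * (a * v) * g⁻¹ = g * a * g⁻¹ * (g * v * g⁻¹) by group,
        conj_of_comm (comm_zp (mem_cen.1 hg.2) hv)] at h4
      exact (Subgroup.mul_mem_cancel_right _ (zp_mem hw hv _)).1 h4
  · rintro a (ha | ha)
    · exact H.Q_le a0 ha.2.1
    · exact H.Q_le (O.pt a ha) (H.self (O.pt a ha))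
  · rintro a (ha | ha) b (hb | hb)
    · exact H.Lam_comm O hp ha hb
    · exact ha.2.2 b hb
    · exact (hb.2.2 a ha).symm
    · exact O.comm a ha b hb
  · rintro a (ha | ha)
    · exact H.cube ha.1
    · exact H.cube (O.pt a ha)
  · refine H.A_le O h2 (O.inv s hs p hp) hp (conj_closure ?_ hy)
    rintro a (ha | ha)
    · exact subset_closure (Or.inl (H.Lam_conj O a0 hs ha))
    · exact subset_closure (Or.inr (O.inv s hs a ha))

end Geo

/-- **The abstract part.** -/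
theorem boxGeo : BoxGeo := by
  intro G _ _ T S Pt Q H hS z hz hc
  let P : Set G := {p | ∃ s ∈ S, s * z * s⁻¹ = p}
  have hP : z ∈ P := ⟨1, one_mem _, by group⟩
  have h1 : ∀ p ∈ P, Pt p := by
    rintro _ ⟨s, -, rfl⟩
    exact H.conj hz s
  have h2 : ∀ s ∈ S, ∀ p ∈ P, s * p * s⁻¹ ∈ P := by
    rintro s hs _ ⟨t, ht, rfl⟩
    exact ⟨s * t, mul_mem hs ht, by group⟩
  have h3 : ∀ p ∈ P, ∀ w ∈ P, ∃ s ∈ S, s * p * s⁻¹ = w := by
    rintro _ ⟨s, hs, rfl⟩ _ ⟨t, ht, rfl⟩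
    exact ⟨t * s⁻¹, mul_mem ht (inv_mem hs), by group⟩
  have h4 : ∀ s ∈ S, ∀ w ∈ P, ∃ u ∈ P, s * u * s⁻¹ = w := fun s hs w hw =>
    ⟨_, h2 s⁻¹ (inv_mem hs) w hw, by group⟩
  by_cases h5 : ∀ p ∈ P, ∃ w ∈ P, w ∉ Q p
  swap
  · push Not at h5
    obtain ⟨p, hp, h5⟩ := h5
    refine H.sing hS hP h1 (fun a ha b hb => ?_) h2
    obtain ⟨s, hs, rfl⟩ := h3 p hp a ha
    obtain ⟨u, hu, rfl⟩ := h4 s hs b hb
    exact H.Q_conj (h1 p hp) s u (h5 u hu)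
  have O : Orb S Pt Q P := ⟨h1, by
    rintro _ ⟨s, hs, rfl⟩ _ ⟨t, ht, rfl⟩
    have h6 := Geo.conj_comm (hc _ (mul_mem (inv_mem hs) ht)) s
    rwa [show s * (s⁻¹ * t * z * (s⁻¹ * t)⁻¹) * s⁻¹ = t * z * t⁻¹ by group] at h6, h2, h3, h5⟩
  by_cases h6 : ∀ p ∈ P, ∃ q ∈ Geo.Lam Pt Q P p, ∃ q' ∈ Geo.Lam Pt Q P p, q' ∉ Q q
  · exact H.case2 O hS hP h6
  · push Not at h6
    obtain ⟨p, hp, h6⟩ := h6
    refine H.case1 O hS hP fun u hu a ha b hb => ?_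
    obtain ⟨s, hs, rfl⟩ := h3 u hu p hp
    have h7 := H.Lam_conj O (h1 u hu) hs ha
    have h8 := H.Q_conj h7.1 s⁻¹ _ (h6 _ h7 _ (H.Lam_conj O (h1 u hu) hs hb))
    rwa [show s⁻¹ * (s * a * s⁻¹) * s⁻¹⁻¹ = a by group, show s⁻¹ * (s * b * s⁻¹) * s⁻¹⁻¹ = b by group] at h8

end Cfsg.Agent.SB.F24
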