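import Cfsg.Agent.SB.Mon.F24.Defs2
import Cfsg.Agent.SB.Mon.F24.Geo
import Cfsg.Agent.SB.Mon.F24.Five
import Cfsg.Agent.KFacts.FiTF.FrameF

/-!
# S5765, the row `Fi24'`, `O₂(S ⊓ T) = 1`: the assembly (helper67)

`Asm.trans` : transport of `Loc`; `Asm.geo` : `Geo` from `BoxLoc`; `boxAsm : BoxAsm`.
-/

set_option autoImplicit false
set_option maxRecDepth 100000

namespace Cfsg.Agent.SB.F24

open Subgroup Cfsg Cfsg.Agent.H786.FC
open Cfsg.Agent.H841.Ext (ES)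

namespace Asm

section transport

variable {G : Type*} [Group G]

theorem eq_map (e : G ≃* G) {A B : Subgroup G} (h : ∀ x, e x ∈ B ↔ x ∈ A) : B = A.map e.toMonoidHom := by
  ext y
  obtain ⟨x, rfl⟩ := e.surjective y
  exact (h x).trans (mem_map_iff_mem (f := e.toMonoidHom) e.injective).symm

theorem card_eq (e : G ≃* G) {A B : Subgroup G} (h : ∀ x, e x ∈ B ↔ x ∈ A) : Nat.card B = Nat.card A := by
  rw [eq_map e h]
  exact card_map_of_injective e.injective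

theorem solv (e : G ≃* G) {A B : Subgroup G} (h : ∀ x, e x ∈ B ↔ x ∈ A) (hB : Group.IsSolvable B) :
    Group.IsSolvable A := by
  rw [eq_map e h] at hB
  exact Group.isSolvable_of_isSolvable_injective (f := (A.equivMapOfInjective e.toMonoidHom e.injective).toMonoidHom)
    (A.equivMapOfInjective e.toMonoidHom e.injective).injective

theorem comm_iff (e : G ≃* G) {a b : G} : Commute (e a) (e b) ↔ Commute a b :=
  ⟨fun h => h.of_map e.injective, fun h => h.map e⟩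

theorem cent_iff (e : G ≃* G) {a x : G} : e x ∈ centralizer ({e a} : Set G) ↔ x ∈ centralizer ({a} : Set G) := by
  rw [mem_centralizer_singleton_iff, mem_centralizer_singleton_iff]
  exact comm_iff e

theorem zp_iff (e : G ≃* G) {a x : G} : e x ∈ zpowers (e a) ↔ x ∈ zpowers a := by
  constructor
  · rintro ⟨k, hk⟩
    exact ⟨k, e.injective (by rw [← hk]; exact map_zpow e a k)⟩
  · rintro ⟨k, rfl⟩
    exact ⟨k, (map_zpow e a k).symm⟩

/-- transport of `Loc` along an automorphism -/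
theorem trans {T Q Q' : Subgroup G} {Pt : G → Prop} {p : G} (e : G ≃* G) (hT : ∀ x, e x ∈ T ↔ x ∈ T)
    (hP : ∀ x, Pt (e x) ↔ Pt x) (hQ : ∀ x, e x ∈ Q' ↔ x ∈ Q) (h : Loc T Pt p Q) : Loc T Pt (e p) Q' where
  pure := by
    intro w h1 h2 h3 h4
    obtain ⟨w, rfl⟩ := e.surjective w
    rw [← map_mul, hP] at h3
    rw [← map_inv, ← map_mul, hP] at h4
    exact (hQ w).2 (h.pure ((hP w).1 h1) ((comm_iff e).1 h2) h3 h4)
  small := by
    intro w h1 h2 h3
    obtain ⟨w, rfl⟩ := e.surjective w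
    rw [card_eq e (A := Q ⊓ centralizer {w}) fun x => by rw [mem_inf, mem_inf, hQ, cent_iff]]
    exact h.small ((hP w).1 h1) ((comm_iff e).1 h2) fun h4 => h3 ((hQ w).2 h4)
  meet := by
    intro a b h1 h2 h3 h4 h5 h6 h7
    obtain ⟨a, rfl⟩ := e.surjective a
    obtain ⟨b, rfl⟩ := e.surjective b
    rw [← map_mul, hP] at h3
    rw [← map_inv, ← map_mul, hP] at h4
    rw [← map_mul, ← map_inv, ← map_mul, hQ, hQ, hQ, hQ]
    exact h.meet ((hP a).1 h1) ((hP b).1 h2) h3 h4 ((comm_iff e).1 h5) ((comm_iff e).1 h6) ((comm_iff e).1 h7)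
  line := by
    intro B hB hc
    obtain ⟨q, k1, k2, k3, k4, k5⟩ := h.line (B.comap e.toMonoidHom) (hB.comap_of_injective e.toMonoidHom e.injective)
      fun b hb => (comm_iff e).1 (hc _ hb)
    refine ⟨e q, (hP q).2 k1, (hQ q).2 k2, fun h1 => k3 ((zp_iff e).1 h1), fun b hb => ?_, fun h1 => k5 (solv e (fun x => ?_) h1)⟩
    · obtain ⟨b, rfl⟩ := e.surjective b
      rw [← map_mul, ← map_inv, ← map_mul, ← map_inv, ← map_mul, zp_iff]
      exact k4 b hb
    · rw [mem_inf, mem_inf, mem_inf, mem_inf, hT, cent_iff, cent_iff]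
  kind := by
    intro w h1 h2 h3
    obtain ⟨w, rfl⟩ := e.surjective w
    rcases h.kind ((hP w).1 h1) ((comm_iff e).1 h2) (fun h4 => h3 ((hQ w).2 h4)) with ⟨k1, k2⟩ | k
    · refine Or.inl ⟨fun x hx => ?_, fun h4 => k2 (solv e (fun x => ?_) h4)⟩
      · obtain ⟨x, rfl⟩ := e.surjective x
        have h5 := k1 (mem_inf.2 ⟨(hQ x).1 (mem_inf.1 hx).1, (cent_iff e).1 (mem_inf.1 hx).2⟩)
        have h6 := mem_map_of_mem e.toMonoidHom h5
        rw [MonoidHom.map_closure] at h6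
        refine closure_mono ?_ h6
        rintro _ ⟨q, hq, rfl⟩
        exact ⟨(hP q).2 hq.1, (hQ q).2 hq.2.1, (comm_iff e).2 hq.2.2⟩
      · rw [mem_inf, mem_inf, mem_inf, mem_inf, hT, cent_iff, cent_iff]
    · refine Or.inr fun a b h4 h5 h6 h7 h8 h9 => ?_
      obtain ⟨a, rfl⟩ := e.surjective a
      obtain ⟨b, rfl⟩ := e.surjective b
      rw [← map_mul, zp_iff, hP]
      exact k a b ((hP a).1 h4) ((hP b).1 h5) ((hQ a).1 h6) ((hQ b).1 h7) ((comm_iff e).1 h8) ((comm_iff e).1 h9)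

theorem zp3 {x y : G} (h3 : x ^ 3 = 1) (hy : y ∈ zpowers x) : y = 1 ∨ y = x ∨ y = x⁻¹ := by
  obtain ⟨k, rfl⟩ := hy
  have h1 : x ^ (3 : ℤ) = 1 := by exact_mod_cast h3
  have h2 : x ^ k = x ^ (k % 3) := by
    conv_lhs => rw [← Int.mul_ediv_add_emod k 3, zpow_add, zpow_mul, h1, one_zpow, one_mul]
  show x ^ k = 1 ∨ x ^ k = x ∨ x ^ k = x⁻¹
  rw [h2]
  have h4 : k % 3 = 0 ∨ k % 3 = 1 ∨ k % 3 = 2 := by omega
  rcases h4 with h | h | h <;> rw [h]
  · exact Or.inl (zpow_zero x)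
  · exact Or.inr (Or.inl (zpow_one x))
  · refine Or.inr (Or.inr (eq_inv_of_mul_eq_one_left ?_))
    rw [← h1]
    group

theorem mem_of_cube {T : Subgroup G} (hT : T.index = 2) {x : G} (h3 : x ^ 3 = 1) : x ∈ T := by
  have h1 := mul_self_mem_of_index_two hT x
  have h2 : x = (x * x)⁻¹ := eq_inv_of_mul_eq_one_right (by rw [← h3, pow_three'])
  rw [h2]
  exact inv_mem h1

theorem fit_inv {S R : Subgroup G} (hR : ∀ s ∈ S, ∀ r ∈ R, s * r * s⁻¹ ∈ R) :
    ∀ s ∈ S, ∀ y ∈ fit R, s * y * s⁻¹ ∈ fit R := by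
  rintro s hs _ ⟨v, hv, rfl⟩
  have h1 : R = R.map (MulAut.conj s).toMonoidHom := eq_map (MulAut.conj s) fun x =>
    ⟨fun h => by simpa [mul_assoc] using hR _ (inv_mem hs) _ h, hR s hs x⟩
  have h2 : s * (v : G) * s⁻¹ ∈ fit (R.map (MulAut.conj s).toMonoidHom) :=
    ⟨_, (mem_fitting_map (MulAut.conj s).toMonoidHom (MulAut.conj s).injective v).2 hv, rfl⟩
  rwa [← h1] at h2

theorem core_inv [Finite G] {S R : Subgroup G} (hR : ∀ s ∈ S, ∀ r ∈ R, s * r * s⁻¹ ∈ R) {p : ℕ} (hp : p.Prime) :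
    ∀ s ∈ S, ∀ y ∈ Mon.core p R, s * y * s⁻¹ ∈ Mon.core p R := by
  intro s hs y hy
  have := Fact.mk hp
  obtain ⟨k, hk⟩ := Mon.core_pgroup p ⟨y, hy⟩
  have hk' : y ^ p ^ k = 1 := congrArg Subtype.val hk
  obtain ⟨w, hw, hw'⟩ := fit_inv hR s hs y (Mon.core_le_fit p hy)
  refine ⟨w, H761.F2.mem_pCore_of_mem_fitting hp hw (k := k) (Subtype.ext ?_), hw'⟩
  have h1 : (w : G) = s * y * s⁻¹ := hw'
  rw [Subgroup.coe_pow, h1, conj_pow, hk']
  simp

end transport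

open Cfsg.Spor (Fi24)
open Cfsg.Agent.R08.FiTwentyFour (finite_Fi24 index_commutator)
open Cfsg.Agent.LThreeFi24.SNine (x3)
open Cfsg.Agent.DS.Sp.F24S (Cl)
open Cfsg.Agent.H841.Tri (NX DN xN es_QQ card_QQ mem_NX x3_cube x3_ne)

theorem cl_iff {p : Fi24} : Cl 2 p ↔ ∃ g : Fi24, g * p * g⁻¹ = x3 ∨ g * p * g⁻¹ = x3⁻¹ := by
  have hX : H842.ThreeCl.X 2 = x3 := LThreeFi24.CaseB.word_x3.symm
  unfold Cl
  rw [hX]

theorem exists_inv : ∃ n : Fi24, n * x3⁻¹ * n⁻¹ = x3 := by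
  obtain ⟨n, hn⟩ := H841.Tri.exists_inv
  rcases mem_NX.1 n.2 with h | h
  · exact absurd (Subtype.ext h) hn
  · exact ⟨n, by rw [← conj_inv, h, inv_inv]⟩

theorem exists_conj {p : Fi24} (h : Cl 2 p) : ∃ g : Fi24, g * p * g⁻¹ = x3 := by
  obtain ⟨g, hg | hg⟩ := cl_iff.1 h
  · exact ⟨g, hg⟩
  · obtain ⟨n, hn⟩ := exists_inv
    exact ⟨n * g, by rw [← hn, ← hg]; group⟩

theorem Q0_conj {n x : Fi24} (hn : n ∈ NX) (hx : x ∈ Q0) : n * x * n⁻¹ ∈ Q0 := by
  obtain ⟨hq, -⟩ := H841.Tri.quot_NX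
  obtain ⟨q, hq', rfl⟩ := hx
  exact ⟨_, hq.conj_mem q hq' ⟨n, hn⟩, rfl⟩

theorem es_Q0 : ES (zpowers x3) Q0 := by
  have h := H841.InjTr.es_map NX.subtype es_QQ NX.subtype_injective
  rw [MonoidHom.map_zpowers] at h
  exact h

theorem card_Q0 : Nat.card Q0 = 3 ^ 11 := (H841.InjTr.card_map NX.subtype NX.subtype_injective _).trans card_QQ

/-- `O₃(C(p))` -/
def Qp (p : Fi24) : Subgroup Fi24 where
  carrier := {x | ∀ g : Fi24, g * p * g⁻¹ = x3 ∨ g * p * g⁻¹ = x3⁻¹ → g * x * g⁻¹ ∈ Q0}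
  one_mem' := fun g _ => by simp
  mul_mem' := fun {a b} ha hb g hg => by
    rw [← conj_mul]
    exact mul_mem (ha g hg) (hb g hg)
  inv_mem' := fun {a} ha g hg => by
    rw [← conj_inv]
    exact inv_mem (ha g hg)

theorem mem_Qp {p g x : Fi24} (hg : g * p * g⁻¹ = x3) : x ∈ Qp p ↔ g * x * g⁻¹ ∈ Q0 := by
  refine ⟨fun h => h g (Or.inl hg), fun h k hk => ?_⟩
  have h1 : k * g⁻¹ ∈ NX := by
    rw [mem_NX]
    have h2 : k * g⁻¹ * x3 * (k * g⁻¹)⁻¹ = k * p * k⁻¹ := by rw [← hg]; group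
    rwa [h2]
  have h3 := Q0_conj h1 h
  rwa [show k * g⁻¹ * (g * x * g⁻¹) * (k * g⁻¹)⁻¹ = k * x * k⁻¹ by group] at h3

theorem Qp_iff {p g : Fi24} (hg : g * p * g⁻¹ = x3) (x : Fi24) : MulAut.conj g⁻¹ x ∈ Qp p ↔ x ∈ Q0 := by
  rw [mem_Qp hg, MulAut.conj_apply, show g * (g⁻¹ * x * g⁻¹⁻¹) * g⁻¹ = x by group]

theorem conj_x3 {p g : Fi24} (hg : g * p * g⁻¹ = x3) : MulAut.conj g⁻¹ x3 = p := by
  rw [MulAut.conj_apply, ← hg]
  group

theorem cube {p : Fi24} (h : Cl 2 p) : p ^ 3 = 1 := by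
  obtain ⟨g, hg⟩ := exists_conj h
  rw [← conj_x3 hg, ← map_pow, x3_cube, map_one]

theorem loc (h : BoxLoc) {p : Fi24} (hp : Cl 2 p) : Loc (commutator Fi24) (Cl 2) p (Qp p) := by
  obtain ⟨g, hg⟩ := exists_conj hp
  have h1 := trans (Q' := Qp p) (MulAut.conj g⁻¹) (fun x => ?_) (fun x => ?_) (Qp_iff hg) h
  · rwa [conj_x3 hg] at h1
  · exact ⟨fun h2 => by simpa [mul_assoc] using (inferInstance : (commutator Fi24).Normal).conj_mem _ h2 g,
      fun h2 => (inferInstance : (commutator Fi24).Normal).conj_mem _ h2 g⁻¹⟩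
  · exact ⟨fun h2 => by simpa [mul_assoc] using h2.conj g, fun h2 => h2.conj g⁻¹⟩

theorem es {p : Fi24} (hp : Cl 2 p) : ES (zpowers p) (Qp p) := by
  obtain ⟨g, hg⟩ := exists_conj hp
  have h := H841.InjTr.es_map (MulAut.conj g⁻¹).toMonoidHom es_Q0 (MulAut.conj g⁻¹).injective
  rw [← eq_map _ (Qp_iff hg), MonoidHom.map_zpowers] at h
  convert h using 2
  exact (conj_x3 hg).symm

/-- the geometry -/
theorem geo (h : BoxLoc) : Geo (commutator Fi24) (Cl 2) Qp where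
  cube := cube
  ne := fun hp h1 => by
    obtain ⟨g, hg⟩ := exists_conj hp
    rw [h1, mul_one, mul_inv_cancel] at hg
    exact x3_ne hg.symm
  inv := fun hp => by
    obtain ⟨g, hg⟩ := exists_conj hp
    exact cl_iff.2 ⟨g, Or.inr (by rw [← conj_inv, hg])⟩
  conj := fun hp g => hp.conj g
  Q_inv := fun {p} _ => by
    have h1 : ∀ g : Fi24, (g * p⁻¹ * g⁻¹ = x3 ∨ g * p⁻¹ * g⁻¹ = x3⁻¹) ↔ (g * p * g⁻¹ = x3 ∨ g * p * g⁻¹ = x3⁻¹) := fun g => by
      rw [← conj_inv, inv_inj, inv_eq_iff_eq_inv, or_comm]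
    ext x
    exact ⟨fun hx g hg => hx g ((h1 g).2 hg), fun hx g hg => hx g ((h1 g).1 hg)⟩
  Q_conj := fun {p} _ g x hx k hk => by
    have h1 := hx (k * g) (by rwa [show k * g * p * (k * g)⁻¹ = k * (g * p * g⁻¹) * k⁻¹ by group])
    rwa [show k * g * x * (k * g)⁻¹ = k * (g * x * g⁻¹) * k⁻¹ by group] at h1
  es := es
  Q_le := fun hp x hx => mem_of_cube index_commutator ((es hp).cub x hx)
  card := fun hp => by
    obtain ⟨g, hg⟩ := exists_conj hp
    rw [card_eq _ (Qp_iff hg), card_Q0]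
  pure := fun hp => (loc h hp).pure
  small := fun hp => (loc h hp).small
  meet := fun hp => (loc h hp).meet
  line := fun hp => (loc h hp).line
  kind := fun hp => (loc h hp).kind

/-- every non-trivial 3-subgroup is centralized by a point -/
theorem exists_pt {F : Subgroup Fi24} (hF : IsPGroup 3 F) (h0 : F ≠ ⊥) : ∃ z, Cl 2 z ∧ ∀ f ∈ F, z * f = f * z := by
  have := finite_Fi24
  have : Fact (Nat.Prime 3) := ⟨Nat.prime_three⟩
  obtain ⟨P, hP⟩ := H841.Tri.exists_sylow3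
  obtain ⟨P', hP'⟩ := hF.exists_le_sylow
  have : Nontrivial (P' : Subgroup Fi24) := (nontrivial_iff_ne_bot _).2 fun h => h0 (eq_bot_iff.2 (h ▸ hP'))
  have := P'.isPGroup'.center_nontrivial
  obtain ⟨z, hz⟩ := exists_ne (1 : center (P' : Subgroup Fi24))
  have hc : ∀ f ∈ (P' : Subgroup Fi24), ((z : (P' : Subgroup Fi24)) : Fi24) * f = f * (z : (P' : Subgroup Fi24)) :=
    fun f hf => (congrArg Subtype.val (mem_center_iff.1 z.2 ⟨f, hf⟩)).symm
  refine ⟨(z : (P' : Subgroup Fi24)), ?_, fun f hf => hc f (hP' hf)⟩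
  obtain ⟨g, rfl⟩ := MulAction.exists_smul_eq Fi24 P' P
  have h1 := hP (g * (z : (P' : Subgroup Fi24)) * g⁻¹) fun y hy => by
    obtain ⟨f, hf, rfl⟩ := hy
    exact (show Commute _ f from hc f hf).map (MulAut.conj g)
  rcases zp3 x3_cube h1 with h2 | h2
  · exfalso
    apply hz
    apply Subtype.ext
    apply Subtype.ext
    simpa using h2
  · exact cl_iff.2 ⟨g, h2⟩

theorem rowNIn (hL : BoxLoc) (h5 : BoxFive) : RowNIn 2 (commutator Fi24) := by
  intro S hS hm hn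
  have := finite_Fi24
  have : Fact (Nat.Prime 3) := ⟨Nat.prime_three⟩
  by_cases hp : ∃ p : ℕ, p.Prime ∧ 5 ≤ p ∧ ¬ NPar p (commutator Fi24) S
  · obtain ⟨p, h1, h2, h3⟩ := hp
    exact Or.inr (h5 S hS hm p h1 h2 h3)
  exfalso
  have hR : ∀ s ∈ S, ∀ r ∈ S ⊓ commutator Fi24, s * r * s⁻¹ ∈ S ⊓ commutator Fi24 := fun s hs r hr =>
    mem_inf.2 ⟨mul_mem (mul_mem hs (mem_inf.1 hr).1) (inv_mem hs), as24.normal.conj_mem _ (mem_inf.1 hr).2 s⟩
  have hsol : ∀ Y : Subgroup Fi24, Y ≤ S → Group.IsSolvable Y := fun Y hY =>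
    Group.isSolvable_of_isSolvable_injective (f := inclusion hY) (inclusion_injective hY)
  have hRs := hsol _ (inf_le_left : S ⊓ commutator Fi24 ≤ S)
  have hF : IsPGroup 3 (fit (S ⊓ commutator Fi24)) := by
    refine IsPGroup.iff_card.2 ⟨_, Nat.eq_prime_pow_of_unique_prime_dvd Nat.card_pos.ne' fun {q} hq hd => ?_⟩
    have : Fact q.Prime := ⟨hq⟩
    obtain ⟨y, hy⟩ := exists_prime_orderOf_dvd_card' _ hd
    have hy' : orderOf (y : Fi24) = q := by rw [Subgroup.orderOf_coe, hy]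
    by_contra h3
    have hq' : NPar q (commutator Fi24) S := by
      rcases Mon.prime_cases hq with h1 | h1 | h1
      · exact h1 ▸ hn
      · exact absurd h1 h3
      · by_contra h2
        exact hp ⟨q, hq, h1, h2⟩
    have h1 := Mon.mem_core y.2 hq hy'
    rw [hq' (Mon.core q _) (map_subtype_le _) (Mon.core_pgroup q) (core_inv hR hq), mem_bot] at h1
    rw [h1, orderOf_one] at hy'
    exact hq.one_lt.ne hy'
  have hF0 : fit (S ⊓ commutator Fi24) ≠ ⊥ := fun hb => hm.inf_ne_bot as24 hS (eq_bot_iff.2 fun y hy => by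
    rw [← hb]
    refine Mon.mem_fit_of_cent hRs hy fun f hf => ?_
    rw [hb, mem_bot] at hf
    rw [hf, mul_one, one_mul])
  obtain ⟨z, hz, hc⟩ := exists_pt hF hF0
  have hzT : z ∈ commutator Fi24 := mem_of_cube index_commutator (cube hz)
  have hzS : z ∈ S := hm.mem_of_centralizes as24 hF0
    (fun hle => as24.not_le hS (hle.trans ((map_subtype_le _).trans inf_le_left))) (fit_inv hR) hzT hc
  have hzF := Mon.mem_fit_of_cent hRs (mem_inf.2 ⟨hzS, hzT⟩) hc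
  refine boxGeo Fi24 (commutator Fi24) S (Cl 2) Qp (geo hL) (fun Y _ h0 hY hinv => hsol _ fun t ht => ?_) z hz
    fun s hs => hc _ (fit_inv hR s hs z hzF)
  have hYs : Group.IsSolvable Y := by
    have := hY.isNilpotent
    infer_instance
  exact hm.mem_of_normalizes as24 h0 (as24.not_le hYs) hinv (mem_inf.1 ht).1
    fun x hx => (mem_normalizer_iff.1 (mem_inf.1 ht).2 x).1 hx

/-- from a model of the full automorphism group to `RowN` -/
theorem rowN {A : Type*} [Group A] {T : Subgroup A} {p : ℕ} (hT : T.Normal) (hc : centralizer (T : Set A) = ⊥)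
    (hs : ∀ α : MulAut T, ∃ g : A, ∀ t : T, ((α t : T) : A) = g * t * g⁻¹) (h : RowNIn p T) : RowN p T := by
  have hsurj : Function.Surjective (MulAut.conjNormal : A →* MulAut T) := by
    intro α
    obtain ⟨g, hg⟩ := hs α
    exact ⟨g, by ext t; exact (hg t).symm⟩
  let e : A ≃* MulAut T := MulEquiv.ofBijective _ ⟨conjNormal_injective hc, hsurj⟩
  apply RowNIn.of_map e.symm.toMonoidHom e.symm.injective
  have h1 : (InnG T).map e.symm.toMonoidHom = T := by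
    rw [← map_conjNormal (T := T), map_map]
    have : e.symm.toMonoidHom.comp (MulAut.conjNormal : A →* MulAut T) = MonoidHom.id A := by
      ext g
      exact e.symm_apply_apply g
    rw [this, map_id]
  rw [h1]
  exact h

end Asm

/-- **The assembly.** -/
theorem boxAsm : BoxAsm := by
  rintro hL h5 K _ ⟨e⟩
  exact RowN.of_equiv e (Asm.rowN as24.normal as24.cent KFacts.FiTF.exists_conj (Asm.rowNIn hL h5))

end Cfsg.Agent.SB.F24
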