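import Cfsg.Agent.SB.Mon.F24.Chk2
/-!
# S5765, the row `Fi24'`: conjugacy certificates, II (helper96; generated)
-/

set_option autoImplicit false
set_option maxRecDepth 100000

namespace Cfsg.Agent.SB.F24.Wd

open Cfsg.Agent.Lib.PermNetPt Cfsg.Agent.Fischer.Fi24RepDef
open Cfsg.Agent.Fischer.Fi24Spider (gword)
open Cfsg.Agent.Lib.PackMat (allBelow dg)
open Cfsg.Agent.H834.U5 (gw5 u917 u11793 u11888)
open Cfsg.Agent.LThreeFi24.TwinK (wx3)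
open Cfsg.Agent.LThreeFi24.FiveConj (eqB)
open Cfsg.Agent.H842.FrameK (x5w)
open Cfsg.Agent.SB.F24.Md
open Cfsg.Spor.Fi24 (Gen)

def caz1 : List Gen := [.d, .h, .i, .a, .b, .c, .d, .h, .j, .g, .e, .f, .d, .e, .c, .d, .h, .i, .g, .f, .e, .b, .c, .d, .h, .j, .g, .f, .e, .d, .c,
  .b, .a, .l, .k, .i, .h, .c, .d, .e, .b, .c, .d, .h, .i, .f, .e, .b, .c, .d, .h, .a, .b, .c, .d, .e, .f, .g, .j, .d, .e, .c, .d, .h, .i, .h, .d, .e,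
  .c, .d, .h, .a, .b, .c, .d, .e, .f, .g, .b, .c, .d, .h, .e, .f, .d, .e, .c, .d, .h, .i, .b, .c, .d, .h, .e, .d, .c, .b, .a, .f, .d, .e, .c, .d, .h,
  .b, .c, .d, .e, .f, .e, .d, .h, .c, .d, .e, .b, .c, .d, .h, .b, .c, .d, .e, .b]

theorem cjaz1 : eqB (caz1 ++ (gew Wa ++ wx3) ++ caz1.reverse) (XW 3).reverse = true := by decide +kernel

def caz2 : List Gen := [.g, .f, .e, .d, .h, .i, .c, .d, .h, .e, .f, .b, .c, .d, .e, .k, .a, .b, .c, .d, .h, .i, .f, .c, .d, .e, .b, .c, .d, .h, .g,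
  .f, .e, .d, .c, .b, .a, .l, .k, .h, .d, .e, .b, .c, .d, .h, .i, .f, .e, .c, .d, .h, .a, .b, .c, .d, .e, .f, .g, .j, .h, .i, .f, .e, .a, .b, .c, .d,
  .h, .e, .f, .c, .d, .e, .b, .c, .d, .h, .i, .f, .e, .b, .c, .d, .h, .a, .b, .c, .d, .e, .f, .g, .i, .h, .d, .e, .b, .c, .d, .h, .i, .a, .d, .h, .c,
  .d, .e, .f, .h, .d, .e, .c, .d, .c, .l]

theorem cjaz2 : eqB (caz2 ++ (gew Wa ++ wx3.reverse) ++ caz2.reverse) (XW 3).reverse = true := by decide +kernel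

def ca1 : List Gen := [.f, .e, .c, .d, .h, .i, .g, .f, .e, .d, .h, .j, .g, .f, .e, .d, .c, .a, .b, .k, .a, .l, .k, .h, .f, .c, .d, .e, .a, .b, .c, .d,
  .h, .i, .g, .f, .e, .b, .c, .d, .h, .a, .b, .c, .d, .e, .f, .g, .j, .e, .d, .h, .i, .c, .d, .h, .e, .f, .d, .e, .c, .d, .h, .i, .g, .f, .e, .b, .c,
  .d, .h, .a, .b, .c, .d, .e, .f, .g, .f, .e, .a, .b, .c, .d, .h, .i, .f, .e, .d, .c, .b, .a, .b, .c, .d, .e, .f, .h, .c, .d, .e, .b, .c, .d, .h, .e,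
  .c, .d, .b, .l]

theorem cja1 : eqB (ca1 ++ (gew Wa ++ qw [5]) ++ ca1.reverse) (XW 1).reverse = true := by decide +kernel

theorem nca1 : chkPt (nw (qw [4] ++ qw [5] ++ (qw [4]).reverse ++ (qw [5]).reverse) false) 2 2 = false := by
  decide +kernel

def ca2 : List Gen := [.e, .c, .d, .h, .e, .f, .c, .d, .e, .b, .c, .d, .h, .i, .g, .f, .d, .e, .c, .d, .h, .j, .g, .f, .e, .d, .c, .b, .a, .l, .k, .i,
  .h, .j, .g, .f, .d, .e, .c, .d, .h, .i, .d, .e, .b, .c, .d, .h, .a, .b, .c, .d, .e, .f, .g, .j, .b, .c, .d, .h, .i, .f, .e, .d, .h, .a, .b, .c, .d,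
  .e, .f, .g, .i, .h, .f, .d, .e, .c, .d, .h, .i, .h, .e, .d, .c, .b, .a, .c, .d, .h, .e, .f, .d, .e, .c, .d, .h, .b, .c, .d, .e, .f, .h, .d, .e, .b,
  .c, .d, .h, .b, .c, .d, .e, .c, .l]

theorem cja2 : eqB (ca2 ++ (gew Wa ++ qw [4]) ++ ca2.reverse) (XW 4) = true := by decide +kernel

theorem nca2 : chkPt (nw (qw [5] ++ qw [4] ++ (qw [5]).reverse ++ (qw [4]).reverse) false) 2 2 = false := by
  decide +kernel

def ca3 : List Gen := [.h, .i, .c, .d, .h, .e, .d, .c, .b, .a, .l, .k, .c, .d, .h, .e, .f, .d, .e, .a, .b, .c, .d, .h, .i, .e, .f, .d, .e, .b, .c, .d,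
  .h, .a, .b, .c, .d, .e, .f, .g, .j, .d, .h, .c, .d, .e, .f, .g, .e, .d, .h, .i, .f, .e, .d, .h, .f, .c, .d, .e, .a, .b, .c, .d, .h, .i, .h, .d, .e,
  .f, .h, .c, .d, .e, .b, .c, .d, .h, .c, .b, .l]

theorem cja3 : eqB (ca3 ++ (gew Wa ++ qw [6, 8]) ++ ca3.reverse) (XW 3) = true := by decide +kernel

theorem nca3 : chkPt (nw (qw [7, 9] ++ qw [6, 8] ++ (qw [7, 9]).reverse ++ (qw [6, 8]).reverse) false) 2 2 = false := by
  decide +kernel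

def cbz0 : List Gen := [.a, .b, .c, .d, .h, .i, .g, .f, .e, .d, .h, .j, .g, .f, .e, .d, .c, .b, .a, .k, .h, .i, .f, .e, .d, .h, .c, .d, .e, .b, .c,
  .d, .h, .i, .h, .f, .c, .d, .e, .b, .c, .d, .h, .a, .b, .c, .d, .e, .f, .g, .j, .f, .e, .b, .c, .d, .h, .i, .d, .e, .f, .c, .d, .e, .b, .c, .d, .h,
  .a, .b, .c, .d, .e, .f, .g, .f, .e, .d, .h, .b, .c, .d, .e, .a, .b, .c, .d, .h, .i, .c, .d, .e, .f, .e, .d, .h, .c, .d, .e, .b, .c, .d, .h, .d, .e,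
  .d]

theorem cjbz0 : eqB (cbz0 ++ (gew Wb) ++ cbz0.reverse) (XW 1).reverse = true := by decide +kernel

def cbz1 : List Gen := [.g, .f, .d, .e, .c, .d, .h, .e, .f, .b, .c, .d, .e, .a, .b, .c, .d, .h, .i, .g, .f, .e, .a, .b, .c, .d, .h, .j, .g, .f, .e,
  .d, .c, .b, .a, .k, .i, .e, .c, .d, .h, .e, .f, .c, .d, .e, .a, .b, .c, .d, .h, .i, .g, .f, .c, .d, .e, .b, .c, .d, .h, .a, .b, .c, .d, .e, .f, .g,
  .j, .c, .d, .h, .f, .g, .e, .f, .d, .e, .c, .d, .h, .i, .h, .e, .f, .c, .d, .e, .b, .c, .d, .h, .a, .b, .c, .d, .e, .f, .g, .d, .h, .e, .f, .d, .e,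
  .a, .b, .c, .d, .h, .i, .c, .b, .a, .d, .h, .b, .c, .d, .e, .f, .h, .e, .b, .c]

theorem cjbz1 : eqB (cbz1 ++ (gew Wb ++ wx3) ++ cbz1.reverse) (XW 3) = true := by decide +kernel

def cbz2 : List Gen := [.d, .h, .i, .c, .d, .h, .e, .f, .g, .d, .e, .f, .a, .b, .c, .d, .e, .k, .a, .b, .c, .d, .h, .i, .f, .c, .d, .e, .b, .c, .d,
  .h, .j, .g, .f, .e, .d, .c, .b, .a, .l, .k, .f, .g, .e, .f, .d, .e, .b, .c, .d, .h, .i, .e, .f, .d, .e, .c, .d, .h, .a, .b, .c, .d, .e, .f, .g, .j,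
  .d, .h, .c, .d, .e, .b, .c, .d, .h, .a, .b, .c, .d, .e, .f, .g, .d, .h, .i, .f, .e, .a, .b, .c, .d, .h, .d, .e, .f, .c, .d, .e, .b, .c, .d, .h, .i,
  .d, .h, .f, .e, .d, .c, .b, .a, .f, .h, .c, .d, .b, .c, .b, .l]

theorem cjbz2 : eqB (cbz2 ++ (gew Wb ++ wx3.reverse) ++ cbz2.reverse) (XW 3) = true := by decide +kernel

def cb1 : List Gen := [.j, .g, .f, .c, .d, .e, .b, .c, .d, .h, .i, .c, .d, .e, .b, .c, .d, .h, .j, .g, .f, .e, .d, .c, .b, .a, .k, .h, .c, .d, .e, .b,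
  .c, .d, .h, .f, .g, .e, .f, .d, .e, .c, .d, .h, .b, .c, .d, .e, .f, .g, .j, .i, .e, .d, .h, .f, .c, .d, .e, .b, .c, .d, .h, .i, .e, .f, .c, .d, .e,
  .b, .c, .d, .h, .a, .b, .c, .d, .e, .f, .g, .e, .b, .c, .d, .h, .e, .f, .c, .d, .e, .a, .b, .c, .d, .h, .i, .c, .b, .a, .h, .b, .c, .d, .e, .f, .e,
  .d, .h, .b, .c, .d, .e]

theorem cjb1 : eqB (cb1 ++ (gew Wb ++ qw [2]) ++ cb1.reverse) (XW 4).reverse = true := by decide +kernel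

theorem ncb1 : chkPt (nw (qw [0, 1, 12, 3] ++ qw [2] ++ (qw [0, 1, 12, 3]).reverse ++ (qw [2]).reverse) false) 2 2 = false := by
  decide +kernel

theorem nib2 : chkPt (nw ((gew Wb ++ qw [2, 7, 19]) ++ (gew Wb ++ qw [2, 7, 19]) ++ (gew Wb ++ qw [2, 7, 19])) false) 2 2 = false := by
  decide +kernel

theorem nib3 : chkPt (nw ((gew Wb ++ qw [2, 17, 9]) ++ (gew Wb ++ qw [2, 17, 9]) ++ (gew Wb ++ qw [2, 17, 9])) false) 2 2 = false := by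
  decide +kernel

def cvC : List Gen := [.f, .d, .e, .c, .d, .h, .i, .f, .d, .e, .c, .d, .h, .d, .e, .f, .b, .c, .d, .e, .a, .b, .c, .d, .h, .i, .e, .f, .c, .d, .e, .b,
  .c, .d, .h, .j, .g, .f, .e, .d, .c, .b, .a, .k, .i, .f, .g, .e, .f, .c, .d, .e, .b, .c, .d, .h, .a, .b, .c, .d, .e, .f, .g, .j, .f, .e, .d, .h, .c,
  .d, .e, .f, .g, .b, .c, .d, .h, .e, .f, .d, .e, .c, .d, .h, .b, .c, .d, .e, .a, .b, .c, .d, .h, .i, .h, .d, .c, .b, .a, .h, .d, .e, .c, .d, .h, .c,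
  .d, .b, .c, .l]

theorem cjvC : eqB (cvC ++ (qw [0, 12]) ++ cvC.reverse) (XW 1).reverse = true := by decide +kernel

end Cfsg.Agent.SB.F24.Wd
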