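import Cfsg.Agent.SB.Mon.F24.Defs
import Cfsg.Agent.DS.Sp.F24SB

/-!
# S5765, the row `Fi24'`, `O₂(S ⊓ T) = 1`: second interface (helper96)

`Loc T Pt p Q` : the fields of `Geo` at one point.  `BoxLoc` : they hold at `x3` (the model, by computation).
`BoxAsm` : transport of `Loc` to `Geo` and the assembly of the row.  See `notes/SB/fi24n.md`.
-/

set_option autoImplicit false

namespace Cfsg.Agent.SB.F24

open Subgroup Cfsg

/-- the fields of `Geo` at the point `p` -/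
structure Loc {G : Type*} [Group G] (T : Subgroup G) (Pt : G → Prop) (p : G) (Q : Subgroup G) : Prop where
  pure : ∀ {w}, Pt w → Commute p w → Pt (w * p) → Pt (w * p⁻¹) → w ∈ Q
  small : ∀ {w}, Pt w → Commute p w → w ∉ Q → Nat.card ↥(Q ⊓ centralizer {w}) ≤ 3 ^ 8
  meet : ∀ {a b}, Pt a → Pt b → Pt (a * b) → Pt (a * b⁻¹) → Commute p a → Commute p b → Commute a b →
    a ∈ Q ∨ b ∈ Q ∨ a * b ∈ Q ∨ a * b⁻¹ ∈ Q
  line : ∀ B : Subgroup G, IsPGroup 3 B → (∀ b ∈ B, Commute p b) →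
    ∃ q, Pt q ∧ q ∈ Q ∧ q ∉ zpowers p ∧ (∀ b ∈ B, b * q * b⁻¹ * q⁻¹ ∈ zpowers p) ∧
      ¬ Group.IsSolvable ↥(T ⊓ centralizer {p} ⊓ centralizer {q})
  kind : ∀ {w}, Pt w → Commute p w → w ∉ Q →
    (Q ⊓ centralizer {w} ≤ closure {q | Pt q ∧ q ∈ Q ∧ Commute q w} ∧
      ¬ Group.IsSolvable ↥(T ⊓ centralizer {p} ⊓ centralizer {w})) ∨
    (∀ a b, Pt a → Pt b → a ∈ Q → b ∈ Q → Commute a w → Commute b w → a * b ∈ zpowers p ∨ Pt (a * b))

/-- `O₃(N(x3)) = 3^{1+10}` -/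
def Q0 : Subgroup Spor.Fi24 := (H841.Ext.QQ H841.Tri.DN).map H841.Tri.NX.subtype

/-- the model -/
def BoxLoc : Prop := Loc (commutator Spor.Fi24) (DS.Sp.F24S.Cl 2) LThreeFi24.SNine.x3 Q0

/-- the assembly -/
def BoxAsm : Prop :=
  BoxLoc → BoxFive → ∀ (K : Type) [Group K], Spor.IsoFi24' K → RowN 2 K

end Cfsg.Agent.SB.F24
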