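import Cfsg.Agent.SB.Mon.F24.Dat
import Cfsg.Agent.SB.Mon.F24.Defs2
import Cfsg.Agent.SB.Spor.Dens

/-!
# S5765, the row `Fi24'`: `Loc` from the tables and the class certificates (helper96)
-/

set_option autoImplicit false
set_option maxRecDepth 100000

namespace Cfsg.Agent.SB.F24.Md

open Subgroup
open scoped Matrix
open Cfsg.Agent.Lib.PackMat Cfsg.Agent.Lib.PackMatGroup Cfsg.Agent.Lib.PackMatMul Cfsg.Agent.Lib.PackMatLin
open Cfsg.Agent.Lib.PackMatOrbit (memB nodupB memB_spec nodupB_spec)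
open Cfsg.Agent.SB.F24.Md.Mod

variable {G : Type} [Group G]

/-- what the model needs from the group -/
structure Cert (D : Mod G) (T : Subgroup G) (Pt : G → Prop) (LG : List G) (r t a b : G) : Prop where
  cube : ∀ {p}, Pt p → p ^ 3 = 1
  inv : ∀ {p}, Pt p → Pt p⁻¹
  conj : ∀ {p}, Pt p → ∀ g, Pt (g * p * g⁻¹)
  nT : T.Normal
  odd : ∀ (g : G) (n : ℕ), Odd n → g ^ n = 1 → g ∈ T
  hG : List.Forall₂ D.Rep LG MG
  hr : D.Rep r Mr
  ht : D.Rep t Mt
  ha : D.Rep a Ma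
  hb : D.Rep b Mb
  dr : D.Dead Pt r Rr1 ∧ D.Dead Pt r Rr2 ∧ D.Dead Pt r Rr3
  dt : D.Dead Pt t Rt1 ∧ D.Dead Pt t Rt2 ∧ D.Dead Pt t Rt3
  da : D.Dead Pt a Ra1 ∧ D.Dead Pt a Ra2 ∧ D.Dead Pt a Ra3
  db : D.Dead Pt b Rb1 ∧ D.Dead Pt b Rb2 ∧ D.Dead Pt b Rb3
  nr : ¬ Pt r ∧ ¬ Pt (r * D.z⁻¹)
  nt : ¬ Pt (t * D.z) ∧ ¬ Pt (t * D.z⁻¹)
  na : ¬ Pt a ∧ ¬ Pt (a * D.z) ∧ ¬ Pt (a * D.z⁻¹)
  nb : ¬ Pt b ∧ ¬ Pt (b * D.z) ∧ ¬ Pt (b * D.z⁻¹)
  pz : Pt D.z
  p0 : ∃ q ∈ D.Q, D.vec q = rowVec C v0 ∧ Pt q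
  pA : ∃ q ∈ D.Q, D.vec q = rowVec C vA ∧ ¬ Pt q
  pC : ∃ q ∈ D.Q, D.vec q = rowVec C vC ∧ ¬ Pt q
  pD : ∃ q ∈ D.Q, D.vec q = rowVec C vD ∧ ¬ Pt q

/-- an `A₅` in `T ⊓ C(z) ⊓ C(w)` -/
def NS (T : Subgroup G) (z w : G) : Prop :=
  ∃ u v : G, u ∈ T ∧ v ∈ T ∧ Commute z u ∧ Commute z v ∧ Commute w u ∧ Commute w v ∧ u ^ 2 = 1 ∧ v ^ 3 = 1 ∧
    (u * v) ^ 5 = 1 ∧ u ≠ 1

theorem NS.not_solvable {T : Subgroup G} {z w : G} (h : NS T z w) :
    ¬ Group.IsSolvable ↥(T ⊓ centralizer {z} ⊓ centralizer {w}) := by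
  obtain ⟨u, v, h1, h2, h3, h4, h5, h6, h7, h8, h9, h10⟩ := h
  intro hs
  exact h10 (SB.Spor.eq_one_of_coprime hs
    ⟨⟨h1, mem_centralizer_singleton_iff.2 h3.symm⟩, mem_centralizer_singleton_iff.2 h5.symm⟩
    ⟨⟨h2, mem_centralizer_singleton_iff.2 h4.symm⟩, mem_centralizer_singleton_iff.2 h6.symm⟩ h7 h8 h9
    (by decide) (by decide) (by decide))

theorem comm_cj {x y : G} (g : G) (h : Commute x y) : Commute (g * x * g⁻¹) (g * y * g⁻¹) := h.map (MulAut.conj g)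

theorem cj_fix {z g : G} (h : Commute z g) : g * z * g⁻¹ = z := by rw [← h.eq, mul_inv_cancel_right]

theorem NS.conj {T : Subgroup G} (nT : T.Normal) {z w g : G} (hg : Commute z g) (h : NS T z w) :
    NS T z (g * w * g⁻¹) := by
  obtain ⟨u, v, h1, h2, h3, h4, h5, h6, h7, h8, h9, h10⟩ := h
  refine ⟨g * u * g⁻¹, g * v * g⁻¹, nT.conj_mem u h1 g, nT.conj_mem v h2 g, ?_, ?_, comm_cj g h5, comm_cj g h6,
    by rw [conj_pow, h7]; group, by rw [conj_pow, h8]; group, ?_, fun k => h10 (by simpa using k)⟩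
  · have := comm_cj g h3; rwa [cj_fix hg] at this
  · have := comm_cj g h4; rwa [cj_fix hg] at this
  · rw [show g * u * g⁻¹ * (g * v * g⁻¹) = g * (u * v) * g⁻¹ by group, conj_pow, h9]; group

/-- the properties of a point of `C(z)` outside `Q` -/
structure Gd (D : Mod G) (T : Subgroup G) (Pt : G → Prop) (w : G) : Prop where
  p1 : ¬ Pt (w * D.z)
  p2 : ¬ Pt (w * D.z⁻¹)
  small : Nat.card ↥(D.Q ⊓ centralizer {w}) ≤ 3 ^ 8
  kind : ((∀ x ∈ D.Q, Commute x w → x ∈ closure {q | Pt q ∧ q ∈ D.Q ∧ Commute q w}) ∧ NS T D.z w) ∨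
    (∀ a b, Pt a → Pt b → a ∈ D.Q → b ∈ D.Q → Commute a w → Commute b w → a * b ∈ zpowers D.z ∨ Pt (a * b))

namespace Cert

variable {D : Mod G} {T : Subgroup G} {Pt : G → Prop} {LG : List G} {r t a b : G} (H : Cert D T Pt LG r t a b)

include H

theorem conj' {p : G} (g : G) (h : Pt (g⁻¹ * p * g)) : Pt p := by
  have := H.conj h g
  rwa [show g * (g⁻¹ * p * g) * g⁻¹ = p by group] at this

theorem conj'' {p : G} (h : Pt p) (g : G) : Pt (g⁻¹ * p * g) := by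
  have := H.conj h g⁻¹
  rwa [inv_inv] at this

theorem gd_inv {w : G} (hw : Commute D.z w) (h : Gd D T Pt w⁻¹) : Gd D T Pt w := by
  have e : centralizer ({w} : Set G) = centralizer {w⁻¹} := by
    ext x
    rw [mem_centralizer_singleton_iff, mem_centralizer_singleton_iff]
    exact (Commute.inv_right_iff (a := x)).symm
  refine ⟨fun k => h.p2 ?_, fun k => h.p1 ?_, e ▸ h.small, ?_⟩
  · have := H.inv k
    rwa [mul_inv_rev, hw.inv_inv.eq] at this
  · have := H.inv k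
    rwa [mul_inv_rev, inv_inv, hw.inv_right.eq] at this
  · rcases h.kind with ⟨k1, u, v, k2⟩ | k
    · simp only [Commute.inv_right_iff, Commute.inv_left_iff] at k1 k2
      exact Or.inl ⟨k1, u, v, k2⟩
    · simp only [Commute.inv_right_iff] at k
      exact Or.inr k

theorem gd_conj [Finite G] {w g : G} (hg : Commute D.z g) (h : Gd D T Pt (g⁻¹ * w * g)) : Gd D T Pt w := by
  have cm : ∀ {x}, Commute x w → Commute (g⁻¹ * x * g) (g⁻¹ * w * g) := fun k => by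
    have := comm_cj g⁻¹ k
    rwa [inv_inv] at this
  have ew : g * (g⁻¹ * w * g) * g⁻¹ = w := by group
  refine ⟨fun k => h.p1 ?_, fun k => h.p2 ?_, le_trans ?_ h.small, ?_⟩
  · have := H.conj'' k g
    rwa [mul_assoc, mul_assoc, hg.eq, ← mul_assoc, ← mul_assoc] at this
  · have := H.conj'' k g
    rwa [mul_assoc, mul_assoc, hg.inv_left.eq, ← mul_assoc, ← mul_assoc] at this
  · refine Nat.card_le_card_of_injective (fun x => ⟨g⁻¹ * x * g, D.norm hg x.2.1, mem_centralizer_singleton_iff.2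
      (cm (mem_centralizer_singleton_iff.1 x.2.2))⟩) fun x y e => Subtype.ext ?_
    have := congrArg Subtype.val e
    simpa using this
  · rcases h.kind with ⟨k1, k2⟩ | k
    · refine Or.inl ⟨fun x hx hc => ?_, ew ▸ k2.conj H.nT hg⟩
      have h1 := k1 _ (D.norm hg hx) (cm hc)
      have h2 : closure {q | Pt q ∧ q ∈ D.Q ∧ Commute q (g⁻¹ * w * g)} ≤
          (closure {q | Pt q ∧ q ∈ D.Q ∧ Commute q w}).comap (MulAut.conj g).toMonoidHom := by
        rw [closure_le]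
        rintro q ⟨q1, q2, q3⟩
        exact subset_closure ⟨H.conj q1 g, D.norm' hg q2, ew ▸ comm_cj g q3⟩
      have h3 : g * (g⁻¹ * x * g) * g⁻¹ ∈ closure {q | Pt q ∧ q ∈ D.Q ∧ Commute q w} := h2 h1
      rwa [show g * (g⁻¹ * x * g) * g⁻¹ = x by group] at h3
    · refine Or.inr fun x y px py hx hy cx cy => ?_
      have h1 := k _ _ (H.conj'' px g) (H.conj'' py g) (D.norm hg hx) (D.norm hg hy) (cm cx) (cm cy)
      rw [show g⁻¹ * x * g * (g⁻¹ * y * g) = g⁻¹ * (x * y) * g by group] at h1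
      rcases h1 with h1 | h1
      · left
        have h2 := (D.cZ hg h1).eq
        rw [show x * y = g * (g⁻¹ * (x * y) * g) * g⁻¹ by group, ← h2, mul_inv_cancel_right]
        exact h1
      · exact Or.inr (H.conj' g h1)

omit H in
theorem rv_ne {R : ℕ} (h : okR C R = true) (h0 : R ≠ 0) : rowVec C R ≠ 0 := fun k =>
  h0 (rowVec_injOn (okR_spec h) (okR_spec (by decide +kernel)) (k.trans rowVec_zero.symm))

theorem pt_v0 {x : G} (hx : x ∈ D.Q) (e : D.vec x = rowVec C v0) : Pt x := by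
  obtain ⟨q, hq, f, p⟩ := H.p0
  obtain ⟨g, rfl⟩ := D.conj_vec hx hq (e.trans f.symm) (f ▸ rv_ne ec_v0.1 nz_vec.2.2.2.1)
  exact H.conj p g

theorem np_of {R : ℕ} (h : ∃ q ∈ D.Q, D.vec q = rowVec C R ∧ ¬ Pt q) (h1 : okR C R = true) (h0 : R ≠ 0) {x : G}
    (hx : x ∈ D.Q) (e : D.vec x = rowVec C R) : ¬ Pt x := by
  obtain ⟨q, hq, f, p⟩ := h
  obtain ⟨g, rfl⟩ := D.conj_vec hq hx (f.trans e.symm) (e ▸ rv_ne h1 h0)
  exact fun k => p (H.conj k g)

theorem rp {w : List ℕ} {A : ℕ} (h : okW MG.length w = true ∧ Nat.beq (evL mu MG w c1) A = true) :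
    D.Rep (evG LG w) A := (rep_ev H.hG h.1).of_beq h.2

theorem exists_uv : ∃ u v, D.Rep u Mu ∧ D.Rep v Mv ∧ u ∈ T ∧ v ∈ T ∧ u ^ 2 = 1 ∧ v ^ 3 = 1 ∧ (u * v) ^ 5 = 1 ∧ u ≠ 1 := by
  have hu := H.rp ev_u
  have hv := H.rp ev_v
  generalize evG LG [0, 2] = u at hu
  generalize evG LG [2, 1, 2, 3] = v at hv
  obtain ⟨k1, k2, k3, k4, -⟩ := uv_chk
  have e := hu.mul hv
  have h5 : (u * v) ^ 5 = 1 := by
    rw [show (u * v) ^ 5 = u * v * (u * v) * (u * v) * (u * v) * (u * v) by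
      simp only [pow_succ, pow_zero, one_mul]]
    exact ((((e.mul e).mul e).mul e).mul e).eq' rep_one k3
  have tv := H.odd v 3 (by decide) (hv.cube k2)
  refine ⟨u, v, hu, hv, ?_, tv, ?_, hv.cube k2, h5, fun k => ?_⟩
  · have := mul_mem (H.odd _ 5 (by decide) h5) (inv_mem tv)
    rwa [mul_inv_cancel_right] at this
  · rw [pow_two]
    exact (hu.mul hu).eq' rep_one k1
  · rw [k] at hu
    rw [hu.code rep_one, Nat.beq_refl] at k4
    exact absurd k4 (by decide)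

theorem gd_r [Finite G] : Gd D T Pt (r * D.z) := by
  have cz : ∀ {x}, x ∈ D.Q → (Commute x (r * D.z) ↔ Commute r x) := fun {x} hx =>
    ⟨fun k => by
      have := k.mul_right (D.cQ hx).symm.inv_right
      rw [mul_inv_cancel_right] at this
      exact this.symm, fun k => k.symm.mul_right (D.cQ hx).symm⟩
  refine ⟨?_, ?_, fix_card H.hr fix_r fun x hx k => (cz hx).1 k.symm, Or.inl ⟨fun x hx k => ?_, ?_⟩⟩
  · have e : D.z * D.z = D.z⁻¹ := by rw [eq_inv_iff_mul_eq_one, ← pow_three', D.z3]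
    rw [mul_assoc, e]
    exact H.nr.2
  · rw [mul_inv_cancel_right]
    exact H.nr.1
  · refine fix_gen (K := closure {q | Pt q ∧ q ∈ D.Q ∧ Commute q (r * D.z)}) H.hr H.hG fix_r row_r
      (Subgroup.subset_closure ⟨H.pz, D.z_mem, (cz D.z_mem).2 (D.comm H.hr.1).symm⟩)
      (fun q hq c1 c hc e => Subgroup.subset_closure ⟨H.conj' c (H.pt_v0 (D.nS hc hq) e), hq, (cz hq).2 c1⟩) hx ((cz hx).1 k)
  · obtain ⟨u, v, hu, hv, h1, h2, h3, h4, h5, h6⟩ := H.exists_uv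
    obtain ⟨-, -, -, -, k1, k2, -⟩ := uv_chk
    exact ⟨u, v, h1, h2, D.comm hu.1, D.comm hv.1, (hu.commute H.hr k1).symm.mul_left (D.comm hu.1),
      (hv.commute H.hr k2).symm.mul_left (D.comm hv.1), h3, h4, h5, h6⟩

theorem gd_t [Finite G] : Gd D T Pt t := by
  refine ⟨H.nt.1, H.nt.2, fix_card H.ht fix_t fun x _ k => k, Or.inr fun x y px py hx hy cx cy => ?_⟩
  have key : ∀ {x}, x ∈ D.Q → Commute x t → (Pt x → D.vec x ᵥ* mat C Fmt = 0) ∧
      (D.vec x ᵥ* mat C Fmt = 0 → x ∈ zpowers D.z ∨ Pt x) := by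
    intro x hx cx
    obtain ⟨c, hc, k, hk, e, f⟩ := fix_cls H.ht H.hG fix_t cls_t hx cx.symm
    obtain ⟨n1, n2, n3, -, n4, n5, n6⟩ := nz_vec
    have hq := D.nS hc hx
    have hk' : k < 5 := hk
    refine ⟨fun p => f.1 ?_, fun p => ?_⟩
    · have p' := H.conj'' p c
      interval_cases k
      · decide
      · decide
      · exact absurd p' (H.np_of H.pA n1 n4 hq e)
      · exact absurd p' (H.np_of H.pC n2 n5 hq e)
      · exact absurd p' (H.np_of H.pD n3 n6 hq e)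
    · have h1 := f.2 p
      interval_cases k
      · left
        have h2 := (D.ker hq).1 (e.trans rowVec_zero)
        have h3 := (D.cZ (D.comm hc) h2).eq
        rw [show x = c * (c⁻¹ * x * c) * c⁻¹ by group, ← h3, mul_inv_cancel_right]
        exact h2
      · exact Or.inr (H.conj' c (H.pt_v0 hq e))
  refine (key (mul_mem hx hy) (cx.mul_left cy)).2 ?_
  rw [D.add hx hy, Matrix.add_vecMul, (key hx cx).1 px, (key hy cy).1 py, add_zero]

theorem cos_r [Finite G] {x : G} (hx : x ∈ D.Q) (hp : Pt (r * x)) : Gd D T Pt (r * x) := by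
  obtain ⟨g, hg, w, pw, e, h⟩ := coset H.cube H.conj H.hr (.cons (H.rp ev_cr0) (.cons (H.rp ev_cr1) .nil)) aff_r
    H.dr.1 H.dr.2.1 H.dr.2.2 hx hp
  rcases h with rfl | rfl | rfl
  exacts [absurd pw H.nr.1, H.gd_conj hg (e ▸ H.gd_r), absurd pw H.nr.2]

theorem cos_t [Finite G] {x : G} (hx : x ∈ D.Q) (hp : Pt (t * x)) : Gd D T Pt (t * x) := by
  obtain ⟨g, hg, w, pw, e, h⟩ := coset H.cube H.conj H.ht (.cons (H.rp ev_ct0) (.cons (H.rp ev_ct1) .nil)) aff_t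
    H.dt.1 H.dt.2.1 H.dt.2.2 hx hp
  rcases h with h | rfl | rfl
  exacts [H.gd_conj hg (by rw [e, h]; exact H.gd_t), absurd pw H.nt.1, absurd pw H.nt.2]

theorem cos_a {x : G} (hx : x ∈ D.Q) : ¬ Pt (a * x) := fun hp => by
  obtain ⟨g, -, w, pw, -, h⟩ := coset H.cube H.conj H.ha (.cons (H.rp ev_ca0) (.cons (H.rp ev_ca1) .nil)) aff_a
    H.da.1 H.da.2.1 H.da.2.2 hx hp
  rcases h with rfl | rfl | rfl
  exacts [H.na.1 pw, H.na.2.1 pw, H.na.2.2 pw]

theorem cos_b {x : G} (hx : x ∈ D.Q) : ¬ Pt (b * x) := fun hp => by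
  obtain ⟨g, -, w, pw, -, h⟩ := coset H.cube H.conj H.hb (.cons (H.rp ev_cb0) (.cons (H.rp ev_cb1) .nil)) aff_b
    H.db.1 H.db.2.1 H.db.2.2 hx hp
  rcases h with rfl | rfl | rfl
  exacts [H.nb.1 pw, H.nb.2.1 pw, H.nb.2.2 pw]

omit H in
theorem inv_cos {s x : G} (hs : s ∈ D.S) (h3 : s ^ 3 = 1) (hx : x ∈ D.Q) : ∃ y ∈ D.Q, (s * s * x)⁻¹ = s * y := by
  have e : s * s = s⁻¹ := by rw [eq_inv_iff_mul_eq_one, ← pow_three', h3]
  exact ⟨s⁻¹ * x⁻¹ * s, D.nS hs (inv_mem hx), by rw [e]; group⟩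

/-- the points in the cosets of the Sylow subgroup -/
theorem cls [Finite G] {s x : G} {A : ℕ} (hA : A ∈ LL) (hs : D.Rep s A) (hx : x ∈ D.Q) (hp : Pt (s * x)) :
    s = 1 ∨ (A ∈ FL ∧ Gd D T Pt (s * x)) := by
  have hE : List.Forall₂ D.Rep _ EC := .cons (H.rp ev_e0) (.cons (H.rp ev_e1) (.cons (H.rp ev_e2) (.cons (H.rp ev_e3)
    (.cons (H.rp ev_e4) .nil))))
  have s3 := pow_eq_one hs.1 hx (H.cube hp)
  obtain ⟨c1, c2, c3, c4⟩ := cubes
  have e0 : ∀ c, c⁻¹ * (s * x) * c = (c⁻¹ * s * c) * (c⁻¹ * x * c) := fun c => by group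
  obtain ⟨e, he, rfl⟩ := List.mem_map.1 hA
  rcases List.mem_append.1 he with he | he
  · have hS : List.Forall₂ D.Rep [r, r * r, t, t * t] SL1 :=
      .cons H.hr (.cons (H.hr.mul H.hr) (.cons H.ht (.cons (H.ht.mul H.ht) .nil)))
    rcases (tb_spec hE H.hG hS (allL_spec tf_chk e he)).2 s hs with h | h | ⟨c, hc, h⟩
    · exact Or.inl h
    · exact absurd s3 h
    refine Or.inr ⟨List.mem_map_of_mem he, H.gd_conj (D.comm hc) ?_⟩
    have p := H.conj'' hp c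
    have q := D.nS hc hx
    rw [e0] at p ⊢
    generalize c⁻¹ * x * c = y at p q
    generalize c⁻¹ * s * c = s' at p h
    simp only [List.mem_cons, List.not_mem_nil, or_false] at h
    rcases h with h | h | h | h <;> rw [h] at p ⊢
    · exact H.cos_r q p
    · obtain ⟨y', q', f⟩ := inv_cos H.hr.1 (H.hr.cube c1) q
      refine H.gd_inv (((D.comm H.hr.1).mul_right (D.comm H.hr.1)).mul_right (D.cQ q)) ?_
      rw [f]
      exact H.cos_r q' (f ▸ H.inv p)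
    · exact H.cos_t q p
    · obtain ⟨y', q', f⟩ := inv_cos H.ht.1 (H.ht.cube c2) q
      refine H.gd_inv (((D.comm H.ht.1).mul_right (D.comm H.ht.1)).mul_right (D.cQ q)) ?_
      rw [f]
      exact H.cos_t q' (f ▸ H.inv p)
  · have hS : List.Forall₂ D.Rep [a, a * a, b, b * b] SL2 :=
      .cons H.ha (.cons (H.ha.mul H.ha) (.cons H.hb (.cons (H.hb.mul H.hb) .nil)))
    rcases (tb_spec hE H.hG hS (allL_spec tr_chk e he)).2 s hs with h | h | ⟨c, hc, h⟩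
    · exact Or.inl h
    · exact absurd s3 h
    exfalso
    have p := H.conj'' hp c
    have q := D.nS hc hx
    rw [e0] at p
    generalize c⁻¹ * x * c = y at p q
    generalize c⁻¹ * s * c = s' at p h
    simp only [List.mem_cons, List.not_mem_nil, or_false] at h
    rcases h with h | h | h | h <;> rw [h] at p
    · exact H.cos_a q p
    · obtain ⟨y', q', f⟩ := inv_cos H.ha.1 (H.ha.cube c3) q
      exact H.cos_a q' (f ▸ H.inv p)
    · exact H.cos_b q p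
    · obtain ⟨y', q', f⟩ := inv_cos H.hb.1 (H.hb.cube c4) q
      exact H.cos_b q' (f ▸ H.inv p)

/-- the Sylow subgroup -/
theorem sylow [Finite G] : ∃ K : Subgroup G, (∀ s ∈ K, ∃ A ∈ LL, D.Rep s A) ∧
    (∀ s ∈ K, ∀ q ∈ D.Q, D.vec q = rowVec C v0 → Commute s q) ∧ ∀ B : Subgroup G, IsPGroup 3 B →
      (∀ b ∈ B, Commute D.z b) → ∃ h ∈ D.S, ∀ b ∈ B, ∃ s ∈ K, ∃ x ∈ D.Q, h⁻¹ * b * h = s * x := by
  have hE : List.Forall₂ D.Rep _ EC := .cons (H.rp ev_e0) (.cons (H.rp ev_e1) (.cons (H.rp ev_e2) (.cons (H.rp ev_e3)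
    (.cons (H.rp ev_e4) .nil))))
  obtain ⟨h1, h2⟩ := syl hE ll_len ll_nd ll_one ec_cube ll_cl (fun A hA => by
    obtain ⟨e, he, rfl⟩ := List.mem_map.1 hA
    rcases List.mem_append.1 he with he | he
    · exact ⟨_, (tb_spec hE H.hG (.cons H.hr (.cons (H.hr.mul H.hr) (.cons H.ht (.cons (H.ht.mul H.ht) .nil))))
        (allL_spec tf_chk e he)).1⟩
    · exact ⟨_, (tb_spec hE H.hG (.cons H.ha (.cons (H.ha.mul H.ha) (.cons H.hb (.cons (H.hb.mul H.hb) .nil))))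
        (allL_spec tr_chk e he)).1⟩)
  refine ⟨_, h1, fun s hs q hq e => ?_, h2⟩
  refine mem_centralizer_singleton_iff.1 ((closure_le (centralizer {q})).2 (fun g hg => ?_) hs)
  obtain ⟨A, hA, k⟩ := forall₂_mem hE hg
  exact mem_centralizer_singleton_iff.2 (k.comm (okR_spec ec_v0.1) (allL_spec ec_v0.2 A hA) hq e).eq

omit H in
theorem pg_pair {x y : G} (hx : x ^ 3 = 1) (hy : y ^ 3 = 1) (h : Commute x y) :
    IsPGroup 3 (zpowers x ⊔ zpowers y : Subgroup G) := by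
  rintro ⟨g, hg⟩
  obtain ⟨_, ⟨i, rfl⟩, _, ⟨j, rfl⟩, rfl⟩ := (H841.Ext.mem_sup_of_comm (by
    rintro _ ⟨i, rfl⟩ _ ⟨j, rfl⟩
    exact h.zpow_zpow i j)).1 hg
  refine ⟨1, Subtype.ext ?_⟩
  show (x ^ i * y ^ j) ^ 3 ^ 1 = 1
  rw [pow_one, (h.zpow_zpow i j).mul_pow, ← zpow_natCast, ← zpow_natCast, ← zpow_mul, ← zpow_mul, mul_comm i, mul_comm j,
    zpow_mul, zpow_mul, zpow_natCast, zpow_natCast, hx, hy, one_zpow, one_zpow, mul_one]

theorem gd [Finite G] {w : G} (hp : Pt w) (hc : Commute D.z w) (hw : w ∉ D.Q) : Gd D T Pt w := by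
  obtain ⟨K, h1, -, h2⟩ := H.sylow
  obtain ⟨h, hh, h3⟩ := h2 _ (pg_pair (H.cube hp) (H.cube hp) (Commute.refl w)) (by
    rw [sup_idem]
    rintro _ ⟨i, rfl⟩
    exact hc.zpow_right i)
  obtain ⟨s, hs, x, hx, e⟩ := h3 w (mem_sup_left (mem_zpowers w))
  obtain ⟨A, hA, k⟩ := h1 s hs
  rcases H.cls hA k hx (e ▸ H.conj'' hp h) with k1 | k1
  · rw [k1, one_mul] at e
    refine absurd ?_ hw
    rw [show w = h * (h⁻¹ * w * h) * h⁻¹ by group, e]
    exact D.norm' (D.comm hh) hx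
  · exact H.gd_conj (D.comm hh) (e ▸ k1.2)

theorem loc [Finite G] : Loc T Pt D.z D.Q where
  pure := fun {w} hp hc h1 _ => by
    by_contra hw
    exact (H.gd hp hc hw).p1 h1
  small := fun hp hc hw => (H.gd hp hc hw).small
  kind := fun hp hc hw => (H.gd hp hc hw).kind.imp
    (fun k => ⟨fun x hx => k.1 x hx.1 (mem_centralizer_singleton_iff.1 hx.2), k.2.not_solvable⟩) id
  meet := fun {x y} px py p1 p2 cx cy cxy => by
    by_contra hn
    simp only [not_or] at hn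
    obtain ⟨n1, n2, n3, n4⟩ := hn
    obtain ⟨K, h1, -, h2⟩ := H.sylow
    obtain ⟨h, hh, h3⟩ := h2 _ (pg_pair (H.cube px) (H.cube py) cxy) (fun b hb => by
      have : zpowers x ⊔ zpowers y ≤ centralizer {D.z} :=
        sup_le (zpowers_le.2 (mem_centralizer_singleton_iff.2 cx.symm))
          (zpowers_le.2 (mem_centralizer_singleton_iff.2 cy.symm))
      exact (show Commute b D.z from mem_centralizer_singleton_iff.1 (this hb)).symm)
    obtain ⟨s, hs, u, hu, e⟩ := h3 x (mem_sup_left (mem_zpowers x))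
    obtain ⟨s', hs', u', hu', e'⟩ := h3 y (mem_sup_right (mem_zpowers y))
    have key : ∀ {w s u : G} {A : ℕ}, s ∈ K → D.Rep s A → u ∈ D.Q → h⁻¹ * w * h = s * u → Pt w → w ∉ D.Q → A ∈ FL := by
      intro w s u A hs hA hu e p n
      obtain ⟨A', hA', k⟩ := h1 s hs
      rcases H.cls hA' k hu (e ▸ H.conj'' p h) with k1 | k1
      · rw [k1, one_mul] at e
        refine absurd ?_ n
        rw [show w = h * (h⁻¹ * w * h) * h⁻¹ by group, e]
        exact D.norm' (D.comm hh) hu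
      · exact hA.code k ▸ k1.1
    obtain ⟨A, -, rA⟩ := h1 s hs
    obtain ⟨B, -, rB⟩ := h1 s' hs'
    have q1 : s'⁻¹ * u * s' * u' ∈ D.Q := mul_mem (D.nS rB.1 hu) hu'
    have f1 : h⁻¹ * (x * y) * h = s * s' * (s'⁻¹ * u * s' * u') := by
      rw [show h⁻¹ * (x * y) * h = (h⁻¹ * x * h) * (h⁻¹ * y * h) by group, e, e']; group
    have f2 : h⁻¹ * (x * y⁻¹) * h = s * s' * s' * (s'⁻¹ * (s'⁻¹ * u * s' * u') * s' * u') := by
      have ey : y⁻¹ = y * y := by rw [inv_eq_iff_mul_eq_one, ← mul_assoc, ← pow_three', H.cube py]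
      rw [ey, show h⁻¹ * (x * (y * y)) * h = (h⁻¹ * (x * y) * h) * (h⁻¹ * y * h) by group, f1, e']; group
    have m1 := key hs rA hu e px n1
    have m2 := key hs' rB hu' e' py n2
    have m3 := key (mul_mem hs hs') (rA.mul rB) q1 f1 p1 n3
    have m4 := key (mul_mem (mul_mem hs hs') hs') ((rA.mul rB).mul rB) (mul_mem (D.nS rB.1 q1) hu') f2 p2 n4
    have m5 := allL_spec (allL_spec fl_meet A m1) B m2
    rw [force_eq, force_eq, memB_spec.2 m3, memB_spec.2 m4] at m5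
    exact absurd m5 (by decide)
  line := fun B hB hc => by
    obtain ⟨K, h1, h4, h2⟩ := H.sylow
    obtain ⟨h, hh, h3⟩ := h2 B hB hc
    obtain ⟨q, hq, e, p⟩ := H.p0
    have ch := D.comm hh
    refine ⟨h * q * h⁻¹, H.conj p h, D.norm' ch hq, fun k => ?_, fun b hb => ?_, NS.not_solvable (NS.conj H.nT ch ?_)⟩
    · have h5 := (D.cZ ch k).eq
      have h6 : q = h * q * h⁻¹ := by
        rw [inv_mul_cancel_right] at h5
        calc q = h⁻¹ * (h * q) := by group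
          _ = h * q * h⁻¹ := by rw [← inv_mul_eq_iff_eq_mul] at h5; exact h5
      rw [← h6] at k
      exact rv_ne ec_v0.1 nz_vec.2.2.2.1 (e ▸ (D.ker hq).2 k)
    · obtain ⟨s, hs, x, hx, f⟩ := h3 b hb
      obtain ⟨A, -, rA⟩ := h1 s hs
      have c1 := h4 s hs q hq e
      have c2 := D.es.com x hx q hq
      have c3 : b * (h * q * h⁻¹) * b⁻¹ * (h * q * h⁻¹)⁻¹ = h * (s * (x * q * x⁻¹ * q⁻¹) * s⁻¹) * h⁻¹ := by
        have c4 : s * (x * q * x⁻¹ * q⁻¹) * s⁻¹ = s * x * q * x⁻¹ * s⁻¹ * q⁻¹ := by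
          rw [mul_assoc _ s⁻¹, c1.inv_inv.eq]; group
        rw [c4, show b = h * (h⁻¹ * b * h) * h⁻¹ by group, f]; group
      rw [c3, ← (D.cZ (D.comm rA.1) c2).eq, mul_inv_cancel_right, ← (D.cZ ch c2).eq, mul_inv_cancel_right]
      exact c2
    · obtain ⟨u, v, hu, hv, k1, k2, k3, k4, k5, k6⟩ := H.exists_uv
      obtain ⟨-, -, -, -, -, -, m1, m2⟩ := uv_chk
      exact ⟨u, v, k1, k2, D.comm hu.1, D.comm hv.1, (hu.comm (okR_spec ec_v0.1) m1 hq e).symm,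
        (hv.comm (okR_spec ec_v0.1) m2 hq e).symm, k3, k4, k5, k6⟩

end Cert

end Cfsg.Agent.SB.F24.Md
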