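import Cfsg.Agent.SB.Mon.F24.Vec
import Cfsg.Agent.SB.Mon.F24.Fin
import Cfsg.Agent.SB.Mon.F24.Chk3
import Cfsg.Agent.SB.Mon.F24.Asm
import Cfsg.Agent.SB.Mon.F24.Five

/-!
# S5765, the row `Fi24'`, `O₂(S ⊓ T) = 1` (helper96)

`boxLoc : BoxLoc`, `rowN_Fi24 : Spor.IsoFi24' K → RowN 2 K`.
-/

set_option autoImplicit false
set_option maxRecDepth 100000

namespace Cfsg.Agent.SB.F24.Wd

open Subgroup Cfsg
open Cfsg.Spor (Fi24)
open Cfsg.Spor.Fi24 (Gen)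
open Cfsg.Agent.Lib.PackMat Cfsg.Agent.Lib.PackMatGroup Cfsg.Agent.Lib.PackMatMul
open Cfsg.Agent.Lib.PermNetPt Cfsg.Agent.Fischer.Fi24RepDef
open Cfsg.Agent.Fischer.Fi24Rep (word gen rho)
open Cfsg.Agent.Fischer.Fi24Spider (word_append)
open Cfsg.Agent.R08.FiTwentyFour (finite_Fi24 index_commutator)
open Cfsg.Agent.KFacts.FiTF.Pts (word_reverse)
open Cfsg.Agent.LThreeFi24.FiveConj (eqB eq_of_eqB word_w)
open Cfsg.Agent.LThreeFi24.SNine (x3)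
open Cfsg.Agent.LThreeFi24.TwinK (wx3)
open Cfsg.Agent.LThreeFi24.CaseB (word_x3)
open Cfsg.Agent.H834.U5 (rho_ne)
open Cfsg.Agent.H842.ThreeCl (X)
open Cfsg.Agent.DS.Sp.F24S (Cl)
open Cfsg.Agent.SB.F24.Md Cfsg.Agent.SB.F24.Md.Mod

theorem word_XW (i : Fin 5) : word (XW i) = X i := by
  fin_cases i
  · show word ([Gen.l] ++ [Gen.k]) = gen .l * gen .k
    rw [word_append, H841.Tri.word_single, H841.Tri.word_single]
  all_goals rfl

theorem cl_pos {i : Fin 5} {c w : List Gen} (h : eqB (c ++ w ++ c.reverse) (XW i) = true) : Cl i (word w) :=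
  ⟨word c, Or.inl (by rw [← word_w, eq_of_eqB h, word_XW])⟩

theorem cl_neg {i : Fin 5} {c w : List Gen} (h : eqB (c ++ w ++ c.reverse) (XW i).reverse = true) : Cl i (word w) :=
  ⟨word c, Or.inr (by rw [← word_w, eq_of_eqB h, word_reverse, word_XW])⟩

theorem not_pt {i : Fin 5} {y : Fi24} (h : Cl i y) (hi : H842.ThreeMain.wd i ≠ H842.ThreeMain.wd 2) : ¬ Cl 2 y := by
  rintro ⟨g, hg⟩
  obtain ⟨k, hk⟩ := h
  exact hi ((H48.OreFi.NineA.width_of hk).symm.trans (H48.OreFi.NineA.width_of hg))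

theorem n0 {y : Fi24} (h : Cl 0 y) : ¬ Cl 2 y := not_pt h (by decide)
theorem n1 {y : Fi24} (h : Cl 1 y) : ¬ Cl 2 y := not_pt h (by decide)
theorem n3 {y : Fi24} (h : Cl 3 y) : ¬ Cl 2 y := not_pt h (by decide)
theorem n4 {y : Fi24} (h : Cl 4 y) : ¬ Cl 2 y := not_pt h (by decide)

theorem pt_cube {p : Fi24} (h : Cl 2 p) : p ^ 3 = 1 := by
  obtain ⟨g, hg⟩ := h
  have h3 := H842.ThreeMain.X_cube 2
  have h1 : (g * p * g⁻¹) ^ 3 = 1 := by
    rcases hg with hg | hg <;> rw [hg]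
    · exact h3
    · rw [inv_pow, h3, inv_one]
  rw [conj_pow] at h1
  simpa using h1

theorem pt_inv {p : Fi24} (h : Cl 2 p) : Cl 2 p⁻¹ := by
  obtain ⟨g, hg⟩ := h
  refine ⟨g, ?_⟩
  rw [show g * p⁻¹ * g⁻¹ = (g * p * g⁻¹)⁻¹ by group]
  rcases hg with hg | hg <;> rw [hg]
  exacts [Or.inr rfl, Or.inl (inv_inv _)]

theorem ne_one {w : List Gen} {p : ℕ} (h : chkPt (nw w false) p p = false) : word w ≠ 1 := fun k =>
  rho_ne h (by rw [k, map_one, Equiv.Perm.one_apply])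

theorem dnine {s l R} {p : ℕ} (hs : word s ∈ DM.S) (h1 : vlB l R = true)
    (h2 : chkPt (nw ((s ++ qw l) ++ (s ++ qw l) ++ (s ++ qw l)) false) p p = false) : DM.Dead (Cl 2) (word s) R := by
  refine dead_nine pt_cube hs (qw_spec h1).1 (qw_spec h1).2 ?_
  have h := ne_one h2
  rwa [word_append, word_append, ← pow_three', word_append] at h

theorem dns {s l l' R Y M} {p : ℕ} (hs : DM.Rep (word s) M) (h1 : vlB l R = true) (h2 : vlB l' Y = true)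
    (h3 : okR C Y = true ∧ Nat.beq (st Y M) Y = true)
    (h4 : chkPt (nw (qw l' ++ qw l ++ (qw l').reverse ++ (qw l).reverse) false) p p = false)
    (h5 : ¬ Cl 2 (word (s ++ qw l))) : DM.Dead (Cl 2) (word s) R := by
  refine dead_ns (fun h g => h.conj g) hs.1 (qw_spec h1).1 (qw_spec h2).1 (qw_spec h1).2
    (hs.comm (okR_spec h3.1) h3.2 (qw_spec h2).1 (qw_spec h2).2) (fun k => ne_one h4 ?_) (word_append _ _ ▸ h5)
  rw [word_append, word_append, word_append, word_reverse, word_reverse, k]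
  group

theorem rp {w : List ℕ} {A : ℕ} (h : okW MG.length w = true ∧ Nat.beq (evL mu MG w c1) A = true) :
    DM.Rep (word (gew w)) A := ev_gew w ▸ (rep_ev rep_ge h.1).of_beq h.2

theorem wz (s : List Gen) : word (s ++ wx3) = word s * DM.z := by
  rw [word_append, ← word_x3]
  rfl

theorem wz' (s : List Gen) : word (s ++ wx3.reverse) = word s * DM.z⁻¹ := by
  rw [word_append, word_reverse, ← word_x3]
  rfl

theorem vls : vlB [3] Rr1 = true ∧ vlB [1, 3] Rr2 = true ∧ vlB [1, 3, 6] Rr3 = true ∧ vlB [2] Yr3 = true ∧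
    vlB [2] Rt1 = true ∧ vlB [5] Rt2 = true ∧ vlB [1, 14, 19] Yt2 = true ∧ vlB [2, 5] Rt3 = true ∧
    vlB [5] Ra1 = true ∧ vlB [4] Ya1 = true ∧ vlB [4] Ra2 = true ∧ vlB [5] Ya2 = true ∧ vlB [6, 8] Ra3 = true ∧
    vlB [7, 9] Ya3 = true ∧ vlB [2] Rb1 = true ∧ vlB [0, 1, 12, 3] Yb1 = true ∧ vlB [2, 7, 19] Rb2 = true ∧
    vlB [2, 17, 9] Rb3 = true ∧ vlB [5, 16, 18] v0 = true ∧ vlB [2] vA = true ∧ vlB [0, 12] vC = true ∧
    vlB [0, 3, 5] vD = true := by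
  refine ⟨?_, ?_, ?_, ?_, ?_, ?_, ?_, ?_, ?_, ?_, ?_, ?_, ?_, ?_, ?_, ?_, ?_, ?_, ?_, ?_, ?_, ?_⟩ <;> decide +kernel

theorem cert : Cert DM (commutator Fi24) (Cl 2) geL (word rw) (word (gew Wt)) (word (gew Wa)) (word (gew Wb)) := by
  obtain ⟨v1, v2, v3, v4, v5, v6, v7, v8, v9, v10, v11, v12, v13, v14, v15, v16, v17, v18, v19, v20, v21, v22⟩ := vls
  have hr : DM.Rep (word rw) Mr := eq_of_eqB eq_r ▸ rp ev_r
  have ht := rp ev_t
  have ha := rp ev_a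
  have hb := rp ev_b
  have c0 : Cl 0 (word (XW 0)) := ⟨1, Or.inl (by rw [one_mul, inv_one, mul_one, word_XW])⟩
  exact
  { cube := pt_cube
    inv := pt_inv
    conj := fun h g => h.conj g
    nT := inferInstance
    odd := fun g n hn h => by
      obtain ⟨k, rfl⟩ := hn
      have h1 := pow_mem (mul_self_mem_of_index_two index_commutator g) (k + 1)
      rwa [← pow_two, ← pow_mul, show 2 * (k + 1) = 2 * k + 1 + 1 by ring, pow_succ, h, one_mul] at h1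
    hG := rep_ge
    hr := hr
    ht := ht
    ha := ha
    hb := hb
    dr := ⟨dnine hr.1 v1 nir1, dnine hr.1 v2 nir2, dns hr v3 v4 fx_r3 ncr3 (n3 (cl_neg cjr3))⟩
    dt := ⟨dnine ht.1 v5 nit1, dns ht v6 v7 fx_t2 nct2 (n3 (cl_pos cjt2)), dnine ht.1 v8 nit3⟩
    da := ⟨dns ha v9 v10 fx_a1 nca1 (n1 (cl_neg cja1)), dns ha v11 v12 fx_a2 nca2 (n4 (cl_pos cja2)),
      dns ha v13 v14 fx_a3 nca3 (n3 (cl_pos cja3))⟩
    db := ⟨dns hb v15 v16 fx_b1 ncb1 (n4 (cl_neg cjb1)), dnine hb.1 v17 nib2, dnine hb.1 v18 nib3⟩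
    nr := ⟨n0 (by rw [Wd.rw, word_w]; exact c0.conj _), wz' _ ▸ n1 (cl_neg cjrz2)⟩
    nt := ⟨wz _ ▸ n1 (cl_pos cjtz1), wz' _ ▸ n3 (cl_neg cjtz2)⟩
    na := ⟨n0 c0, wz _ ▸ n3 (cl_neg cjaz1), wz' _ ▸ n3 (cl_neg cjaz2)⟩
    nb := ⟨n1 (cl_neg cjbz0), wz _ ▸ n3 (cl_pos cjbz1), wz' _ ▸ n3 (cl_pos cjbz2)⟩
    pz := ⟨1, Or.inl (by rw [one_mul, inv_one, mul_one]; exact word_x3)⟩
    p0 := ⟨_, (qw_spec v19).1, (qw_spec v19).2, cl_pos cjv0⟩
    pA := ⟨_, (qw_spec v20).1, (qw_spec v20).2, n0 (cl_pos cjvA)⟩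
    pC := ⟨_, (qw_spec v21).1, (qw_spec v21).2, n1 (cl_neg cjvC)⟩
    pD := ⟨_, (qw_spec v22).1, (qw_spec v22).2, n3 (cl_neg cjvD)⟩ }

end Cfsg.Agent.SB.F24.Wd

namespace Cfsg.Agent.SB.F24

theorem boxLoc : BoxLoc := by
  have := R08.FiTwentyFour.finite_Fi24
  exact Wd.cert.loc

/-- **the row `Fi24'`, `O₂(S ⊓ T) = 1`** -/
theorem rowN_Fi24 (K : Type) [Group K] (h : Spor.IsoFi24' K) : RowN 2 K := boxAsm boxLoc boxFive K h

end Cfsg.Agent.SB.F24
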