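import Cfsg.Agent.SB.Mon.F24.RowN
import Cfsg.Agent.SB.SporB.RowF24

/-!
# S5765, the row `Fi24'` (helper96)
-/

set_option autoImplicit false

namespace Cfsg.Agent.SB.F24

/-- **the row `Fi24'`** -/
theorem row_Fi24 (K : Type) [Group K] (h : Spor.IsoFi24' K) : Row K := SporB.row_Fi24_of boxLoc K h

end Cfsg.Agent.SB.F24
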