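import Cfsg.Agent.SB.Mon.F24.Mod

/-!
# S5765, the row `Fi24'`: soundness of the tables of the linear model (helper96)
-/

set_option autoImplicit false
set_option maxRecDepth 100000

namespace Cfsg.Agent.SB.F24.Md

open Subgroup
open Matrix (vecMul_vecMul vecMul_one)
open scoped Matrix
open Cfsg.Agent.Lib.PackMat Cfsg.Agent.Lib.PackMatGroup Cfsg.Agent.Lib.PackMatMul Cfsg.Agent.Lib.PackMatLin
open Cfsg.Agent.Lib.PackMatOrbit (memB nodupB memB_spec nodupB_spec)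

/-- entry of a list -/
def getA {α : Type} (d : α) (l : List α) (i : ℕ) : α :=
  List.rec (motive := fun _ => ℕ → α) (fun _ => d) (fun a _ ih i => Nat.rec a (fun j _ => ih j) i) l i

theorem get_mem {L : List ℕ} {i : ℕ} (hi : i < L.length) : get L i ∈ L := by
  induction L generalizing i with
  | nil => simp at hi
  | cons a L ih =>
    rcases i with _ | i
    · exact List.mem_cons_self
    · exact List.mem_cons_of_mem _ (ih (by simpa using hi))

/-! ### checks -/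

/-- an entry of the table of the Sylow subgroup: matrix, word, tag, conjugating word -/
noncomputable def tbE (E MG SL : List ℕ) (e : ℕ × List ℕ × ℕ × List ℕ) : Bool :=
  okW E.length e.2.1 && (Nat.beq (evL mu E e.2.1 c1) e.1 && (okW MG.length e.2.2.2 &&
    Nat.rec (Nat.beq e.1 c1) (fun k _ => Nat.rec (!Nat.beq (mu (mu e.1 e.1) e.1) c1) (fun k _ =>
      Nat.blt k SL.length && force (evL mu MG e.2.2.2 c1) fun X => Nat.beq (mu e.1 X) (mu X (get SL k))) k) e.2.2.1))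

/-- an entry of an affine table -/
noncomputable def affE (Cm Bm Km : ℕ) (CG rl : List ℕ) (R : ℕ) (e : List ℕ × ℕ) : Bool :=
  okW CG.length e.1 && (Nat.blt e.2 rl.length && force (rn CG e.1 (st R Bm)) fun u =>
    Nat.beq (st u Cm) (st (get rl e.2) Cm) && Nat.beq (st u Km) (st (get rl e.2) Km))

noncomputable def linB (ts : List (ℕ × List ℕ)) : Bool := okTs C ts && linC C ts 0 C.n

theorem linB_spec {ts : List (ℕ × List ℕ)} (h : linB ts = true) : linM C ts = 0 := by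
  rw [linB, Bool.and_eq_true] at h
  exact lin_eq_zero_of_check good (by decide) h.1 h.2

noncomputable def affC (M Cm Bm Dm Km Em : ℕ) (CG rl : List ℕ) (tab : List (List ℕ × ℕ)) (n : ℕ) : Bool :=
  allL (redC C) [Cm, Bm, Km] && (col5 Cm && (Nat.beq (mu (mu M M) M) c1 &&
    (linB [(1, [Cm, Bm]), (1, [Dm]), (2, [Dm, M]), (1, [Km]), (2, [])] &&
    (linB [(1, [Em]), (1, [M, Em]), (1, [M, M, Em]), (2, [Km])] &&
    (allL (fun A => Nat.beq (mu A M) (mu M A)) CG && (allL (okR C) rl &&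
    allBelow (fun m => force (enc m) fun R => affE Cm Bm Km CG rl R (getA ([], 0) tab (m % n))) 243))))))

noncomputable def fixC (M Cf Bf Df : ℕ) : Bool :=
  redC C Bf && (col5 Cf && linB [(1, [Cf, Bf]), (1, [Df]), (2, [M, Df]), (2, [])])

/-- the rows of `Bf` vanish or are fixed by `M` and moved to `R0` -/
noncomputable def rowC (MG : List ℕ) (M Bf R0 : ℕ) (ws : List (List ℕ)) : Bool :=
  allBelow (fun j => force (st (unitRow C 1 j) Bf) fun R => Nat.beq R 0 ||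
    (Nat.beq (st R M) R && (okW MG.length (getA [] ws j) && Nat.beq (rn MG (getA [] ws j) R) R0))) 10

/-- the classes of the fixed vectors -/
noncomputable def clsC (MG : List ℕ) (Bf Fm : ℕ) (rl : List ℕ) (tab : List (List ℕ × ℕ)) : Bool :=
  redC C Fm && allBelow (fun m => force (st (enc m) Bf) fun u => okW MG.length (getA ([], 0) tab m).1 &&
    (Nat.blt (getA ([], 0) tab m).2 rl.length && (Nat.beq (rn MG (getA ([], 0) tab m).1 u) (get rl (getA ([], 0) tab m).2) &&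
      (Nat.ble (getA ([], 0) tab m).2 1 == Nat.beq (st u Fm) 0)))) 243

theorem id_aff {M Cm Bm Dm Km : ℕ} (h : linM C [(1, [Cm, Bm]), (1, [Dm]), (2, [Dm, M]), (1, [Km]), (2, [])] = 0) (v : V) :
    v = (v ᵥ* mat C Cm) ᵥ* mat C Bm + (v ᵥ* mat C Dm - (v ᵥ* mat C Dm) ᵥ* mat C M) + v ᵥ* mat C Km := by
  have h1 := congrArg (fun A => v ᵥ* A) h
  simp only [linM, List.map_cons, List.map_nil, List.sum_cons, List.sum_nil, List.prod_cons, List.prod_nil, mul_one,
    Nat.cast_one, one_smul, two_eq, neg_smul, add_zero, Matrix.vecMul_add, Matrix.vecMul_neg, Matrix.vecMul_zero,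
    vecMul_one] at h1
  rw [vecMul_vecMul, vecMul_vecMul, ← sub_eq_zero, ← neg_eq_zero, ← h1]
  abel

theorem id_ker {M Km Em : ℕ} (h : linM C [(1, [Em]), (1, [M, Em]), (1, [M, M, Em]), (2, [Km])] = 0) {v : V}
    (hv : v ᵥ* mat C M ᵥ* mat C M + v ᵥ* mat C M + v = 0) : v ᵥ* mat C Km = 0 := by
  have h1 := congrArg (fun A => v ᵥ* A) h
  simp only [linM, List.map_cons, List.map_nil, List.sum_cons, List.sum_nil, List.prod_cons, List.prod_nil, mul_one,
    Nat.cast_one, one_smul, two_eq, neg_smul, add_zero, Matrix.vecMul_add, Matrix.vecMul_neg, Matrix.vecMul_zero,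
    ← vecMul_vecMul] at h1
  have h2 := congrArg (fun u => u ᵥ* mat C Em) hv
  simp only [Matrix.add_vecMul, Matrix.zero_vecMul] at h2
  have h3 : ∀ a b c k : V, a + (b + (c + -k)) = 0 → c + b + a = 0 → k = 0 := by
    intro a b c k e1 e2
    calc k = (c + b + a) - (a + (b + (c + -k))) := by abel
      _ = 0 := by rw [e1, e2, sub_zero]
  exact h3 _ _ _ _ h1 h2

theorem id_fix {M Cf Bf Df : ℕ} (h : linM C [(1, [Cf, Bf]), (1, [Df]), (2, [M, Df]), (2, [])] = 0) {v : V}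
    (hv : v ᵥ* mat C M = v) : v = (v ᵥ* mat C Cf) ᵥ* mat C Bf := by
  have h1 := congrArg (fun A => v ᵥ* A) h
  simp only [linM, List.map_cons, List.map_nil, List.sum_cons, List.sum_nil, List.prod_cons, List.prod_nil, mul_one,
    Nat.cast_one, one_smul, two_eq, neg_smul, add_zero, Matrix.vecMul_add, Matrix.vecMul_neg, Matrix.vecMul_zero,
    vecMul_one, ← vecMul_vecMul, hv] at h1
  rw [← sub_eq_zero, ← neg_eq_zero, ← h1]
  abel

namespace Mod

variable {G : Type} [Group G] {D : Mod G}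

theorem forall₂_mem {LG : List G} {L : List ℕ} (h : List.Forall₂ D.Rep LG L) {g : G} (hg : g ∈ LG) :
    ∃ A ∈ L, D.Rep g A := by
  induction h with
  | nil => simp at hg
  | cons h _ ih =>
    rcases List.mem_cons.1 hg with rfl | hg
    · exact ⟨_, List.mem_cons_self, h⟩
    · obtain ⟨A, h1, h2⟩ := ih hg
      exact ⟨A, List.mem_cons_of_mem _ h1, h2⟩

theorem getD_mem {LG : List G} {L : List ℕ} (h : List.Forall₂ D.Rep LG L) {i : ℕ} (hi : i < L.length) :
    LG.getD i 1 ∈ LG := by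
  rw [← h.length_eq] at hi
  rw [List.getD_eq_getElem _ _ hi]
  exact List.getElem_mem hi

theorem pow_dec {s x : G} (hs : s ∈ D.S) (hx : x ∈ D.Q) (n : ℕ) : ∃ y ∈ D.Q, (s * x) ^ n = s ^ n * y := by
  induction n with
  | zero => exact ⟨1, one_mem _, by simp⟩
  | succ n ih =>
    obtain ⟨y, hy, e⟩ := ih
    exact ⟨s⁻¹ * y * s * x, mul_mem (D.nS hs hy) hx, by rw [pow_succ, e, pow_succ]; group⟩

theorem pow_eq_one {s x : G} (hs : s ∈ D.S) (hx : x ∈ D.Q) {n : ℕ} (h : (s * x) ^ n = 1) : s ^ n = 1 := by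
  obtain ⟨y, hy, e⟩ := pow_dec hs hx n
  refine D.inf_eq (pow_mem hs n) ?_
  rw [h, eq_comm, mul_eq_one_iff_eq_inv] at e
  rw [e]
  exact inv_mem hy

/-! ### the Sylow subgroup -/

theorem tb_spec {LE LG LS : List G} {E MG SL : List ℕ} (hE : List.Forall₂ D.Rep LE E) (hG : List.Forall₂ D.Rep LG MG)
    (hS : List.Forall₂ D.Rep LS SL) {e : ℕ × List ℕ × ℕ × List ℕ} (h : tbE E MG SL e = true) :
    D.Rep (evG LE e.2.1) e.1 ∧ ∀ g, D.Rep g e.1 → g = 1 ∨ g ^ 3 ≠ 1 ∨ ∃ c ∈ D.S, c⁻¹ * g * c ∈ LS := by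
  obtain ⟨A, w, t, c⟩ := e
  simp only [tbE, Bool.and_eq_true] at h
  obtain ⟨h1, h2, h3, h4⟩ := h
  refine ⟨(rep_ev hE h1).of_beq h2, fun g hg => ?_⟩
  rcases t with _ | _ | k
  · exact Or.inl (hg.eq' rep_one h4)
  · refine Or.inr (Or.inl fun h3 => ?_)
    have h5 : (!Nat.beq (mu (mu A A) A) c1) = true := h4
    have h6 := (hg.mul hg).mul hg
    rw [← pow_three', h3] at h6
    rw [h6.code rep_one, Nat.beq_refl] at h5
    exact absurd h5 (by decide)
  · have h5 : (Nat.blt k SL.length && Nat.beq (mu A (evL mu MG c c1)) (mu (evL mu MG c c1) (get SL k))) = true := h4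
    rw [Bool.and_eq_true, Nat.blt_eq] at h5
    have hc := rep_ev hG h3
    have h6 := (hg.mul hc).eq' (hc.mul (rep_get hS h5.1)) h5.2
    refine Or.inr (Or.inr ⟨_, hc.1, ?_⟩)
    rw [mul_assoc, h6, inv_mul_cancel_left]
    exact getD_mem hS h5.1

theorem syl [Finite G] {LE : List G} {E L : List ℕ} (hE : List.Forall₂ D.Rep LE E) (hlen : L.length = 243)
    (hnd : nodupB L = true) (h1 : memB c1 L = true) (h3 : allL (fun A => Nat.beq (mu (mu A A) A) c1) E = true)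
    (hcl : allL (fun A => allL (fun B => force (mu A B) fun X => memB X L) E) L = true)
    (hw : ∀ A ∈ L, ∃ w, D.Rep (evG LE w) A) :
    (∀ s ∈ closure {g | g ∈ LE}, ∃ A ∈ L, D.Rep s A) ∧ ∀ B : Subgroup G, IsPGroup 3 B → (∀ b ∈ B, Commute D.z b) →
      ∃ h ∈ D.S, ∀ b ∈ B, ∃ s ∈ closure {g | g ∈ LE}, ∃ x ∈ D.Q, h⁻¹ * b * h = s * x := by
  classical
  have : Fact (Nat.Prime 3) := ⟨Nat.prime_three⟩
  set K := closure {g | g ∈ LE} with hK
  have step : ∀ {x y : G}, y ∈ LE → (∃ A ∈ L, D.Rep x A) → ∃ A ∈ L, D.Rep (x * y) A := by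
    rintro x y hy ⟨A, hA, hx⟩
    obtain ⟨B, hB, hy⟩ := forall₂_mem hE hy
    exact ⟨_, memB_spec.1 (allL_spec (allL_spec hcl A hA) B hB), hx.mul hy⟩
  have a1 : ∀ s ∈ K, ∃ A ∈ L, D.Rep s A := by
    intro s hs
    induction hs using closure_induction_right with
    | one => exact ⟨_, memB_spec.1 h1, rep_one⟩
    | mul_right x _ y hy ih => exact step hy ih
    | mul_inv_cancel x _ y hy ih =>
      obtain ⟨B, hB, hb⟩ := forall₂_mem hE hy
      have e : y⁻¹ = y * y := by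
        rw [inv_eq_iff_mul_eq_one, ← mul_assoc, ← pow_three']
        exact hb.cube (allL_spec h3 B hB)
      rw [e, ← mul_assoc]
      exact step hy (step hy ih)
  refine ⟨a1, fun B hB hc => ?_⟩
  have hKS : K ≤ D.S := fun s hs => (a1 s hs).choose_spec.2.1
  have cK : Nat.card K = 3 ^ 5 := by
    let f : K → {A // A ∈ L.toFinset} := fun s => ⟨(a1 s s.2).choose, List.mem_toFinset.2 (a1 s s.2).choose_spec.1⟩
    have hf : ∀ s : K, D.Rep (s : G) (f s).1 := fun s => (a1 s s.2).choose_spec.2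
    have b1 : Function.Bijective f := by
      refine ⟨fun s t e => Subtype.ext ((hf s).eq (e ▸ hf t)), fun A => ?_⟩
      obtain ⟨w, k⟩ := hw A.1 (List.mem_toFinset.1 A.2)
      exact ⟨⟨_, evG_mem K (fun g hg => subset_closure hg) w⟩, Subtype.ext ((hf _).code k)⟩
    rw [Nat.card_congr (Equiv.ofBijective f b1), Nat.card_eq_fintype_card, Fintype.card_coe,
      List.toFinset_card_of_nodup (nodupB_spec hnd), hlen]
    norm_num
  have cK' : Nat.card (K.subgroupOf D.S) = 3 ^ (Nat.card D.S).factorization 3 := by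
    rw [Nat.card_congr (subgroupOfEquivOfLe hKS).toEquiv, cK, D.card,
      show (27371520 : ℕ) = 3 ^ 5 * 112640 by norm_num, Nat.factorization_mul (by norm_num) (by norm_num),
      Finsupp.add_apply, Nat.prime_three.factorization_pow, Finsupp.single_eq_same,
      Nat.factorization_eq_zero_of_not_dvd (by norm_num)]
  let P' : Sylow 3 D.S := Sylow.ofCard _ cK'
  let B' : Subgroup D.S :=
    { carrier := {s | ∃ b ∈ B, ∃ x ∈ D.Q, b = s * x}
      one_mem' := ⟨1, one_mem _, 1, one_mem _, by simp⟩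
      mul_mem' := by
        rintro s t ⟨b, hb, x, hx, e⟩ ⟨b', hb', x', hx', e'⟩
        exact ⟨b * b', mul_mem hb hb', (t : G)⁻¹ * x * t * x', mul_mem (D.nS t.2 hx) hx', by
          rw [e, e', Subgroup.coe_mul]; group⟩
      inv_mem' := by
        rintro s ⟨b, hb, x, hx, e⟩
        exact ⟨b⁻¹, inv_mem hb, (s : G) * x⁻¹ * (s : G)⁻¹, D.norm' (D.comm s.2) (inv_mem hx), by
          rw [e, Subgroup.coe_inv]; group⟩ }
  have hB' : IsPGroup 3 B' := by
    rintro ⟨s, b, hb, x, hx, e⟩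
    obtain ⟨k, hk⟩ := hB ⟨b, hb⟩
    refine ⟨k, Subtype.ext (Subtype.ext ?_)⟩
    have h4 : b ^ 3 ^ k = 1 := congrArg Subtype.val hk
    rw [e] at h4
    exact pow_eq_one s.2 hx h4
  obtain ⟨P, hP⟩ := hB'.exists_le_sylow
  obtain ⟨g, hg⟩ := MulAction.exists_smul_eq D.S P P'
  refine ⟨(g : G)⁻¹, inv_mem g.2, fun b hb => ?_⟩
  obtain ⟨s, hs, x, hx, e⟩ := D.dec (hc b hb)
  have h5 : (⟨s, hs⟩ : D.S) ∈ P := hP ⟨b, hb, x, hx, e⟩
  have h6 : g * ⟨s, hs⟩ * g⁻¹ ∈ (P' : Subgroup D.S) := by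
    rw [← hg, Sylow.coe_subgroup_smul]
    exact Subgroup.smul_mem_pointwise_smul _ (MulAut.conj g) _ h5
  refine ⟨g * s * (g : G)⁻¹, mem_subgroupOf.1 h6, g * x * (g : G)⁻¹, D.norm' (D.comm g.2) hx, ?_⟩
  rw [e]; group

/-! ### cosets -/

/-- `s x` with vector `v` is conjugate in `C(z)` to `s x'` with vector `v'` -/
def Eqv (D : Mod G) (s : G) (v v' : V) : Prop :=
  ∀ x ∈ D.Q, D.vec x = v → ∃ g, Commute D.z g ∧ ∃ x' ∈ D.Q, D.vec x' = v' ∧ g⁻¹ * (s * x) * g = s * x'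

theorem Eqv.trans {s : G} {u v w : V} (h : D.Eqv s u v) (k : D.Eqv s v w) : D.Eqv s u w := by
  intro x hx e
  obtain ⟨g, hg, x', hx', e', f⟩ := h x hx e
  obtain ⟨g', hg', x'', hx'', e'', f'⟩ := k x' hx' e'
  exact ⟨g * g', hg.mul_right hg', x'', hx'', e'', by rw [← f', ← f]; group⟩

theorem Rep.shift {s : G} {M : ℕ} (hs : D.Rep s M) {v v' : V} (d : V) (h : v = v' + (d - d ᵥ* mat C M)) :
    D.Eqv s v v' := by
  intro x hx e
  obtain ⟨y, hy, f⟩ := D.surj d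
  refine ⟨y⁻¹, D.cQ (inv_mem hy), s⁻¹ * y * s * x * y⁻¹, mul_mem (mul_mem (D.nS hs.1 hy) hx) (inv_mem hy), ?_, by group⟩
  rw [D.add (mul_mem (D.nS hs.1 hy) hx) (inv_mem hy), D.add (D.nS hs.1 hy) hx, hs.2.2 y hy, D.vec_inv hy, e, f, h]
  abel

theorem aff {s : G} {M Cm Bm Dm Km Em : ℕ} {LC : List G} {CG rl : List ℕ} {tab : List (List ℕ × ℕ)} {n : ℕ}
    (hs : D.Rep s M) (hC : List.Forall₂ D.Rep LC CG) (h : affC M Cm Bm Dm Km Em CG rl tab n = true) {x : G}
    (hx : x ∈ D.Q) (hw : (s * x) ^ 3 = 1) :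
    ∃ R ∈ rl, ∃ g, Commute D.z g ∧ ∃ x' ∈ D.Q, D.vec x' = rowVec C R ∧ g⁻¹ * (s * x) * g = s * x' := by
  simp only [affC, Bool.and_eq_true] at h
  obtain ⟨h1, h2, h3, h4, h5, h6, h7, h8⟩ := h
  have rC : RedG C Cm := redG_of_check gd (allL_spec h1 _ (by simp))
  have rB : RedG C Bm := redG_of_check gd (allL_spec h1 _ (by simp))
  have rK : RedG C Km := redG_of_check gd (allL_spec h1 _ (by simp))
  have s3 := hs.cube h3
  have i1 := id_aff (linB_spec h4)
  have hv : D.vec x ᵥ* mat C M ᵥ* mat C M + D.vec x ᵥ* mat C M + D.vec x = 0 := by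
    have q1 := D.nS hs.1 hx
    have q2 := D.nS hs.1 q1
    rw [← hs.2.2 x hx, ← hs.2.2 _ q1, ← D.add q2 q1, ← D.add (mul_mem q2 q1) hx, ← D.vec_one]
    congr 1
    rw [← hw, ← one_mul (s⁻¹ * (s⁻¹ * x * s) * s * (s⁻¹ * x * s) * x), ← s3, pow_three', pow_three']
    group
  have i2 := id_ker (linB_spec h5) hv
  obtain ⟨m, hm, o1, o2⟩ := enc_surj (col5_spec h2 (D.vec x))
  have h9 := allBelow_spec h8 m hm
  rw [force_eq] at h9
  generalize getA ([], 0) tab (m % n) = e at h9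
  simp only [affE, force_eq, Bool.and_eq_true, Nat.blt_eq] at h9
  obtain ⟨k1, k2, k3, k4⟩ := h9
  obtain ⟨u1, u2⟩ := st_spec o1 rB
  obtain ⟨c1, c2, c3⟩ := rep_rn hC k1 u1
  have cs : Commute s (evG LC e.1) := by
    have : evG LC e.1 ∈ centralizer {s} := by
      refine evG_mem _ (fun g hg => ?_) _
      obtain ⟨A, hA, hg⟩ := forall₂_mem hC hg
      exact mem_centralizer_singleton_iff.2 (hg.commute hs (allL_spec h6 A hA)).eq
    exact (mem_centralizer_singleton_iff.1 this).symm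
  have oR := okR_spec (allL_spec h7 _ (get_mem k2))
  refine ⟨_, get_mem k2, ?_⟩
  have e1 : D.Eqv s (D.vec x) (rowVec C (st (enc m) Bm)) := by
    refine hs.shift (D.vec x ᵥ* mat C Dm) ?_
    rw [u2, o2]
    conv_lhs => rw [i1 (D.vec x), i2, add_zero]
  have e2 : D.Eqv s (rowVec C (st (enc m) Bm)) (rowVec C (rn CG e.1 (st (enc m) Bm))) := by
    intro y hy f
    refine ⟨_, D.comm c1, _, D.nS c1 hy, c3 y hy f, ?_⟩
    rw [← mul_assoc, ← mul_assoc, ← mul_assoc, cs.inv_right.eq]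
  have e3 : D.Eqv s (rowVec C (rn CG e.1 (st (enc m) Bm))) (rowVec C (get rl e.2)) := by
    set u := rowVec C (rn CG e.1 (st (enc m) Bm)) with hu
    set r := rowVec C (get rl e.2) with hr
    have f1 : (u - r) ᵥ* mat C Cm = 0 := by
      rw [Matrix.sub_vecMul, ← (st_spec c2 rC).2, ← (st_spec oR rC).2, Nat.eq_of_beq_eq_true k3, sub_self]
    have f2 : (u - r) ᵥ* mat C Km = 0 := by
      rw [Matrix.sub_vecMul, ← (st_spec c2 rK).2, ← (st_spec oR rK).2, Nat.eq_of_beq_eq_true k4, sub_self]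
    refine hs.shift ((u - r) ᵥ* mat C Dm) ?_
    have f3 := i1 (u - r)
    rw [f1, f2, Matrix.zero_vecMul, zero_add, add_zero] at f3
    rw [← f3, add_sub_cancel]
  exact (e1.trans (e2.trans e3)) x hx rfl

/-- no point in the coset has the vector `R` -/
def Dead (D : Mod G) (Pt : G → Prop) (s : G) (R : ℕ) : Prop := ∀ x ∈ D.Q, D.vec x = rowVec C R → ¬ Pt (s * x)

theorem dead_nine {Pt : G → Prop} (hc : ∀ {p}, Pt p → p ^ 3 = 1) {s q : G} {R : ℕ} (hs : s ∈ D.S) (hq : q ∈ D.Q)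
    (e : D.vec q = rowVec C R) (h : (s * q) ^ 3 ≠ 1) : D.Dead Pt s R := by
  intro x hx f hp
  obtain ⟨a, ha, rfl⟩ := D.vec_eq hx hq (f.trans e.symm)
  have h1 := hc hp
  rw [← mul_assoc, (D.cZ ((D.comm hs).mul_right (D.cQ hq)) ha).symm.mul_pow, D.es.cub a (D.es.le ha), mul_one] at h1
  exact h h1

theorem dead_ns {Pt : G → Prop} (hc : ∀ {p}, Pt p → ∀ g, Pt (g * p * g⁻¹)) {s q y : G} {R : ℕ} (hs : s ∈ D.S)
    (hq : q ∈ D.Q) (hy : y ∈ D.Q) (e : D.vec q = rowVec C R) (hsy : Commute s y) (hn : y * q ≠ q * y)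
    (h : ¬ Pt (s * q)) : D.Dead Pt s R := by
  intro x hx f hp
  obtain ⟨a, ha, rfl⟩ := D.vec_eq hx hq (f.trans e.symm)
  have h1 := D.es.com y hy q hq
  obtain ⟨g, hg⟩ := D.conj_Z (w := s * q) (D.cQ hy) (by
      have h2 : y * (s * q) * y⁻¹ * (s * q)⁻¹ = s * (y * q * y⁻¹ * q⁻¹) * s⁻¹ := by
        rw [← mul_assoc y, ← hsy.eq]; group
      rw [h2, ← (D.cZ (D.comm hs) h1).eq, mul_inv_cancel_right]
      exact h1) ((D.comm hs).mul_right (D.cQ hq))
    (fun k => hn (by rw [← mul_assoc, ← hsy.eq, mul_assoc, mul_assoc] at k; exact mul_left_cancel k)) ha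
  apply h
  have h3 := hc hp g⁻¹
  rw [← mul_assoc s, ← hg] at h3
  rwa [show g⁻¹ * (g * (s * q) * g⁻¹) * g⁻¹⁻¹ = s * q by group] at h3

/-- the points of a coset are conjugate to `s`, `s z`, `s z⁻¹` -/
theorem coset {Pt : G → Prop} (hc3 : ∀ {p}, Pt p → p ^ 3 = 1) (hc : ∀ {p}, Pt p → ∀ g, Pt (g * p * g⁻¹))
    {s : G} {M Cm Bm Dm Km Em : ℕ} {LC : List G} {CG : List ℕ} {R1 R2 R3 : ℕ} {tab : List (List ℕ × ℕ)} {n : ℕ}
    (hs : D.Rep s M) (hC : List.Forall₂ D.Rep LC CG) (h : affC M Cm Bm Dm Km Em CG [0, R1, R2, R3] tab n = true)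
    (d1 : D.Dead Pt s R1) (d2 : D.Dead Pt s R2) (d3 : D.Dead Pt s R3) {x : G} (hx : x ∈ D.Q) (hp : Pt (s * x)) :
    ∃ g, Commute D.z g ∧ ∃ w, Pt w ∧ g⁻¹ * (s * x) * g = w ∧ (w = s ∨ w = s * D.z ∨ w = s * D.z⁻¹) := by
  obtain ⟨R, hR, g, hg, x', hx', e, f⟩ := aff hs hC h hx (hc3 hp)
  have hp' : Pt (s * x') := by
    have := hc hp g⁻¹
    rwa [inv_inv, f] at this
  simp only [List.mem_cons, List.not_mem_nil, or_false] at hR
  rcases hR with rfl | rfl | rfl | rfl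
  · refine ⟨g, hg, _, hp', f, ?_⟩
    rw [rowVec_zero] at e
    rcases D.mem_Z.1 ((D.ker hx').1 e) with k | k | k <;> rw [k]
    exacts [Or.inl (mul_one s), Or.inr (Or.inl rfl), Or.inr (Or.inr rfl)]
  exacts [absurd hp' (d1 x' hx' e), absurd hp' (d2 x' hx' e), absurd hp' (d3 x' hx' e)]

/-! ### fixed vectors -/

theorem fix_dec {s : G} {M Cf Bf Df : ℕ} (hs : D.Rep s M) (h : fixC M Cf Bf Df = true) {x : G} (hx : x ∈ D.Q)
    (hc : Commute s x) : ∃ m < 243, OkR C (st (enc m) Bf) ∧ D.vec x = rowVec C (st (enc m) Bf) ∧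
      D.vec x = rowVec C (enc m) ᵥ* mat C Bf := by
  simp only [fixC, Bool.and_eq_true] at h
  obtain ⟨h1, h2, h3⟩ := h
  have hv : D.vec x ᵥ* mat C M = D.vec x := by
    rw [← hs.2.2 x hx, mul_assoc, ← hc.eq, inv_mul_cancel_left]
  obtain ⟨m, hm, o1, o2⟩ := enc_surj (col5_spec h2 (D.vec x))
  obtain ⟨u1, u2⟩ := st_spec o1 (redG_of_check gd h1)
  have e : D.vec x = rowVec C (enc m) ᵥ* mat C Bf := by rw [o2]; exact id_fix (linB_spec h3) hv
  exact ⟨m, hm, u1, e.trans u2.symm, e⟩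

theorem fix_card [Finite G] {s w : G} {M Cf Bf Df : ℕ} (hs : D.Rep s M) (h : fixC M Cf Bf Df = true)
    (hw : ∀ x ∈ D.Q, Commute w x → Commute s x) : Nat.card ↥(D.Q ⊓ centralizer {w}) ≤ 3 ^ 8 := by
  have : Fact (Nat.Prime 3) := ⟨Nat.prime_three⟩
  choose σ h1 h2 using D.surj
  have k : ∀ x : ↥(D.Q ⊓ centralizer {w}), ∃ p : Fin 243 × zpowers D.z,
      (x : G) = σ (rowVec C (st (enc p.1) Bf)) * p.2 := by
    rintro ⟨x, hx, hc⟩
    obtain ⟨m, hm, -, e, -⟩ := fix_dec hs h hx (hw x hx (mem_centralizer_singleton_iff.1 hc).symm)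
    obtain ⟨a, ha, f⟩ := D.vec_eq hx (h1 _) (e.trans (h2 _).symm)
    exact ⟨(⟨m, hm⟩, ⟨a, ha⟩), f⟩
  choose f hf using k
  have hi : Function.Injective f := fun x y e => Subtype.ext (by rw [hf x, hf y, e])
  refine (Nat.card_le_card_of_injective f hi).trans ?_
  rw [Nat.card_prod, Nat.card_zpowers, orderOf_eq_prime D.z3 D.z1, Nat.card_eq_fintype_card, Fintype.card_fin]
  norm_num

theorem fix_gen {s : G} {M Cf Bf Df R0 : ℕ} {LG : List G} {MG : List ℕ} {ws : List (List ℕ)} (hs : D.Rep s M)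
    (hG : List.Forall₂ D.Rep LG MG) (h : fixC M Cf Bf Df = true) (h' : rowC MG M Bf R0 ws = true) {K : Subgroup G}
    (hz : D.z ∈ K) (hK : ∀ q ∈ D.Q, Commute s q → ∀ c ∈ D.S, D.vec (c⁻¹ * q * c) = rowVec C R0 → q ∈ K) {x : G}
    (hx : x ∈ D.Q) (hc : Commute s x) : x ∈ K := by
  have : NeZero C.p := ⟨by decide⟩
  have hZ : zpowers D.z ≤ K := zpowers_le.2 hz
  let W : AddSubmonoid V :=
    { carrier := {v | ∀ x ∈ D.Q, D.vec x = v → x ∈ K}
      zero_mem' := fun x hx e => hZ ((D.ker hx).1 e)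
      add_mem' := by
        intro u v hu hv x hx e
        obtain ⟨a, ha, ea⟩ := D.surj u
        obtain ⟨b, hb, eb⟩ := D.surj v
        obtain ⟨c, hc, rfl⟩ := D.vec_eq hx (mul_mem ha hb) (by rw [e, D.add ha hb, ea, eb])
        exact mul_mem (mul_mem (hu a ha ea) (hv b hb eb)) (hZ hc) }
  obtain ⟨m, -, -, -, e⟩ := fix_dec hs h hx hc
  have rB : RedG C Bf := by
    simp only [fixC, Bool.and_eq_true] at h
    exact redG_of_check gd h.1
  have hrow : ∀ j : Fin C.n, mat C Bf j ∈ W := by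
    intro j q hq f
    obtain ⟨u1, u2⟩ := unitRow_ok gd (c := 1) (by decide) j.isLt
    obtain ⟨u3, u4⟩ := st_spec u1 rB
    rw [u2, Nat.cast_one, one_smul, Matrix.single_one_vecMul] at u4
    have f' : D.vec q = rowVec C (st (unitRow C 1 j) Bf) := f.trans u4.symm
    have h1 := allBelow_spec h' j j.isLt
    simp only [force_eq, Bool.or_eq_true, Bool.and_eq_true] at h1
    rcases h1 with h1 | ⟨h1, h2, h3⟩
    · rw [Nat.eq_of_beq_eq_true h1, rowVec_zero] at f'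
      exact hZ ((D.ker hq).1 f')
    · obtain ⟨c1, -, c3⟩ := rep_rn hG h2 u3
      exact hK q hq (hs.comm u3 h1 hq f') _ c1 (by rw [c3 q hq f', Nat.eq_of_beq_eq_true h3])
  have hW : D.vec x ∈ W := by
    rw [e, Matrix.vecMul_eq_sum]
    refine sum_mem fun j _ => ?_
    rw [← ZMod.natCast_zmod_val (rowVec C (enc m) j), Nat.cast_smul_eq_nsmul]
    exact nsmul_mem (hrow j) _
  exact hW x hx rfl

theorem fix_cls {s : G} {M Cf Bf Df Fm : ℕ} {LG : List G} {MG rl : List ℕ} {tab : List (List ℕ × ℕ)} (hs : D.Rep s M)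
    (hG : List.Forall₂ D.Rep LG MG) (h : fixC M Cf Bf Df = true) (h' : clsC MG Bf Fm rl tab = true) {x : G}
    (hx : x ∈ D.Q) (hc : Commute s x) : ∃ c ∈ D.S, ∃ k < rl.length, D.vec (c⁻¹ * x * c) = rowVec C (get rl k) ∧
      (k ≤ 1 ↔ D.vec x ᵥ* mat C Fm = 0) := by
  obtain ⟨m, hm, u1, e, -⟩ := fix_dec hs h hx hc
  rw [clsC, Bool.and_eq_true] at h'
  have h1 := allBelow_spec h'.2 m hm
  rw [force_eq] at h1
  generalize getA ([], 0) tab m = t at h1
  simp only [Bool.and_eq_true, Nat.blt_eq, beq_iff_eq] at h1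
  obtain ⟨k1, k2, k3, k4⟩ := h1
  obtain ⟨c1, -, c3⟩ := rep_rn hG k1 u1
  obtain ⟨v1, v2⟩ := st_spec u1 (redG_of_check gd h'.1)
  refine ⟨_, c1, _, k2, by rw [c3 x hx e, Nat.eq_of_beq_eq_true k3], ?_⟩
  rw [← Nat.ble_eq, k4, e, ← v2, Nat.beq_eq]
  refine ⟨fun k => by rw [k, rowVec_zero], fun k => ?_⟩
  exact rowVec_injOn v1 (okR_spec (by decide +kernel)) (k.trans rowVec_zero.symm)

end Mod

end Cfsg.Agent.SB.F24.Md
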