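import Cfsg.Agent.SB.Mon.F24.Dat
import Cfsg.Agent.H834.U5Chk
import Cfsg.Agent.H842.FrameK
import Cfsg.Agent.LThreeFi24.FiveConj
/-!
# S5765, the row `Fi24'`: words and the action on `Q / Z` (helper96; generated)
-/

set_option autoImplicit false
set_option maxRecDepth 100000

namespace Cfsg.Agent.SB.F24.Wd

open Cfsg.Agent.Lib.PermNetPt Cfsg.Agent.Fischer.Fi24RepDef
open Cfsg.Agent.Fischer.Fi24Spider (gword)
open Cfsg.Agent.Lib.PackMat (allBelow dg)
open Cfsg.Agent.H834.U5 (gw5 u917 u11793 u11888)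
open Cfsg.Agent.LThreeFi24.TwinK (wx3)
open Cfsg.Agent.LThreeFi24.FiveConj (eqB)
open Cfsg.Agent.H842.FrameK (x5w)
open Cfsg.Agent.SB.F24.Md
open Cfsg.Spor.Fi24 (Gen)

/-- a word in the five generators of `2 × U₅(2)` -/
noncomputable def gew (w : List ℕ) : List Gen := List.rec [] (fun k _ ih => gw5.getD k [] ++ ih) w

def ddw : List (List Gen) := [[.l], [.a], u917 ++ Gen.b :: u917.reverse, u11793 ++ Gen.a :: u11793.reverse,
  u11888 ++ Gen.a :: u11888.reverse]

def tu : List (List Gen) := [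
  [.c, .d, .e, .f, .b, .c, .d, .e, .a, .b, .c, .d, .h, .i, .g, .f, .e, .d, .h, .j, .g, .f, .e, .d, .c, .b, .a],
  [.c, .d, .h, .i, .e, .d, .h, .f, .g, .c, .d, .e, .f, .b, .c, .d, .e, .a, .b, .c, .d, .h, .i, .d, .e, .b, .c, .d, .h, .j, .g, .f, .e, .d, .c, .b, .a,
    .k],
  [.h, .d, .e, .b, .c, .d, .h, .i, .f, .g, .e, .f, .d, .e, .c, .d, .h, .j, .g, .f, .e, .d, .c, .b],
  [.c, .d, .h, .i, .e, .d, .h, .f, .g, .e, .f, .c, .d, .e, .b, .c, .d, .h, .i, .f, .d, .e, .b, .c, .d, .h, .j, .g, .f, .e, .d, .c, .b],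
  [.f, .b, .c, .d, .e, .a, .b, .c, .d, .h, .i, .f, .d, .e, .c, .d, .h, .e, .f, .g, .d, .e, .f, .c, .d, .e, .b, .c, .d, .h, .i, .f, .d, .e, .b, .c, .d,
    .h, .j, .g, .f, .e, .d, .c, .b],
  [.h, .i, .d, .h, .e, .d],
  [.c, .d, .h, .i, .h, .f, .g, .e, .f, .d, .e, .b, .c, .d, .h, .j, .g, .f, .e, .d, .c, .b],
  [.e, .c, .d, .h, .i, .h, .f, .g, .e, .f, .c, .d, .e, .b, .c, .d, .h, .j, .g, .f, .e, .d, .c, .b],
  [.c, .d, .h, .i, .f, .g, .e, .f, .c, .d, .e, .b, .c, .d, .h, .j, .g, .f, .e, .d, .c, .b],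
  [.e, .c, .d, .h, .i, .f, .g, .e, .f, .d, .e, .b, .c, .d, .h, .j, .g, .f, .e, .d, .c, .b]]

def tx : List Gen := [.k, .l, .a, .a, .a, .c, .a, .a, .a, .a]

def Hw : List (List ℕ) := [[], [3, 4, 2, 3, 4, 1, 0, 2, 1], [4, 3, 1, 4, 2, 0, 1, 4, 3, 2, 1, 0], [3, 2, 1, 2, 4, 3, 2, 0, 1, 2, 4, 1, 0, 2, 1], [3, 2, 1, 4, 3, 2, 0, 1, 2, 4, 3, 1, 0, 2, 1]]

def Ep : List ℕ := [306929, 277670, 2460, 23298, 12252, 177, 3011, 438, 3010, 431]

def TPL : List (List ℕ) := [
  [0, 277670, 277638, 306929, 277583, 276547, 306897, 276579, 277615],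
  [1, 23298, 23299, 2460, 24422, 24398, 2461, 24399, 24423],
  [917, 177, 68, 12252, 12177, 12218, 12278, 12285, 12253],
  [11793, 438, 3650, 3011, 3663, 11900, 3630, 12048, 1004],
  [11888, 431, 3651, 3010, 3662, 11805, 3631, 12060, 997]]

def tp (i a b : ℕ) : ℕ := (TPL.getD i []).getD (3 * a + b) 0

/-- the ten generators of `Q` -/
def bw (j : ℕ) : List Gen := ddw.getD (j / 2) [] ++ (tu.getD j [] ++ [tx.getD j .l] ++ (tu.getD j []).reverse)

def qb (j : ℕ) : List Gen := bif Nat.blt j 10 then bw j else (bw (j - 10)).reverse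

noncomputable def qw (l : List ℕ) : List Gen := List.rec [] (fun j _ ih => qb j ++ ih) l

noncomputable def hC (i : ℕ) : Bool :=
  chkPt (nw (gew (Hw.getD i [])) false) 0 (tp i 0 0) && (chkPt (nw (gew (Hw.getD i [])) false) 306929 (Ep.getD (2 * i) 0) &&
  (chkPt (nw (gew (Hw.getD i [])) false) 277670 (Ep.getD (2 * i + 1) 0) &&
  (chkPt (nw (tu.getD (2 * i) [] ++ gword (tx.getD (2 * i) .l)) false) 0 (Ep.getD (2 * i) 0) &&
  chkPt (nw (tu.getD (2 * i + 1) [] ++ gword (tx.getD (2 * i + 1) .l)) false) 0 (Ep.getD (2 * i + 1) 0))))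

theorem h_chk : allBelow hC 5 = true := by decide +kernel

noncomputable def tC (i : ℕ) : Bool :=
  allBelow (fun b => chkPt (nw (bw (2 * i + 1)) false) (tp i 0 b) (tp i 0 (b + 1))) 2 &&
  allBelow (fun a => allBelow (fun b => chkPt (nw (bw (2 * i)) false) (tp i a b) (tp i (a + 1) b)) 3) 2

theorem t_chk : allBelow tC 5 = true := by decide +kernel

theorem tp_inj : allBelow (fun i => allBelow (fun a => allBelow (fun b => allBelow (fun a' => allBelow (fun b' =>
    !Nat.beq (tp i a b) (tp i a' b') || (Nat.beq a a' && Nat.beq b b')) 3) 3) 3) 3) 5 = true := by decide +kernel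

/-- row `j` of the matrix of the word `g` -/
noncomputable def rC (g : List Gen) (A j : ℕ) : Bool :=
  allBelow (fun i => chkPt (nw (g.reverse ++ (bw j ++ g)) false) (tp i 0 0)
    (tp i (dg 12 A (j + 10 * (2 * i))) (dg 12 A (j + 10 * (2 * i + 1))))) 5

theorem r_chk0a : allBelow (rC (gw5.getD 0 []) g0) 6 = true := by decide +kernel

theorem r_chk0b : allBelow (fun j => rC (gw5.getD 0 []) g0 (j + 6)) 4 = true := by decide +kernel

theorem r_chk1a : allBelow (rC (gw5.getD 1 []) g1) 6 = true := by decide +kernel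

theorem r_chk1b : allBelow (fun j => rC (gw5.getD 1 []) g1 (j + 6)) 4 = true := by decide +kernel

theorem r_chk2a : allBelow (rC (gw5.getD 2 []) g2) 6 = true := by decide +kernel

theorem r_chk2b : allBelow (fun j => rC (gw5.getD 2 []) g2 (j + 6)) 4 = true := by decide +kernel

theorem r_chk3a : allBelow (rC (gw5.getD 3 []) g3) 6 = true := by decide +kernel

theorem r_chk3b : allBelow (fun j => rC (gw5.getD 3 []) g3 (j + 6)) 4 = true := by decide +kernel

theorem r_chk4a : allBelow (rC (gw5.getD 4 []) g4) 6 = true := by decide +kernel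

theorem r_chk4b : allBelow (fun j => rC (gw5.getD 4 []) g4 (j + 6)) 4 = true := by decide +kernel

theorem red_MG : allL (Cfsg.Agent.Lib.PackMatMul.redC C) MG = true := by decide +kernel

end Cfsg.Agent.SB.F24.Wd
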