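import Cfsg.Agent.SB.Mon.F24.Chk1
/-!
# S5765, the row `Fi24'`: conjugacy certificates, I (helper96; generated)
-/

set_option autoImplicit false
set_option maxRecDepth 100000

namespace Cfsg.Agent.SB.F24.Wd

open Cfsg.Agent.Lib.PermNetPt Cfsg.Agent.Fischer.Fi24RepDef
open Cfsg.Agent.Fischer.Fi24Spider (gword)
open Cfsg.Agent.Lib.PackMat (allBelow dg)
open Cfsg.Agent.H834.U5 (gw5 u917 u11793 u11888)
open Cfsg.Agent.LThreeFi24.TwinK (wx3)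
open Cfsg.Agent.LThreeFi24.FiveConj (eqB)
open Cfsg.Agent.H842.FrameK (x5w)
open Cfsg.Agent.SB.F24.Md
open Cfsg.Spor.Fi24 (Gen)

def XW : Fin 5 → List Gen := ![[.l, .k], [.l, .k, .b, .c], wx3, [.l, .k, .b, .c, .e, .f], x5w]

def ur : List Gen := [.h, .i, .d, .h, .c, .d, .b, .c, .a, .b, .k, .a, .l, .k, .h, .d, .e, .f, .g, .c, .d, .e, .f, .b, .c, .d, .e, .a, .b, .c, .d, .h,
  .j, .g, .f, .e, .d, .c, .b, .a]

def rw : List Gen := ur ++ XW 0 ++ ur.reverse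

theorem eq_r : eqB (gew Wr) rw = true := by decide +kernel

def crz2 : List Gen := [.h, .d, .e, .c, .d, .h, .f, .e, .d, .c, .a, .b, .k, .a, .l, .k, .f, .e, .d, .h, .f, .c, .d, .e, .b, .c, .d, .h, .i, .h, .g,
  .f, .c, .d, .e, .b, .c, .d, .h, .a, .b, .c, .d, .e, .f, .g, .j, .c, .d, .h, .b, .c, .d, .e, .f, .g, .d, .h, .c, .d, .e, .b, .c, .d, .h, .i, .e, .b,
  .c, .d, .h, .f, .e, .d, .c, .b, .a, .e, .f, .h, .d, .e, .c, .d, .h, .c, .b, .l]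

theorem cjrz2 : eqB (crz2 ++ (rw ++ wx3.reverse) ++ crz2.reverse) (XW 1).reverse = true := by decide +kernel

theorem nir1 : chkPt (nw ((rw ++ qw [3]) ++ (rw ++ qw [3]) ++ (rw ++ qw [3])) false) 2 2 = false := by
  decide +kernel

theorem nir2 : chkPt (nw ((rw ++ qw [1, 3]) ++ (rw ++ qw [1, 3]) ++ (rw ++ qw [1, 3])) false) 2 2 = false := by
  decide +kernel

def cr3 : List Gen := [.f, .e, .d, .h, .i, .h, .e, .f, .d, .e, .b, .c, .d, .h, .j, .g, .f, .e, .d, .c, .b, .a, .k, .e, .d, .h, .i, .d, .e, .c, .d, .h,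
  .f, .g, .e, .f, .b, .c, .d, .e, .a, .b, .c, .d, .h, .i, .e, .f, .c, .d, .e, .b, .c, .d, .h, .a, .b, .c, .d, .e, .f, .g, .j, .d, .e, .b, .c, .d, .h,
  .i, .e, .b, .c, .d, .h, .a, .b, .c, .d, .e, .f, .g, .h, .i, .c, .d, .h, .b, .c, .d, .e, .a, .b, .c, .d, .h, .i, .d, .h, .e, .d, .c, .b, .a, .e, .c,
  .d, .h, .b, .c, .d, .e, .f, .h, .b, .c, .d, .e, .b, .c, .d, .c]

theorem cjr3 : eqB (cr3 ++ (rw ++ qw [1, 3, 6]) ++ cr3.reverse) (XW 3).reverse = true := by decide +kernel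

theorem ncr3 : chkPt (nw (qw [2] ++ qw [1, 3, 6] ++ (qw [2]).reverse ++ (qw [1, 3, 6]).reverse) false) 2 2 = false := by
  decide +kernel

def ctz1 : List Gen := [.h, .i, .g, .f, .e, .d, .h, .d, .e, .f, .c, .d, .e, .a, .b, .c, .d, .h, .i, .e, .f, .d, .e, .b, .c, .d, .h, .j, .g, .f, .e,
  .d, .c, .b, .a, .l, .k, .i, .h, .g, .f, .d, .e, .c, .d, .h, .i, .e, .f, .c, .d, .e, .b, .c, .d, .h, .a, .b, .c, .d, .e, .f, .g, .j, .g, .f, .e, .c,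
  .d, .h, .i, .e, .f, .d, .e, .c, .d, .h, .b, .c, .d, .e, .f, .g, .d, .h, .i, .f, .e, .d, .h, .d, .e, .f, .c, .d, .e, .b, .c, .d, .h, .i, .e, .c, .d,
  .h, .f, .e, .d, .c, .b, .a, .e, .f, .h, .c, .d, .e, .c, .d, .c]

theorem cjtz1 : eqB (ctz1 ++ (gew Wt ++ wx3) ++ ctz1.reverse) (XW 1) = true := by decide +kernel

def ctz2 : List Gen := [.d, .h, .i, .b, .c, .d, .h, .f, .g, .e, .f, .d, .e, .a, .b, .c, .d, .h, .i, .g, .f, .c, .d, .e, .b, .c, .d, .h, .j, .g, .f,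
  .e, .d, .c, .b, .a, .k, .j, .g, .f, .e, .b, .c, .d, .h, .i, .h, .e, .f, .d, .e, .c, .d, .h, .a, .b, .c, .d, .e, .f, .g, .j, .i, .f, .e, .d, .h, .c,
  .d, .e, .b, .c, .d, .h, .i, .g, .f, .d, .e, .b, .c, .d, .h, .a, .b, .c, .d, .e, .f, .g, .d, .h, .i, .e, .f, .d, .e, .c, .d, .h, .c, .d, .e, .f, .b,
  .c, .d, .e, .a, .b, .c, .d, .h, .i, .a, .f, .e, .d, .h, .b, .c, .d, .e, .c, .d, .c, .b]

theorem cjtz2 : eqB (ctz2 ++ (gew Wt ++ wx3.reverse) ++ ctz2.reverse) (XW 3).reverse = true := by decide +kernel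

theorem nit1 : chkPt (nw ((gew Wt ++ qw [2]) ++ (gew Wt ++ qw [2]) ++ (gew Wt ++ qw [2])) false) 2 2 = false := by
  decide +kernel

def ct2 : List Gen := [.c, .d, .h, .i, .b, .c, .d, .h, .e, .f, .d, .e, .c, .d, .h, .i, .h, .d, .e, .b, .c, .d, .h, .j, .g, .f, .e, .d, .c, .b, .a, .k,
  .g, .f, .e, .a, .b, .c, .d, .h, .i, .j, .g, .f, .e, .b, .c, .d, .h, .a, .b, .c, .d, .e, .f, .g, .j, .g, .d, .e, .f, .c, .d, .e, .b, .c, .d, .h, .i,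
  .g, .e, .f, .d, .e, .c, .d, .h, .b, .c, .d, .e, .f, .g, .d, .e, .c, .d, .h, .i, .h, .f, .d, .e, .c, .d, .h, .d, .e, .f, .b, .c, .d, .e, .a, .b, .c,
  .d, .h, .i, .b, .c, .d, .h, .f, .e, .d, .c, .b, .a, .d, .h, .c, .d, .e, .f, .h, .d, .e]

theorem cjt2 : eqB (ct2 ++ (gew Wt ++ qw [5]) ++ ct2.reverse) (XW 3) = true := by decide +kernel

theorem nct2 : chkPt (nw (qw [1, 14, 19] ++ qw [5] ++ (qw [1, 14, 19]).reverse ++ (qw [5]).reverse) false) 2 2 = false := by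
  decide +kernel

theorem nit3 : chkPt (nw ((gew Wt ++ qw [2, 5]) ++ (gew Wt ++ qw [2, 5]) ++ (gew Wt ++ qw [2, 5])) false) 2 2 = false := by
  decide +kernel

def cv0 : List Gen := [.i, .f, .e, .d, .h, .j, .g, .f, .c, .d, .e, .b, .c, .d, .h, .i, .f, .e, .c, .d, .h, .g, .f, .e, .d, .c, .b, .a, .k, .d, .h, .i,
  .b, .c, .d, .h, .e, .f, .d, .e, .b, .c, .d, .h, .i, .e, .b, .c, .d, .h, .a, .b, .c, .d, .e, .f, .g, .j, .e, .d, .h, .g, .e, .f, .c, .d, .e, .b, .c,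
  .d, .h, .i, .h, .f, .d, .e, .b, .c, .d, .h, .a, .b, .c, .d, .e, .f, .g, .i, .h, .d, .e, .f, .c, .d, .e, .a, .b, .c, .d, .h, .i, .f, .e, .d, .c, .b,
  .a, .c, .d, .e, .f, .h, .e, .d, .c, .b, .l]

theorem cjv0 : eqB (cv0 ++ (qw [5, 16, 18]) ++ cv0.reverse) (XW 2) = true := by decide +kernel

def cvA : List Gen := [.a, .b, .c, .d, .e, .f, .g, .j, .h, .d, .e, .f, .g, .i, .h, .d, .c, .b, .a, .e, .d, .c, .b, .f, .h, .d, .c, .e, .d, .h, .k, .l,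
  .a, .k]

theorem cjvA : eqB (cvA ++ (qw [2]) ++ cvA.reverse) (XW 0) = true := by decide +kernel

def cvD : List Gen := [.d, .h, .i, .d, .e, .k, .a, .b, .c, .d, .h, .f, .e, .d, .c, .b, .a, .k, .d, .h, .e, .f, .g, .d, .e, .f, .c, .d, .e, .a, .b, .c,
  .d, .h, .i, .c, .d, .e, .b, .c, .d, .h, .a, .b, .c, .d, .e, .f, .g, .j, .h, .g, .d, .e, .f, .c, .d, .e, .b, .c, .d, .h, .i, .g, .f, .c, .d, .e, .b,
  .c, .d, .h, .a, .b, .c, .d, .e, .f, .g, .h, .i, .e, .d, .h, .c, .d, .e, .a, .b, .c, .d, .h, .i, .b, .c, .d, .h, .e, .d, .c, .b, .a, .c, .d, .h, .b,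
  .c, .d, .e, .f, .h, .d, .e, .c, .d, .h, .d, .c, .l]

theorem cjvD : eqB (cvD ++ (qw [0, 3, 5]) ++ cvD.reverse) (XW 3).reverse = true := by decide +kernel

end Cfsg.Agent.SB.F24.Wd
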