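import Cfsg.Agent.SB.Split
import Cfsg.Agent.H841.ExtA
import Cfsg.Prelude.Def_Spor_Fi24

/-!
# S5765, the row `Fi24'`, `O₂(S ⊓ T) = 1`: interface (helper96)

`Geo T Pt Q` : the 3-local geometry. `Pt p` : `p` is 3-central (class 3B), `Q p = O₃(C(p)) = 3^{1+10}`.
`BoxGeo` : no group `S` all of whose invariant 3-subgroups have solvable normalizers has an orbit of commuting points.
`BoxFive` : the case `O_p(S ⊓ T) ≠ 1`, `p ≥ 5`.  See `notes/SB/fi24n.md`.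
-/

set_option autoImplicit false

namespace Cfsg.Agent.SB.F24

open Subgroup Cfsg
open Cfsg.Agent.H841.Ext (ES)

/-- the geometry of the 3-central elements -/
structure Geo {G : Type*} [Group G] (T : Subgroup G) (Pt : G → Prop) (Q : G → Subgroup G) : Prop where
  cube : ∀ {p}, Pt p → p ^ 3 = 1
  ne : ∀ {p}, Pt p → p ≠ 1
  inv : ∀ {p}, Pt p → Pt p⁻¹
  conj : ∀ {p}, Pt p → ∀ g, Pt (g * p * g⁻¹)
  Q_inv : ∀ {p}, Pt p → Q p⁻¹ = Q p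
  Q_conj : ∀ {p}, Pt p → ∀ g, ∀ x ∈ Q p, g * x * g⁻¹ ∈ Q (g * p * g⁻¹)
  es : ∀ {p}, Pt p → ES (zpowers p) (Q p)
  Q_le : ∀ {p}, Pt p → Q p ≤ T
  card : ∀ {p}, Pt p → Nat.card (Q p) = 3 ^ 11
  /-- a pure group `⟨p, w⟩` is a line -/
  pure : ∀ {p w}, Pt p → Pt w → Commute p w → Pt (w * p) → Pt (w * p⁻¹) → w ∈ Q p
  small : ∀ {p w}, Pt p → Pt w → Commute p w → w ∉ Q p → Nat.card ↥(Q p ⊓ centralizer {w}) ≤ 3 ^ 8
  /-- a line commuting with `p` meets `Q p` -/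
  meet : ∀ {p a b}, Pt p → Pt a → Pt b → Pt (a * b) → Pt (a * b⁻¹) → Commute p a → Commute p b → Commute a b →
    a ∈ Q p ∨ b ∈ Q p ∨ a * b ∈ Q p ∨ a * b⁻¹ ∈ Q p
  /-- a 3-subgroup of `C(p)` normalizes a standard line through `p` -/
  line : ∀ {p}, Pt p → ∀ B : Subgroup G, IsPGroup 3 B → (∀ b ∈ B, Commute p b) →
    ∃ q, Pt q ∧ q ∈ Q p ∧ q ∉ zpowers p ∧ (∀ b ∈ B, b * q * b⁻¹ * q⁻¹ ∈ zpowers p) ∧
      ¬ Group.IsSolvable ↥(T ⊓ centralizer {p} ⊓ centralizer {q})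
  /-- the two kinds of commuting pairs which are not collinear -/
  kind : ∀ {p w}, Pt p → Pt w → Commute p w → w ∉ Q p →
    (Q p ⊓ centralizer {w} ≤ closure {q | Pt q ∧ q ∈ Q p ∧ Commute q w} ∧
      ¬ Group.IsSolvable ↥(T ⊓ centralizer {p} ⊓ centralizer {w})) ∨
    (∀ a b, Pt a → Pt b → a ∈ Q p → b ∈ Q p → Commute a w → Commute b w → a * b ∈ zpowers p ∨ Pt (a * b))

/-- the abstract part -/
def BoxGeo : Prop :=
  ∀ (G : Type) [Group G] [Finite G] (T S : Subgroup G) (Pt : G → Prop) (Q : G → Subgroup G), Geo T Pt Q →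
    (∀ Y : Subgroup G, Y ≤ T → Y ≠ ⊥ → IsPGroup 3 Y → (∀ s ∈ S, ∀ y ∈ Y, s * y * s⁻¹ ∈ Y) →
      Group.IsSolvable ↥(T ⊓ normalizer (Y : Set G))) →
    ∀ z, Pt z → (∀ s ∈ S, Commute z (s * z * s⁻¹)) → False

/-- the primes `p ≥ 5` -/
def BoxFive : Prop :=
  ∀ S : Subgroup Spor.Fi24, Group.IsSolvable S → MaxInv (commutator Spor.Fi24) S →
    ∀ p : ℕ, p.Prime → 5 ≤ p → ¬ NPar p (commutator Spor.Fi24) S → Seven (commutator Spor.Fi24) S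

end Cfsg.Agent.SB.F24
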