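import Cfsg.Agent.H841.ExtA
import Cfsg.Agent.Lib.PackMatLin

/-!
# S5765, the row `Fi24'`: the linear model of `C(z) = Q : S`, `Q / ⟨z⟩ = F₃¹⁰` (helper96)

`Mod` : the data; `Rep g A` : the packed matrix `A` describes the action of `g ∈ S` on `Q / ⟨z⟩`.
-/

set_option autoImplicit false
set_option maxRecDepth 100000

namespace Cfsg.Agent.SB.F24.Md

open Subgroup
open Matrix (vecMul_vecMul vecMul_one)
open scoped Matrix
open Cfsg.Agent.H841.Ext (ES)
open Cfsg.Agent.Lib.PackMat Cfsg.Agent.Lib.PackMatGroup Cfsg.Agent.Lib.PackMatMul Cfsg.Agent.Lib.PackMatLin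

/-! ### packed arithmetic -/

def C : Cfg := ⟨10, 12, 3, 2, 0, 2, 43, 7⟩

theorem good : C.good = true := by decide +kernel

theorem gd : Good C := good_of_check good

abbrev V : Type := Fin C.n → ZMod C.p

def cGM : ℕ := 17214275726049718940670388590169810146070648041843835958818258113099336182150833974194839304932963347115607536737545886988881784684793049373291407963488447078293916834847316884394505883638377739243950574489261824413876129583680560212140772137834493714128008865506131653189388061635441482380834419561016707567377769065361315078203024090156448256958055708832563200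
def cFM : ℕ := 5444517870735015415413993718908291383295
def cHT : ℕ := 10062531836222806363862764070498335
def cH2 : ℕ := 130347463528194937523831186465844126981923728231723904169409118756635643816482079170042007485791802532815017946273701885579031195608135895427286912421145357187898561079691261857735061487697608996605733576798718513595046701664336421369150131073791688431450719669822332927998030823263429256340528436338726278690009302841126312493053236230741476804229266269138975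
/-- the identity matrix -/
def c1 : ℕ := 4203730336031677396989105882825350459859152168129056799351805311570611272989354375711921174797212319945974818821439896597650466897751428989596943826957518449235623536339759253203880007531936540711497626611371515857755407474379032857375558140729427988316692794303928472586256062210292859552875060508153599832791711136649120088915485693049237740248897666678785

theorem cGM_eq : GMc C = cGM := Nat.eq_of_beq_eq_true (by decide +kernel)
theorem cFM_eq : FMc C = cFM := Nat.eq_of_beq_eq_true (by decide +kernel)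
theorem cHT_eq : HTc C = cHT := Nat.eq_of_beq_eq_true (by decide +kernel)
theorem cH2_eq : HT2 C = cH2 := Nat.eq_of_beq_eq_true (by decide +kernel)
theorem c1_eq : oneM C = c1 := Nat.eq_of_beq_eq_true (by decide +kernel)

/-- product of matrices -/
noncomputable def mu (A B : ℕ) : ℕ := mulMK 10 12 3 2 43 7 0 cGM cFM 0 0 cH2 A B

/-- row times matrix -/
noncomputable def st (R A : ℕ) : ℕ := stepK 3 2 43 7 0 cGM cFM 0 0 cHT R A

theorem mu_eq (A B : ℕ) : mu A B = mulM C A B := by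
  unfold mulM
  rw [cGM_eq, cFM_eq, cH2_eq]
  rfl

theorem st_eq (R A : ℕ) : st R A = step C R A := by
  unfold step
  rw [cGM_eq, cFM_eq, cHT_eq]
  rfl

theorem mu_spec {A B : ℕ} (hA : RedG C A) (hB : RedG C B) : RedG C (mu A B) ∧ mat C (mu A B) = mat C A * mat C B := by
  rw [mu_eq]
  exact mulM_spec gd hA hB

theorem st_spec {R A : ℕ} (hR : OkR C R) (hA : RedG C A) :
    OkR C (st R A) ∧ rowVec C (st R A) = rowVec C R ᵥ* mat C A := by
  rw [st_eq]
  exact step_spec gd hR (hA.okG gd)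

theorem c1_spec : RedG C c1 ∧ mat C c1 = 1 := by
  have h := codesR_one gd (by decide)
  rw [c1_eq] at h
  exact ⟨h.1, h.2.symm⟩

/-- a row times a word -/
noncomputable def rn (L : List ℕ) (w : List ℕ) : ℕ → ℕ :=
  List.rec (motive := fun _ => ℕ → ℕ) (fun R => R) (fun i _ ih R => force (st R (get L i)) fun R' => ih R') w

theorem rn_cons (L : List ℕ) (i : ℕ) (w : List ℕ) (R : ℕ) : rn L (i :: w) R = rn L w (st R (get L i)) := rfl

/-- `f` holds on the list -/
noncomputable def allL {α : Type} (f : α → Bool) (l : List α) : Bool :=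
  List.rec true (fun a _ ih => bif f a then ih else false) l

theorem allL_spec {α : Type} {f : α → Bool} {l : List α} (h : allL f l = true) : ∀ a ∈ l, f a = true := by
  induction l with
  | nil => intro a ha; simp at ha
  | cons b l ih =>
    have h' : (bif f b then allL f l else false) = true := h
    rcases hb : f b with _ | _
    · rw [hb] at h'; simp at h'
    rw [hb, cond_true] at h'
    intro a ha
    rcases List.mem_cons.mp ha with rfl | ha
    · exact hb
    · exact ih h' a ha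

/-- the rows supported on the last five coordinates -/
def enc (m : ℕ) : ℕ :=
  m % 3 + m / 3 % 3 * 4096 + m / 9 % 3 * 16777216 + m / 27 % 3 * 68719476736 + m / 81 % 3 * 281474976710656

theorem encB_true : allBelow (fun m => okR C (enc m) && decide ((List.range 10).map (dg 12 (enc m)) =
    [m % 3, m / 3 % 3, m / 9 % 3, m / 27 % 3, m / 81 % 3, 0, 0, 0, 0, 0])) 243 = true := by
  decide +kernel

theorem enc_surj {y : V} (hy : ∀ j : Fin C.n, j.val < 5 → y j = 0) :
    ∃ m < 243, OkR C (enc m) ∧ rowVec C (enc m) = y := by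
  have : NeZero C.p := ⟨by decide⟩
  obtain ⟨a, ha⟩ : ∃ a, a = (y ⟨9, by decide⟩).val := ⟨_, rfl⟩
  obtain ⟨b, hb⟩ : ∃ a, a = (y ⟨8, by decide⟩).val := ⟨_, rfl⟩
  obtain ⟨c, hc⟩ : ∃ a, a = (y ⟨7, by decide⟩).val := ⟨_, rfl⟩
  obtain ⟨d, hd⟩ : ∃ a, a = (y ⟨6, by decide⟩).val := ⟨_, rfl⟩
  obtain ⟨e, he⟩ : ∃ a, a = (y ⟨5, by decide⟩).val := ⟨_, rfl⟩
  have a1 : a < 3 := ha ▸ ZMod.val_lt _
  have a2 : b < 3 := hb ▸ ZMod.val_lt _
  have a3 : c < 3 := hc ▸ ZMod.val_lt _
  have a4 : d < 3 := hd ▸ ZMod.val_lt _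
  have a5 : e < 3 := he ▸ ZMod.val_lt _
  obtain ⟨m, hm⟩ : ∃ m, m = a + 3 * b + 9 * c + 27 * d + 81 * e := ⟨_, rfl⟩
  have h := allBelow_spec encB_true m (by omega)
  rw [Bool.and_eq_true, decide_eq_true_eq, show m % 3 = a by omega, show m / 3 % 3 = b by omega,
    show m / 9 % 3 = c by omega, show m / 27 % 3 = d by omega, show m / 81 % 3 = e by omega] at h
  refine ⟨m, by omega, okR_spec h.1, ?_⟩
  have h2 := h.2
  simp only [List.range_succ, List.range_zero, List.nil_append, List.cons_append, List.map_cons, List.map_nil,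
    List.cons.injEq, and_true] at h2
  obtain ⟨k0, k1, k2, k3, k4, k5, k6, k7, k8, k9⟩ := h2
  have key : ∀ (j : ℕ) (hj : j < C.n) (n : ℕ), dg 12 (enc m) (9 - j) = n → ((n : ℕ) : ZMod C.p) = y ⟨j, hj⟩ →
      rowVec C (enc m) ⟨j, hj⟩ = y ⟨j, hj⟩ := by
    intro j hj n h1 h2
    rw [← h2, ← h1]
    rfl
  funext ⟨j, hj⟩
  have hj' : j < 10 := hj
  interval_cases j
  · exact key 0 _ _ k9 (by rw [hy _ (by simp), Nat.cast_zero])
  · exact key 1 _ _ k8 (by rw [hy _ (by simp), Nat.cast_zero])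
  · exact key 2 _ _ k7 (by rw [hy _ (by simp), Nat.cast_zero])
  · exact key 3 _ _ k6 (by rw [hy _ (by simp), Nat.cast_zero])
  · exact key 4 _ _ k5 (by rw [hy _ (by simp), Nat.cast_zero])
  · exact key 5 _ _ k4 (by rw [he, ZMod.natCast_zmod_val])
  · exact key 6 _ _ k3 (by rw [hd, ZMod.natCast_zmod_val])
  · exact key 7 _ _ k2 (by rw [hc, ZMod.natCast_zmod_val])
  · exact key 8 _ _ k1 (by rw [hb, ZMod.natCast_zmod_val])
  · exact key 9 _ _ k0 (by rw [ha, ZMod.natCast_zmod_val])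

/-- the first five columns vanish -/
def col5 (A : ℕ) : Bool := Nat.beq (A % 2 ^ 600) 0

theorem col5_spec {A : ℕ} (h : col5 A = true) (v : V) (j : Fin C.n) (hj : j.val < 5) : (v ᵥ* mat C A) j = 0 := by
  have h1 : A % 2 ^ 600 = 0 := Nat.eq_of_beq_eq_true h
  have h2 : ∀ i : Fin C.n, mat C A i j = 0 := by
    intro i
    have hi : i.val < 10 := i.isLt
    rw [mat_def]
    have h3 : dg C.s A (i + C.n * j) = 0 := by
      show dg 12 A (i + 10 * j) = 0
      have h4 := dg_E (s := 12) (f := dg 12 A) (L := 50) (i := i + 10 * j) (fun i _ => dg_lt _ _ _) (by omega)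
      rw [E_dg_mod, show 12 * 50 = 600 from rfl, h1] at h4
      rw [← h4, dg_def, Nat.zero_div, Nat.zero_mod]
    rw [h3, Nat.cast_zero]
  simp [Matrix.vecMul, dotProduct, h2]

theorem three_eq : (3 : ZMod C.p) = 0 := by decide

theorem two_eq : ((2 : ℕ) : ZMod C.p) = -1 := by decide

/-! ### the model -/

structure Mod (G : Type) [Group G] where
  z : G
  Q : Subgroup G
  S : Subgroup G
  vec : G → V
  z3 : z ^ 3 = 1
  z1 : z ≠ 1
  es : ES (zpowers z) Q
  add : ∀ {x y}, x ∈ Q → y ∈ Q → vec (x * y) = vec x + vec y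
  ker : ∀ {x}, x ∈ Q → (vec x = 0 ↔ x ∈ zpowers z)
  surj : ∀ v, ∃ x ∈ Q, vec x = v
  norm : ∀ {g x}, Commute z g → x ∈ Q → g⁻¹ * x * g ∈ Q
  comm : ∀ {s}, s ∈ S → Commute z s
  dec : ∀ {g}, Commute z g → ∃ s ∈ S, ∃ x ∈ Q, g = s * x
  split : ∀ {s x}, s ∈ S → x ∈ Q → vec (s⁻¹ * x * s) = vec x → Commute s x
  faith : ∀ {s}, s ∈ S → (∀ x ∈ Q, Commute s x) → s = 1
  card : Nat.card S = 27371520

namespace Mod

variable {G : Type} [Group G] (D : Mod G)

theorem z_mem : D.z ∈ D.Q := D.es.le (mem_zpowers _)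

theorem cQ {x : G} (hx : x ∈ D.Q) : Commute D.z x := D.es.cen _ (mem_zpowers _) x hx

theorem mem_Z {a : G} : a ∈ zpowers D.z ↔ a = 1 ∨ a = D.z ∨ a = D.z⁻¹ := by
  constructor
  · rintro ⟨k, rfl⟩
    have h3 : D.z ^ (3 : ℤ) = 1 := by exact_mod_cast D.z3
    have e : D.z ^ k = D.z ^ (k % 3) := by
      conv_lhs => rw [← Int.emod_add_mul_ediv k 3, zpow_add, zpow_mul, h3, one_zpow, mul_one]
    have h2 : D.z ^ (2 : ℤ) = D.z⁻¹ := by
      rw [eq_inv_iff_mul_eq_one, ← zpow_add_one]; exact h3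
    have : k % 3 = 0 ∨ k % 3 = 1 ∨ k % 3 = 2 := by omega
    show D.z ^ k = 1 ∨ D.z ^ k = D.z ∨ D.z ^ k = D.z⁻¹
    rcases this with h | h | h <;> rw [e, h]
    · exact Or.inl (zpow_zero _)
    · exact Or.inr (Or.inl (zpow_one _))
    · exact Or.inr (Or.inr h2)
  · rintro (h | h | h) <;> rw [h]
    exacts [one_mem _, mem_zpowers _, inv_mem (mem_zpowers _)]

theorem cZ {g a : G} (hg : Commute D.z g) (ha : a ∈ zpowers D.z) : Commute a g := by
  obtain ⟨k, rfl⟩ := ha
  exact hg.zpow_left k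

theorem vec_one : D.vec 1 = 0 := (D.ker (one_mem _)).2 (one_mem _)

theorem vec_inv {x : G} (hx : x ∈ D.Q) : D.vec x⁻¹ = -D.vec x := by
  have h := D.add hx (inv_mem hx)
  rw [mul_inv_cancel, D.vec_one] at h
  exact (neg_eq_of_add_eq_zero_right h.symm).symm

theorem vec_eq {x y : G} (hx : x ∈ D.Q) (hy : y ∈ D.Q) (h : D.vec x = D.vec y) : ∃ a ∈ zpowers D.z, x = y * a := by
  refine ⟨y⁻¹ * x, (D.ker (mul_mem (inv_mem hy) hx)).1 ?_, by group⟩
  rw [D.add (inv_mem hy) hx, D.vec_inv hy, h, neg_add_cancel]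

theorem vec_conj {x y : G} (hx : x ∈ D.Q) (hy : y ∈ D.Q) : D.vec (y⁻¹ * x * y) = D.vec x := by
  rw [D.add (mul_mem (inv_mem hy) hx) hy, D.add (inv_mem hy) hx, D.vec_inv hy]
  abel

theorem norm' {g x : G} (hg : Commute D.z g) (hx : x ∈ D.Q) : g * x * g⁻¹ ∈ D.Q := by
  have h := D.norm hg.inv_right hx
  rwa [inv_inv] at h

theorem nS {s x : G} (hs : s ∈ D.S) (hx : x ∈ D.Q) : s⁻¹ * x * s ∈ D.Q := D.norm (D.comm hs) hx

theorem inf_eq {s : G} (hs : s ∈ D.S) (hq : s ∈ D.Q) : s = 1 :=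
  D.faith hs fun _ hx => D.split hs hx (D.vec_conj hx hq)

/-- conjugation respects the classes modulo `⟨z⟩` -/
theorem vec_congr {g x y : G} (hg : Commute D.z g) (hx : x ∈ D.Q) (hy : y ∈ D.Q) (h : D.vec x = D.vec y) :
    D.vec (g⁻¹ * x * g) = D.vec (g⁻¹ * y * g) := by
  obtain ⟨a, ha, rfl⟩ := D.vec_eq hx hy h
  have e : g⁻¹ * (y * a) * g = (g⁻¹ * y * g) * a := by
    rw [mul_assoc g⁻¹, mul_assoc y, (D.cZ hg ha).eq]; group
  rw [e, D.add (D.norm hg hy) (D.es.le ha), (D.ker (D.es.le ha)).2 ha, add_zero]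

/-- the three elements `w a`, `a ∈ ⟨z⟩`, are conjugate -/
theorem conj_Z {w y : G} (hy : Commute D.z y) (h : y * w * y⁻¹ * w⁻¹ ∈ zpowers D.z) (hw : Commute D.z w)
    (hn : y * w ≠ w * y) {a : G} (ha : a ∈ zpowers D.z) : ∃ g, g * w * g⁻¹ = w * a := by
  set b := y * w * y⁻¹ * w⁻¹ with hb
  have b1 : b ≠ 1 := fun h => hn (by rw [hb, mul_inv_eq_one, mul_inv_eq_iff_eq_mul] at h; exact h)
  have e1 : y * w * y⁻¹ = w * b := by rw [← (D.cZ hw h).eq, hb]; group
  have e2 : y⁻¹ * w * y⁻¹⁻¹ = w * b⁻¹ := by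
    have h1 : y * (w * b⁻¹) * y⁻¹ = w := by
      calc y * (w * b⁻¹) * y⁻¹ = (y * w * y⁻¹) * (y * b⁻¹ * y⁻¹) := by group
        _ = w := by rw [e1, ← (D.cZ hy (inv_mem h)).eq]; group
    conv_lhs => rw [← h1]
    group
  rcases D.mem_Z.1 ha with rfl | rfl | rfl
  · exact ⟨1, by group⟩
  · rcases D.mem_Z.1 h with k | k | k
    · exact absurd k b1
    · exact ⟨y, by rw [e1, k]⟩
    · exact ⟨y⁻¹, by rw [e2, k, inv_inv]⟩
  · rcases D.mem_Z.1 h with k | k | k
    · exact absurd k b1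
    · exact ⟨y⁻¹, by rw [e2, k]⟩
    · exact ⟨y, by rw [e1, k]⟩

/-- elements of `Q` with the same nonzero vector are conjugate -/
theorem conj_vec {x y : G} (hx : x ∈ D.Q) (hy : y ∈ D.Q) (h : D.vec x = D.vec y) (h0 : D.vec y ≠ 0) :
    ∃ g, g * y * g⁻¹ = x := by
  obtain ⟨a, ha, rfl⟩ := D.vec_eq hx hy h
  have h1 : ¬ ∀ u ∈ D.Q, Commute y u := fun k => h0 ((D.ker hy).2 (D.es.nd y hy k))
  push Not at h1
  obtain ⟨u, hu, hc⟩ := h1
  exact D.conj_Z (D.cQ hu) (D.es.com u hu y hy) (D.cQ hy) (fun k => hc k.symm) ha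

/-! ### matrices -/

/-- `A` is the matrix of `g ∈ S` -/
def Rep (g : G) (A : ℕ) : Prop :=
  g ∈ D.S ∧ RedG C A ∧ ∀ x ∈ D.Q, D.vec (g⁻¹ * x * g) = D.vec x ᵥ* mat C A

variable {D}

theorem Rep.mul {g h : G} {A B : ℕ} (hg : D.Rep g A) (hh : D.Rep h B) : D.Rep (g * h) (mu A B) := by
  obtain ⟨k1, k2⟩ := mu_spec hg.2.1 hh.2.1
  refine ⟨mul_mem hg.1 hh.1, k1, fun x hx => ?_⟩
  rw [show (g * h)⁻¹ * x * (g * h) = h⁻¹ * (g⁻¹ * x * g) * h by group, hh.2.2 _ (D.nS hg.1 hx), hg.2.2 x hx, k2,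
    vecMul_vecMul]

theorem rep_one : D.Rep 1 c1 :=
  ⟨one_mem _, c1_spec.1, fun x _ => by rw [c1_spec.2, vecMul_one, inv_one, one_mul, mul_one]⟩

theorem Rep.eq {g h : G} {A : ℕ} (hg : D.Rep g A) (hh : D.Rep h A) : g = h := by
  have k : g * h⁻¹ ∈ D.S := mul_mem hg.1 (inv_mem hh.1)
  rw [← mul_inv_eq_one]
  refine D.faith k fun x hx => D.split k hx ?_
  have h1 : D.vec (g⁻¹ * x * g) = D.vec (h⁻¹ * x * h) := by rw [hg.2.2 x hx, hh.2.2 x hx]
  have h2 := D.vec_congr (D.comm (inv_mem hh.1)) (D.nS hg.1 hx) (D.nS hh.1 hx) h1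
  rw [show h⁻¹⁻¹ * (h⁻¹ * x * h) * h⁻¹ = x by group] at h2
  rw [← h2]
  congr 1
  group

theorem Rep.eq' {g h : G} {A B : ℕ} (hg : D.Rep g A) (hh : D.Rep h B) (e : Nat.beq A B = true) : g = h := by
  rw [Nat.eq_of_beq_eq_true e] at hg
  exact hg.eq hh

theorem Rep.of_beq {g : G} {A B : ℕ} (hg : D.Rep g A) (e : Nat.beq A B = true) : D.Rep g B :=
  Nat.eq_of_beq_eq_true e ▸ hg

theorem Rep.code {g : G} {A B : ℕ} (hA : D.Rep g A) (hB : D.Rep g B) : A = B := by
  apply redG_inj hA.2.1 hB.2.1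
  apply vecMul_ext
  intro i
  obtain ⟨x, hx, e⟩ := D.surj (Pi.single i 1)
  rw [← e, ← hA.2.2 x hx, ← hB.2.2 x hx]

theorem rep_get {LG : List G} {L : List ℕ} (h : List.Forall₂ D.Rep LG L) {i : ℕ} (hi : i < L.length) :
    D.Rep (LG.getD i 1) (get L i) := by
  induction h generalizing i with
  | nil => simp at hi
  | cons h _ ih =>
    rcases i with _ | i
    · exact h
    · exact ih (by simpa using hi)

theorem rep_evL {LG : List G} {L : List ℕ} (h : List.Forall₂ D.Rep LG L) {w : List ℕ} (hw : okW L.length w = true) :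
    ∀ {g : G} {A : ℕ}, D.Rep g A → D.Rep (g * evG LG w) (evL mu L w A) := by
  induction w with
  | nil => intro g A hg; rw [evG_nil, mul_one]; exact hg
  | cons i w ih =>
    intro g A hg
    obtain ⟨h1, h2⟩ := okW_cons hw
    rw [evG_cons, ← mul_assoc, evL_cons]
    exact ih h2 (hg.mul (rep_get h h1))

theorem rep_ev {LG : List G} {L : List ℕ} (h : List.Forall₂ D.Rep LG L) {w : List ℕ} (hw : okW L.length w = true) :
    D.Rep (evG LG w) (evL mu L w c1) := by
  have k := rep_evL h hw (rep_one (D := D))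
  rwa [one_mul] at k

theorem Rep.st {g : G} {A R : ℕ} (hg : D.Rep g A) (hR : OkR C R) {x : G} (hx : x ∈ D.Q) (e : D.vec x = rowVec C R) :
    D.vec (g⁻¹ * x * g) = rowVec C (st R A) := by
  rw [hg.2.2 x hx, e, (st_spec hR hg.2.1).2]

theorem rep_rn {LG : List G} {L : List ℕ} (h : List.Forall₂ D.Rep LG L) {w : List ℕ} (hw : okW L.length w = true) :
    ∀ {R : ℕ}, OkR C R → evG LG w ∈ D.S ∧ OkR C (rn L w R) ∧ ∀ x ∈ D.Q, D.vec x = rowVec C R →
      D.vec ((evG LG w)⁻¹ * x * evG LG w) = rowVec C (rn L w R) := by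
  induction w with
  | nil => intro R hR; exact ⟨one_mem _, hR, fun x _ e => by rw [evG_nil, inv_one, one_mul, mul_one]; exact e⟩
  | cons i w ih =>
    intro R hR
    obtain ⟨h1, h2⟩ := okW_cons hw
    have k := rep_get h h1
    obtain ⟨k1, k2, k3⟩ := ih h2 (st_spec hR k.2.1).1
    rw [rn_cons, evG_cons]
    refine ⟨mul_mem k.1 k1, k2, fun x hx e => ?_⟩
    rw [← k3 _ (D.nS k.1 hx) (k.st hR hx e)]
    congr 1
    group

/-- a fixed vector gives a centralised element -/
theorem Rep.comm {g : G} {A R : ℕ} (hg : D.Rep g A) (hR : OkR C R) (h : Nat.beq (Md.st R A) R = true) {x : G}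
    (hx : x ∈ D.Q) (e : D.vec x = rowVec C R) : Commute g x :=
  D.split hg.1 hx (by rw [hg.st hR hx e, Nat.eq_of_beq_eq_true h, e])

theorem Rep.commute {g h : G} {A B : ℕ} (hg : D.Rep g A) (hh : D.Rep h B) (e : Nat.beq (mu A B) (mu B A) = true) :
    Commute g h := (hg.mul hh).eq' (hh.mul hg) e

theorem Rep.cube {g : G} {A : ℕ} (hg : D.Rep g A) (e : Nat.beq (mu (mu A A) A) c1 = true) : g ^ 3 = 1 := by
  rw [pow_three']
  exact ((hg.mul hg).mul hg).eq' rep_one e

end Mod

end Cfsg.Agent.SB.F24.Md
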