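import Cfsg.Agent.SB.Mon.F24.VecA
import Cfsg.Agent.SB.Mon.F24.Chk1
import Cfsg.Agent.SB.Mon.F24.Defs2

/-!
# S5765, the row `Fi24'`: the linear model of `C(x3)` in `Fi24` (helper96)
-/

set_option autoImplicit false
set_option maxRecDepth 100000

namespace Cfsg.Agent.SB.F24.Wd

open Subgroup Cfsg
open scoped Matrix
open Cfsg.Spor (Fi24)
open Cfsg.Spor.Fi24 (Gen)
open Cfsg.Agent.Lib.PackMat Cfsg.Agent.Lib.PackMatGroup Cfsg.Agent.Lib.PackMatMul
open Cfsg.Agent.Fischer.Fi24Rep (word gen rho)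
open Cfsg.Agent.Fischer.Fi24Spider (word_append)
open Cfsg.Agent.R08.FiTwentyFour (finite_Fi24)
open Cfsg.Agent.KFacts.FiTF.Pts (IsPt rho_of_chkPt word_reverse)
open Cfsg.Agent.KFacts.FiTF.Defs (tr)
open Cfsg.Agent.H841.Tri Cfsg.Agent.H841.Ext
open Cfsg.Agent.H834.U5 (ge gw5 H5 z0 ge_mem H5_x3 H5_z0 S0_eq z0_mem z0_sq z0_ne)
open Cfsg.Agent.LThreeFi24.SNine (x3)
open Cfsg.Agent.SB.F24.Md

noncomputable def geL : List Fi24 := [ge 0, ge 1, ge 2, ge 3, ge 4]

theorem ev_gew (w : List ℕ) : evG geL w = word (gew w) := by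
  induction w with
  | nil => rfl
  | cons k w ih =>
    rw [evG_cons, ih]
    show _ = word (gw5.getD k [] ++ gew w)
    rw [word_append]
    congr 1
    rcases k with _ | _ | _ | _ | _ | k <;> rfl

theorem gew_mem (w : List ℕ) : word (gew w) ∈ H5 := by
  rw [← ev_gew]
  refine evG_mem H5 (fun g hg => ?_) w
  simp only [geL, List.mem_cons, List.not_mem_nil, or_false] at hg
  rcases hg with rfl | rfl | rfl | rfl | rfl <;> exact ge_mem (by decide)

/-- the generators of `Q0` -/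
noncomputable def be (j : ℕ) : Fi24 := word (bw j)

theorem tp_pd : ∀ i : Fin 5, tp i 0 0 = pd i := by decide

theorem dd_word (i : Fin 5) : word (ddw.getD i []) = dd i := by
  fin_cases i
  exacts [word_single _, word_single _, rfl, rfl, rfl]

noncomputable def hN (i : ℕ) : NX := ⟨word (gew (Hw.getD i [])), mem_NX_of_comm (H5_x3 (gew_mem _))⟩

theorem be_eq (j : ℕ) : be j = word (ddw.getD (j / 2) []) * tr (tu.getD j []) (tx.getD j .l) := by
  rw [be, bw, word_append, List.append_assoc, List.singleton_append]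
  rfl

theorem h_spec (i : Fin 5) : hN i * lN * (hN i)⁻¹ = dN i ∧ ((hN i * uN * (hN i)⁻¹ : NX) : Fi24) = be (2 * i) ∧
    ((hN i * vN * (hN i)⁻¹ : NX) : Fi24) = be (2 * i + 1) := by
  have h := allBelow_spec h_chk i i.isLt
  simp only [hC, Bool.and_eq_true] at h
  obtain ⟨k1, k2, k3, k4, k5⟩ := h
  have e0 := H841.Five.isPt_l.conj_eq (isPt_dd i) ((rho_of_chkPt k1).trans (tp_pd i))
  have e1 := isPt_l1.conj_eq (IsPt.of_word k4) (rho_of_chkPt k2)
  have e2 := isPt_l2.conj_eq (IsPt.of_word k5) (rho_of_chkPt k3)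
  refine ⟨Subtype.ext e0, ?_, ?_⟩
  · rw [be_eq, show 2 * i.val / 2 = i by omega, dd_word, ← e0, ← e1]
    show word (gew (Hw.getD i [])) * (gen .l * l1) * (word (gew (Hw.getD i [])))⁻¹ = _
    group
  · rw [be_eq, show (2 * i.val + 1) / 2 = i by omega, dd_word, ← e0, ← e2]
    show word (gew (Hw.getD i [])) * (gen .l * l2) * (word (gew (Hw.getD i [])))⁻¹ = _
    group

theorem be_aux (i : Fin 5) {e : NX} (he : e ∈ DN) (hw : Cfsg.Agent.LThreeFi24.Twin.Tw DN lN e) :
    hN i * (lN * e) * (hN i)⁻¹ ∈ Qc DN (dN i) ∧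
      zN * (hN i * (lN * e) * (hN i)⁻¹) * zN⁻¹ = (hN i * (lN * e) * (hN i)⁻¹)⁻¹ := by
  refine ⟨(h_spec i).1 ▸ conj_mem_Qc tsetDN (mem_Qc he hw), ?_⟩
  have h1 := dat.z_inv0 he (dN_zero ▸ hw)
  rw [dN_zero] at h1
  have h2 : Commute (hN i) zN := Subtype.ext (H5_z0 (gew_mem _))
  calc zN * (hN i * (lN * e) * (hN i)⁻¹) * zN⁻¹ = (zN * hN i) * (lN * e) * (zN * hN i)⁻¹ := by group
    _ = hN i * (zN * (lN * e) * zN⁻¹) * (hN i)⁻¹ := by rw [← h2.eq]; group
    _ = _ := by rw [h1]; group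

theorem be_spec {j : ℕ} (hj : j < 10) : ∃ y : NX, (y : Fi24) = be j ∧ y ∈ Qc DN (dN ⟨j / 2, by omega⟩) ∧
    zN * y * zN⁻¹ = y⁻¹ := by
  have h := h_spec ⟨j / 2, by omega⟩
  rcases Nat.even_or_odd' j with ⟨i, rfl | rfl⟩
  · exact ⟨_, h.2.1.trans (congrArg be (by simp only; omega)), be_aux _ l1N_mem tw_l1⟩
  · exact ⟨_, h.2.2.trans (congrArg be (by simp only; omega)), be_aux _ l2N_mem tw_l2⟩

theorem be_mem (j : ℕ) (hj : j < 10) : be j ∈ Q0 := by
  obtain ⟨y, e, h, -⟩ := be_spec hj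
  exact ⟨y, Qc_le (dN_mem _) h, e⟩

theorem be_gen : Q0 ≤ closure {g | ∃ j < 10, g = be j} := by
  rw [Q0, map_le_iff_le_comap]
  show Subgroup.closure _ ≤ _
  rw [dat.closure_Pr]
  refine iSup_le fun i => ?_
  obtain ⟨h1, h2, h3⟩ := h_spec i
  rw [← h1, ← Qc_conj tsetDN, Qc_eq_uv, map_le_iff_le_comap, closure_le]
  rintro x (rfl | rfl)
  · exact subset_closure ⟨2 * i, by omega, h2⟩
  · exact subset_closure ⟨2 * i + 1, by omega, h3⟩

theorem es0 : ES (zpowers x3) Q0 := by
  have h := H841.InjTr.es_map NX.subtype es_QQ NX.subtype_injective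
  rwa [MonoidHom.map_zpowers] at h

theorem ex_vec : ∃ vec, VD x3 Q0 be vec := by
  have := finite_Fi24
  exact exists_vec es0 (DS.Sp.F24S.card_zp x3_cube x3_ne)
    ((H841.InjTr.card_map NX.subtype NX.subtype_injective _).trans card_QQ) be be_mem be_gen

/-- the coordinates -/
noncomputable def vec : Fi24 → V := Classical.choose ex_vec

theorem vd : VD x3 Q0 be vec := Classical.choose_spec ex_vec

theorem norm0 {g : Fi24} (hg : Commute x3 g) (x : Fi24) (hx : x ∈ Q0) : g⁻¹ * x * g ∈ Q0 := by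
  obtain ⟨y, hy, rfl⟩ := hx
  have h := dat.normal_Q.conj_mem' y hy ⟨g, mem_NX_of_comm hg.symm⟩
  exact ⟨_, h, rfl⟩

theorem comm_d (i : Fin 5) {x : Fi24} (hx : x ∈ Q0) (h : ∀ j : Fin C.n, j.val / 2 = i → vec x j = 0) :
    Commute x (dd i) := by
  refine mem_centralizer_singleton_iff.1 (vd.ind (K := centralizer {dd i})
    (mem_centralizer_singleton_iff.2 (dd_mem i).2.symm.eq) hx fun j hj => ?_)
  obtain ⟨y, e, h1, -⟩ := be_spec (j := j) j.isLt
  have h2 := comm_Qc (dN_nb _ i (fun k => hj (h j (congrArg Fin.val k)))) h1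
  rw [← e]
  exact mem_centralizer_singleton_iff.2 (congrArg Subtype.val h2.symm.eq)

theorem rho_tp {i : ℕ} (hi : i < 5) {a b : ℕ} (ha : a < 3) (hb : b < 3) :
    rho (be (2 * i) ^ a * be (2 * i + 1) ^ b) (tp i 0 0) = tp i a b := by
  have h := allBelow_spec t_chk i hi
  rw [tC, Bool.and_eq_true] at h
  have h1 : ∀ b < 3, rho (be (2 * i + 1) ^ b) (tp i 0 0) = tp i 0 b := by
    intro b hb
    induction b with
    | zero => rw [pow_zero, map_one, Equiv.Perm.one_apply]
    | succ b ih =>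
      rw [pow_succ', map_mul, Equiv.Perm.mul_apply, ih (by omega)]
      exact rho_of_chkPt (allBelow_spec h.1 b (by omega))
  rw [map_mul, Equiv.Perm.mul_apply, h1 b hb]
  induction a with
  | zero => rw [pow_zero, map_one, Equiv.Perm.one_apply]
  | succ a ih =>
    rw [pow_succ', map_mul, Equiv.Perm.mul_apply, ih (by omega)]
    exact rho_of_chkPt (allBelow_spec (allBelow_spec h.2 a (by omega)) b hb)

theorem vec_of_pts {x : Fi24} (hx : x ∈ Q0) (f : ℕ → ℕ) (hf : ∀ k, f k < 3)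
    (h : ∀ i < 5, rho x (tp i 0 0) = tp i (f (2 * i)) (f (2 * i + 1))) (k : Fin C.n) : vec x k = (f k : ZMod C.p) := by
  classical
  have : NeZero C.p := ⟨by decide⟩
  have hk : k.val < 10 := k.isLt
  obtain ⟨i, hi⟩ : ∃ i, i = k.val / 2 := ⟨_, rfl⟩
  have i5 : i < 5 := by omega
  let j0 : Fin C.n := ⟨2 * i, show 2 * i < 10 by omega⟩
  let j1 : Fin C.n := ⟨2 * i + 1, show 2 * i + 1 < 10 by omega⟩
  have hne : j0 ≠ j1 := fun e => by have := congrArg Fin.val e; simp only [j0, j1] at this; omega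
  have q0 := be_mem (2 * i) (by omega)
  have q1 := be_mem (2 * i + 1) (by omega)
  have a3 : (vec x j0).val < 3 := ZMod.val_lt _
  have b3 : (vec x j1).val < 3 := ZMod.val_lt _
  have hy := mul_mem (pow_mem q0 (vec x j0).val) (pow_mem q1 (vec x j1).val)
  have hc : ∀ j : Fin C.n, j.val / 2 = i → j = j0 ∨ j = j1 := fun j hj => by
    rcases Nat.even_or_odd' j.val with ⟨m, e | e⟩
    · exact Or.inl (Fin.ext (by simp only [j0]; omega))
    · exact Or.inr (Fin.ext (by simp only [j1]; omega))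
  have h1 := comm_d ⟨i, i5⟩ (mul_mem (inv_mem hy) hx) (fun j hj => by
    rw [vd.add (inv_mem hy) hx, vd.inv hy, vd.add (pow_mem q0 _) (pow_mem q1 _), vd.pow q0, vd.pow q1, vd.bas j0,
      vd.bas j1]
    simp only [Pi.add_apply, Pi.neg_apply, Pi.smul_apply]
    rcases hc j hj with e | e <;> rw [e]
    · rw [Pi.single_eq_of_ne hne, Pi.single_eq_same, smul_zero, add_zero, nsmul_one, ZMod.natCast_zmod_val,
        neg_add_cancel]
    · rw [Pi.single_eq_of_ne hne.symm, Pi.single_eq_same, smul_zero, zero_add, nsmul_one, ZMod.natCast_zmod_val,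
        neg_add_cancel])
  have h2 := ((isPt_dd ⟨i, i5⟩).comm_iff _).1 h1.eq
  rw [← tp_pd, map_mul, Equiv.Perm.mul_apply, map_inv, Equiv.Perm.inv_eq_iff_eq, rho_tp i5 a3 b3, h i i5] at h2
  have h3 := allBelow_spec (allBelow_spec (allBelow_spec (allBelow_spec (allBelow_spec tp_inj i i5) _ (hf (2 * i))) _
    (hf (2 * i + 1))) _ a3) _ b3
  rw [h2, Nat.beq_refl, Bool.not_true, Bool.false_or, Bool.and_eq_true, Nat.beq_eq, Nat.beq_eq] at h3
  rcases hc k hi.symm with e | e <;> rw [e]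
  · rw [← ZMod.natCast_zmod_val (vec x j0), ← h3.1]
  · rw [← ZMod.natCast_zmod_val (vec x j1), ← h3.2]

theorem mem_S0 {s : Fi24} (hs : s ∈ H5) : ∃ y ∈ S0 DN zN, (y : Fi24) = s := by
  rw [← S0_eq, ← map_S0] at hs
  exact hs

theorem dec0 {g : Fi24} (hg : Commute x3 g) : ∃ s ∈ H5, ∃ x ∈ Q0, g = s * x := by
  have := finite_Fi24
  have h1 : closure DN ≤ centralizer {xN} :=
    (closure_le _).2 fun t ht => mem_centralizer_singleton_iff.2 (cxN ht).eq
  have h2 : Nat.card (closure DN) = 3 ^ 11 * (2 * 13685760) := by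
    obtain ⟨hn, ⟨j⟩⟩ := quot_S
    have hle : QQ DN ≤ closure DN := by rw [dat.closure_D]; exact le_sup_left
    rw [card_eq_card_quotient_mul_card_subgroup ((QQ DN).subgroupOf (closure DN)),
      Nat.card_congr (subgroupOfEquivOfLe hle).toEquiv, card_QQ, Nat.card_congr j.toEquiv, Nat.card_prod, card_psu5]
    have h : Nat.card M2 = 2 := by
      rw [Nat.card_eq_fintype_card]
      decide
    rw [h, mul_comm]
  have h3 : Nat.card (centralizer ({xN} : Set NX)) ≤ Nat.card (closure DN) := by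
    have h4 := (centralizer ({xN} : Set NX)).card_mul_index
    have h5 : (centralizer ({xN} : Set NX)).index ≠ 1 := by
      obtain ⟨n, hn⟩ := exists_inv
      intro h
      rw [index_eq_one] at h
      have h6 : n ∈ centralizer ({xN} : Set NX) := h ▸ mem_top n
      exact hn (by rw [mem_centralizer_singleton_iff.1 h6, mul_inv_cancel_right])
    have h7 : (centralizer ({xN} : Set NX)).index ≠ 0 := index_ne_zero_of_finite
    have h8 := Nat.mul_le_mul_left (Nat.card (centralizer ({xN} : Set NX)))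
      (show 2 ≤ (centralizer ({xN} : Set NX)).index by omega)
    rw [h4, card_NX] at h8
    rw [h2]
    omega
  have h9 : (⟨g, mem_NX_of_comm hg.symm⟩ : NX) ∈ closure DN := by
    rw [eq_of_le_of_card_ge h1 h3]
    exact mem_centralizer_singleton_iff.2 (Subtype.ext hg.symm.eq)
  have := dat.normal_Q
  rw [dat.closure_D, sup_comm, ← SetLike.mem_coe, mul_normal] at h9
  obtain ⟨s, hs, x, hx, e⟩ := h9
  refine ⟨s, ?_, x, ⟨x, hx, rfl⟩, (congrArg Subtype.val e).symm⟩
  rw [← S0_eq, ← map_S0]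
  exact ⟨s, hs, rfl⟩

theorem faith0 {s : Fi24} (hs : s ∈ H5) (h : ∀ x ∈ Q0, Commute s x) : s = 1 := by
  obtain ⟨y, hy, rfl⟩ := mem_S0 hs
  obtain ⟨f, hf⟩ := exists_fdat
  have := simple_psu5
  have h1 : y ∈ QQ DN := cent_QQ (mem_centralizer_iff.2 fun q hq => Subtype.ext (h q ⟨q, hq, rfl⟩).symm.eq)
  have h2 : y ∈ QQ DN ⊓ S0 DN zN := ⟨h1, hy⟩
  have := finite_Fi24
  rw [dat.Q_inf hf two_dvd_psu5, mem_bot] at h2
  rw [h2]
  rfl

theorem card_H5 : Nat.card H5 = 27371520 := by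
  have := finite_Fi24
  have : Fact (Nat.Prime 2) := ⟨Nat.prime_two⟩
  obtain ⟨f, h1, h2, -⟩ := H834.U5.exists_hom
  have h3 : f.ker = zpowers ⟨z0, z0_mem⟩ := by
    apply le_antisymm
    · intro x hx
      rcases (h2 x).1 hx with k | k
      · rw [show x = 1 from Subtype.ext k]; exact one_mem _
      · rw [show x = ⟨z0, z0_mem⟩ from Subtype.ext k]; exact mem_zpowers _
    · exact zpowers_le.2 ((h2 _).2 (Or.inr rfl))
  rw [← S0_eq, card_eq_card_quotient_mul_card_subgroup f.ker,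
    Nat.card_congr (QuotientGroup.quotientKerEquivOfSurjective f h1).toEquiv, card_psu5, h3, Nat.card_zpowers,
    orderOf_eq_prime (p := 2) (Subtype.ext (by rw [pow_two]; exact z0_sq)) (fun k => z0_ne (congrArg Subtype.val k))]

/-- the model -/
noncomputable def DM : Md.Mod Fi24 where
  z := x3
  Q := Q0
  S := H5
  vec := vec
  z3 := x3_cube
  z1 := x3_ne
  es := es0
  add := vd.add
  ker := vd.ker
  surj := vd.surj
  norm := fun hg hx => norm0 hg _ hx
  comm := fun hs => (H5_x3 hs).symm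
  dec := dec0
  split := fun hs hx h => vd.split (t := z0⁻¹) (norm0 z0_x3.symm.inv_right) (fun j hj => by
      obtain ⟨y, e, -, k⟩ := be_spec hj
      rw [inv_inv, ← e]
      exact congrArg Subtype.val k) z0_x3.symm.inv_right (norm0 (H5_x3 hs).symm) (H5_x3 hs).symm
    (Commute.inv_right (H5_z0 hs)) hx h
  faith := faith0
  card := card_H5

theorem rep_of {g : List Gen} {A : ℕ} (hS : word g ∈ H5) (hA : redC C A = true) (h1 : allBelow (rC g A) 6 = true)
    (h2 : allBelow (fun j => rC g A (j + 6)) 4 = true) : DM.Rep (word g) A := by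
  have rA := redG_of_check gd hA
  have hn := norm0 (H5_x3 hS).symm
  refine ⟨hS, rA, fun x hx => vd.rep hn (fun j => funext fun k => ?_) hx⟩
  have hj : j.val < 10 := j.isLt
  have h3 : rC g A j = true := by
    by_cases h : j.val < 6
    · exact allBelow_spec h1 j h
    · have := allBelow_spec h2 (j - 6) (by omega)
      rwa [show j.val - 6 + 6 = j by omega] at this
  refine vec_of_pts (hn _ (be_mem j hj)) (fun k => dg 12 A (j + 10 * k)) (fun k => rA.lt gd _) (fun i hi => ?_) k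
  have h4 := rho_of_chkPt (allBelow_spec h3 i hi)
  rwa [word_append, word_append, word_reverse, ← mul_assoc] at h4

theorem rep_ge : List.Forall₂ DM.Rep geL MG := by
  have h := allL_spec red_MG
  exact .cons (rep_of (ge_mem (by decide)) (h g0 (by simp [MG])) r_chk0a r_chk0b)
    (.cons (rep_of (ge_mem (by decide)) (h g1 (by simp [MG])) r_chk1a r_chk1b)
    (.cons (rep_of (ge_mem (by decide)) (h g2 (by simp [MG])) r_chk2a r_chk2b)
    (.cons (rep_of (ge_mem (by decide)) (h g3 (by simp [MG])) r_chk3a r_chk3b)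
    (.cons (rep_of (ge_mem (by decide)) (h g4 (by simp [MG])) r_chk4a r_chk4b) .nil))))

/-! ### words in the generators of `Q0` -/

def vb (j : ℕ) : V := fun i => if i.val = j then 1 else if i.val + 10 = j then -1 else 0

noncomputable def vlB (l : List ℕ) (R : ℕ) : Bool :=
  allL (fun j => Nat.blt j 20) l && decide (∀ i : Fin C.n, (l.map vb).sum i = rowVec C R i)

theorem qb_spec {j : ℕ} (hj : j < 20) : word (qb j) ∈ Q0 ∧ vec (word (qb j)) = vb j := by
  classical
  by_cases h : j < 10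
  · have e : qb j = bw j := by rw [qb, Nat.blt_eq.mpr h, cond_true]
    rw [e]
    refine ⟨be_mem j h, (vd.bas ⟨j, h⟩).trans (funext fun i => ?_)⟩
    rw [Pi.single_apply, vb, if_neg (show ¬ i.val + 10 = j by omega)]
    simp only [Fin.ext_iff]
  · have e : qb j = (bw (j - 10)).reverse := by
      rw [qb, show Nat.blt j 10 = false from Bool.eq_false_iff.2 fun k => h (Nat.blt_eq.mp k), cond_false]
    have h1 : j - 10 < 10 := by omega
    rw [e, word_reverse]
    refine ⟨inv_mem (be_mem _ h1), (vd.inv (be_mem _ h1)).trans ?_⟩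
    rw [vd.bas ⟨j - 10, h1⟩]
    funext i
    have hi : i.val < 10 := i.isLt
    rw [Pi.neg_apply, Pi.single_apply, vb, if_neg (show ¬ i.val = j by omega)]
    by_cases k : i.val + 10 = j
    · rw [if_pos k, if_pos (Fin.ext (by simp only; omega))]
    · rw [if_neg k, if_neg (fun e => k (by have := congrArg Fin.val e; simp only at this; omega)), neg_zero]

theorem qw_spec {l : List ℕ} {R : ℕ} (h : vlB l R = true) : word (qw l) ∈ Q0 ∧ vec (word (qw l)) = rowVec C R := by
  rw [vlB, Bool.and_eq_true, decide_eq_true_eq] at h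
  rw [← funext h.2]
  have h1 : ∀ j ∈ l, j < 20 := fun j hj => Nat.blt_eq.mp (allL_spec h.1 j hj)
  clear h
  induction l with
  | nil => exact ⟨one_mem _, vd.one⟩
  | cons j l ih =>
    obtain ⟨k1, k2⟩ := ih fun i hi => h1 i (List.mem_cons_of_mem _ hi)
    obtain ⟨k3, k4⟩ := qb_spec (h1 j List.mem_cons_self)
    have e : word (qw (j :: l)) = word (qb j) * word (qw l) := word_append _ _
    rw [e, vd.add k3 k1, k2, k4, List.map_cons, List.sum_cons]
    exact ⟨mul_mem k3 k1, rfl⟩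

end Cfsg.Agent.SB.F24.Wd
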