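import Cfsg.Agent.SB.Mon.F24.Mod

/-!
# S5765, the row `Fi24'`: coordinates on `Q / ⟨z⟩` (helper96)
-/

set_option autoImplicit false

namespace Cfsg.Agent.SB.F24.Md

open Subgroup
open scoped Matrix
open Cfsg.Agent.H841.Ext (ES)
open Cfsg.Agent.Lib.PackMat

variable {G : Type} [Group G]

/-- coordinates with respect to the generators `β` -/
structure VD (z : G) (Q : Subgroup G) (β : ℕ → G) (vec : G → V) : Prop where
  es : ES (zpowers z) Q
  mem : ∀ j < 10, β j ∈ Q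
  gen : Q ≤ closure {g | ∃ j < 10, g = β j}
  add : ∀ {x y}, x ∈ Q → y ∈ Q → vec (x * y) = vec x + vec y
  ker : ∀ {x}, x ∈ Q → (vec x = 0 ↔ x ∈ zpowers z)
  surj : ∀ v, ∃ x ∈ Q, vec x = v
  bas : ∀ j : Fin C.n, vec (β j) = Pi.single j 1

theorem exists_lin' {B : Type} [AddCommGroup B] [Module (ZMod C.p) B] (hc : Nat.card B = 3 ^ 10)
    (b : Fin C.n → B) (hb : ∀ W : AddSubgroup B, (∀ j, b j ∈ W) → ∀ a, a ∈ W) :
    ∃ e : B → V, Function.Bijective e ∧ (∀ x y, e (x + y) = e x + e y) ∧ e 0 = 0 ∧ ∀ j, e (b j) = Pi.single j 1 := by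
  classical
  have : NeZero C.p := ⟨by decide⟩
  let φ : V →ₗ[ZMod C.p] B := Fintype.linearCombination (ZMod C.p) b
  have φs : ∀ j : Fin C.n, φ (Pi.single j 1) = b j := fun j => by
    rw [Fintype.linearCombination_apply_single, one_smul]
  have h2 : Function.Surjective φ := fun a => hb (LinearMap.range φ).toAddSubgroup (fun j => ⟨_, φs j⟩) a
  have h5 : Nat.card V = 3 ^ 10 := by
    rw [Nat.card_fun, Nat.card_zmod, Nat.card_eq_fintype_card, Fintype.card_fin]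
    rfl
  let e := LinearEquiv.ofBijective φ (h2.bijective_of_nat_card_le (by rw [h5, hc]))
  refine ⟨e.symm, e.symm.bijective, map_add _, map_zero _, fun j => ?_⟩
  rw [LinearEquiv.symm_apply_eq]
  exact (φs j).symm

theorem exists_lin {A : Type} [CommGroup A] (h3 : ∀ a : A, a ^ 3 = 1) (hc : Nat.card A = 3 ^ 10)
    (b : Fin C.n → A) (hb : ∀ W : Subgroup A, (∀ j, b j ∈ W) → ∀ a, a ∈ W) :
    ∃ e : A → V, Function.Bijective e ∧ (∀ x y, e (x * y) = e x + e y) ∧ e 1 = 0 ∧ ∀ j, e (b j) = Pi.single j 1 := by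
  have : NeZero C.p := ⟨by decide⟩
  exact @exists_lin' (Additive A) _ (AddCommGroup.zmodModule (fun a => h3 a.toMul)) hc b
    (fun W hW a => hb (AddSubgroup.toSubgroup' W) hW a)

theorem exists_vec [Finite G] {z : G} {Q : Subgroup G} (es : ES (zpowers z) Q) (hz : Nat.card (zpowers z) = 3)
    (hQ : Nat.card Q = 3 ^ 11) (β : ℕ → G) (hβ : ∀ j < 10, β j ∈ Q) (hg : Q ≤ closure {g | ∃ j < 10, g = β j}) :
    ∃ vec, VD z Q β vec := by
  classical
  let N : Subgroup Q := (zpowers z).subgroupOf Q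
  have hN : N.Normal := ⟨fun a ha g => by
    have h1 := (es.cen a ha g g.2).eq
    show (g : G) * a * (g : G)⁻¹ ∈ zpowers z
    rw [← h1, mul_inv_cancel_right]
    exact ha⟩
  let cg : CommGroup (Q ⧸ N) :=
    { (inferInstance : Group (Q ⧸ N)) with
      mul_comm := fun a b => by
        obtain ⟨a, rfl⟩ := QuotientGroup.mk_surjective a
        obtain ⟨b, rfl⟩ := QuotientGroup.mk_surjective b
        rw [← QuotientGroup.mk_mul, ← QuotientGroup.mk_mul, QuotientGroup.eq]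
        have h1 := es.com _ (inv_mem b.2) _ (inv_mem a.2)
        show ((a : G) * b)⁻¹ * ((b : G) * a) ∈ zpowers z
        rwa [show ((a : G) * b)⁻¹ * ((b : G) * a) = (b : G)⁻¹ * (a : G)⁻¹ * (b : G)⁻¹⁻¹ * (a : G)⁻¹⁻¹ by group] }
  have h3 : Nat.card (Q ⧸ N) = 3 ^ 10 := by
    have h4 := card_eq_card_quotient_mul_card_subgroup N
    rw [hQ, Nat.card_congr (subgroupOfEquivOfLe es.le).toEquiv, hz] at h4
    omega
  obtain ⟨e, e1, e2, e3, e4⟩ := @exists_lin (Q ⧸ N) cg (fun a => by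
      obtain ⟨x, rfl⟩ := QuotientGroup.mk_surjective a
      refine (QuotientGroup.mk_pow N x 3).symm.trans ((QuotientGroup.eq_one_iff _).2 ?_)
      show (x : G) ^ 3 ∈ zpowers z
      rw [es.cub x x.2]
      exact one_mem _) h3 (fun j => QuotientGroup.mk ⟨β j, hβ j j.isLt⟩) (fun W hW a => by
      have h1 : ∀ x ∈ closure {g | ∃ j < 10, g = β j}, ∃ hx : x ∈ Q, (QuotientGroup.mk ⟨x, hx⟩ : Q ⧸ N) ∈ W := by
        intro x hx
        induction hx using closure_induction with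
        | mem x hx =>
          obtain ⟨j, hj, rfl⟩ := hx
          exact ⟨hβ j hj, hW ⟨j, hj⟩⟩
        | one => exact ⟨one_mem _, one_mem W⟩
        | mul x y _ _ ihx ihy => exact ⟨mul_mem ihx.1 ihy.1, mul_mem ihx.2 ihy.2⟩
        | inv x _ ih => exact ⟨inv_mem ih.1, inv_mem ih.2⟩
      obtain ⟨x, rfl⟩ := QuotientGroup.mk_surjective a
      exact (h1 x (hg x.2)).2)
  have hv : ∀ {x} (hx : x ∈ Q), (if h : x ∈ Q then e (QuotientGroup.mk ⟨x, h⟩) else 0) = e (QuotientGroup.mk ⟨x, hx⟩) :=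
    fun hx => dif_pos hx
  refine ⟨fun x => if h : x ∈ Q then e (QuotientGroup.mk ⟨x, h⟩) else 0, es, hβ, hg, fun hx hy => ?_, fun hx => ?_,
    fun v => ?_, fun j => ?_⟩
  · rw [hv hx, hv hy, hv (mul_mem hx hy), ← e2]
    rfl
  · rw [hv hx, ← e3, e1.1.eq_iff]
    exact QuotientGroup.eq_one_iff (N := N) ⟨_, hx⟩
  · obtain ⟨a, rfl⟩ := e1.2 v
    obtain ⟨x, rfl⟩ := QuotientGroup.mk_surjective a
    exact ⟨x, x.2, hv x.2⟩
  · rw [hv (hβ j j.isLt)]
    exact e4 j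

namespace VD

variable {z : G} {Q : Subgroup G} {β : ℕ → G} {vec : G → V} (H : VD z Q β vec)

include H

theorem one : vec 1 = 0 := (H.ker (one_mem _)).2 (one_mem _)

theorem inv {x : G} (hx : x ∈ Q) : vec x⁻¹ = -vec x := by
  have h := H.add hx (inv_mem hx)
  rw [mul_inv_cancel, H.one] at h
  exact (neg_eq_of_add_eq_zero_right h.symm).symm

theorem pow {x : G} (hx : x ∈ Q) (n : ℕ) : vec (x ^ n) = n • vec x := by
  induction n with
  | zero => rw [pow_zero, zero_smul, H.one]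
  | succ n ih => rw [pow_succ, H.add (pow_mem hx n) hx, ih, succ_nsmul]

theorem eq {x y : G} (hx : x ∈ Q) (hy : y ∈ Q) (h : vec x = vec y) : ∃ a ∈ zpowers z, x = y * a := by
  refine ⟨y⁻¹ * x, (H.ker (mul_mem (inv_mem hy) hx)).1 ?_, by group⟩
  rw [H.add (inv_mem hy) hx, H.inv hy, h, neg_add_cancel]

/-- only the generators with nonzero coordinate are needed -/
theorem ind {K : Subgroup G} (hz : z ∈ K) {x : G} (hx : x ∈ Q) (h : ∀ j : Fin C.n, vec x j ≠ 0 → β j ∈ K) : x ∈ K := by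
  classical
  have : NeZero C.p := ⟨by decide⟩
  have hZ : zpowers z ≤ K := zpowers_le.2 hz
  let W : AddSubmonoid V :=
    { carrier := {v | ∀ x ∈ Q, vec x = v → x ∈ K}
      zero_mem' := fun x hx e => hZ ((H.ker hx).1 e)
      add_mem' := by
        intro u v hu hv x hx e
        obtain ⟨a, ha, ea⟩ := H.surj u
        obtain ⟨b, hb, eb⟩ := H.surj v
        obtain ⟨c, hc, rfl⟩ := H.eq hx (mul_mem ha hb) (by rw [e, H.add ha hb, ea, eb])
        exact mul_mem (mul_mem (hu a ha ea) (hv b hb eb)) (hZ hc) }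
  have hW : vec x ∈ W := by
    rw [pi_eq_sum_univ' (vec x)]
    refine sum_mem fun j _ => ?_
    by_cases h0 : vec x j = 0
    · rw [h0, zero_smul]
      exact zero_mem _
    · rw [← ZMod.natCast_zmod_val (vec x j), Nat.cast_smul_eq_nsmul]
      refine nsmul_mem (fun y hy e => ?_) _
      obtain ⟨c, hc, rfl⟩ := H.eq hy (H.mem j j.isLt) (e.trans (H.bas j).symm)
      exact mul_mem (h j h0) (hZ hc)
  exact hW x hx rfl

/-- the matrix is determined by its rows -/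
theorem rep {g : G} (hg : ∀ x ∈ Q, g⁻¹ * x * g ∈ Q) {M : Matrix (Fin C.n) (Fin C.n) (ZMod C.p)}
    (h : ∀ j : Fin C.n, vec (g⁻¹ * β j * g) = M j) {x : G} (hx : x ∈ Q) : vec (g⁻¹ * x * g) = vec x ᵥ* M := by
  have h1 : ∀ x ∈ closure {g | ∃ j < 10, g = β j}, x ∈ Q ∧ vec (g⁻¹ * x * g) = vec x ᵥ* M := by
    intro x hx
    induction hx using closure_induction with
    | mem x hx =>
      obtain ⟨j, hj, rfl⟩ := hx
      exact ⟨H.mem j hj, by rw [H.bas ⟨j, hj⟩, Matrix.single_one_vecMul]; exact h ⟨j, hj⟩⟩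
    | one => exact ⟨one_mem _, by rw [mul_one, inv_mul_cancel, H.one, Matrix.zero_vecMul]⟩
    | mul x y _ _ ihx ihy =>
      refine ⟨mul_mem ihx.1 ihy.1, ?_⟩
      rw [show g⁻¹ * (x * y) * g = (g⁻¹ * x * g) * (g⁻¹ * y * g) by group, H.add (hg x ihx.1) (hg y ihy.1), ihx.2, ihy.2,
        H.add ihx.1 ihy.1, Matrix.add_vecMul]
    | inv x _ ih =>
      refine ⟨inv_mem ih.1, ?_⟩
      rw [show g⁻¹ * x⁻¹ * g = (g⁻¹ * x * g)⁻¹ by group, H.inv (hg x ih.1), ih.2, H.inv ih.1, Matrix.neg_vecMul]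
  exact (h1 x (H.gen hx)).2

/-- an element commuting with the inverting involution fixes an element as soon as it fixes its class -/
theorem split {t s x : G} (ht : ∀ x ∈ Q, t⁻¹ * x * t ∈ Q) (hi : ∀ j < 10, t⁻¹ * β j * t = (β j)⁻¹) (tz : Commute z t)
    (hs : ∀ x ∈ Q, s⁻¹ * x * s ∈ Q) (sz : Commute z s) (st : Commute s t) (hx : x ∈ Q) (h : vec (s⁻¹ * x * s) = vec x) :
    Commute s x := by
  have cZ : ∀ {g a}, Commute z g → a ∈ zpowers z → Commute a g := by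
    rintro g _ hg ⟨k, rfl⟩
    exact hg.zpow_left k
  have h1 : vec (t⁻¹ * x * t) = vec x⁻¹ := by
    rw [H.rep ht (M := -1) (fun j => by
      rw [hi j j.isLt, H.inv (H.mem j j.isLt), H.bas j]
      funext k
      simp [Pi.single_apply, Matrix.one_apply, eq_comm]) hx, Matrix.vecMul_neg, Matrix.vecMul_one, H.inv hx]
  obtain ⟨c, hc, e1⟩ := H.eq (hs x hx) hx h
  obtain ⟨d, hd, e2⟩ := H.eq (ht x hx) (inv_mem hx) h1
  have cx := H.es.cen c hc x hx
  have e3 : t⁻¹ * (s⁻¹ * x * s) * t = s⁻¹ * (t⁻¹ * x * t) * s := by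
    rw [← mul_assoc, ← mul_assoc, ← st.inv_inv.eq, mul_assoc _ s t, st.eq]; group
  have e4 : t⁻¹ * (s⁻¹ * x * s) * t = x⁻¹ * d * c := by
    rw [e1, ← e2, mul_assoc t⁻¹, mul_assoc x, (cZ tz hc).eq]; group
  have e5 : s⁻¹ * (t⁻¹ * x * t) * s = x⁻¹ * d * c⁻¹ := by
    calc s⁻¹ * (t⁻¹ * x * t) * s = (s⁻¹ * x * s)⁻¹ * d := by
          rw [e2, mul_assoc s⁻¹, mul_assoc x⁻¹, (cZ sz hd).eq]; group
      _ = x⁻¹ * d * c⁻¹ := by
          rw [e1, ← cx.eq, mul_inv_rev, mul_assoc, mul_assoc, (H.es.cen c hc d (H.es.le hd)).inv_left.eq]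
  have e6 : c = c⁻¹ := mul_left_cancel (e4.symm.trans (e3.trans e5))
  have e7 : c = 1 := by
    have h3 := H.es.cub c (H.es.le hc)
    rw [pow_three', eq_inv_iff_mul_eq_one.1 e6, one_mul] at h3
    exact h3
  rw [e7, mul_one, mul_assoc, inv_mul_eq_iff_eq_mul] at e1
  exact e1.symm

end VD

end Cfsg.Agent.SB.F24.Md
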